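import Cfsg.Agent.H189.FeitTits
import Cfsg.Agent.H189.Eig
import Cfsg.Agent.H614.AMod.Main
import Mathlib
import Cfsg.Agent.H337.HT.NumP
import Cfsg.Agent.H530.HT.PSpPNum_m3
import Cfsg.Agent.S0892
import Cfsg.Agent.H337.HT.Big_mg_m3
import Cfsg.Agent.H742.HT.L213_m3
import Cfsg.Agent.H97.Sp4Ext
import Cfsg.Agent.LieClassical.FieldTransfer
import Cfsg.Agent.H392.HT.SixL34_m3
import Cfsg.Agent.H952.F4.Scott_m3
import Cfsg.Agent.H428.SylNorm.Eight
import Cfsg.Agent.H93.UG.AutCard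
import Cfsg.Agent.H153.ZerosSuz
import Cfsg.Agent.H834.Sax.GTwo
import Cfsg.Agent.H710.VanCount
import Cfsg.Agent.H208.DS.Cent
import Cfsg.Agent.S1694
import Cfsg.Agent.S2074
import Cfsg.Agent.FastGrp
import Cfsg.Agent.Prune
set_option linter.all false

section
prune_inst 0x7ffeecf9abb8b9dfffff7e7fa6d8cffc3b949fffe4dff94bffe06bff8bdf030209c5fbad09e050fe0e96c03c10a87843f9ffdeffe26bdc7ffffd5ff41ffbee1ff5f7b50871d48c340fbc2fff83f07f8e7f3fffffffffffffffffffffffffffbeffbffffffffd

-- part: H953/HTA/G_mg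
section
prune_inst 0x400000000000000000000000000000000000000000000000000004000000000000000020020000000000000000000000000000000000000000000000000000000000000000000000000000000000000000000000000000000
set_option linter.all false
open scoped Cfsg.Agent.FastGrp

-- part: H953/HTA/A
section
/-!
# Representations of covers of `A_n` and eigenspaces of `r`-cycles (helper953, S3512)

* `Cov n π` : `π : L → A_n` onto, with central kernel of exponent two;
* `exists_cyc` : an `r`-cycle, `r` odd, and its lift of order `r`;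
* `Cov.conj` : it is conjugate to its powers;
* `totient_mul_le` : `φ(r) dim V_μ ≤ dim V`;
* `Cov.triv_eig` : if `dim V < φ(r) (n - r - 2)` then a group of order divisible by `|A_{n - r}|` is trivial on `V_μ(c)`,
  `c` an `r`-cycle, `μ` a primitive `r`-th root of unity.
-/

set_option autoImplicit false
set_option linter.unusedSectionVars false

namespace Cfsg.Agent.H953.HTA

open Equiv Equiv.Perm Module Cfsg.Agent.H614.AMod

/-- a group over `A_n` with central kernel of exponent two -/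
structure Cov (n : ℕ) {L : Type*} [Group L] (π : L →* alternatingGroup (Fin n)) : Prop where
  surj : Function.Surjective π
  ker : ∀ k, π k = 1 → k ^ 2 = 1 ∧ ∀ g, k * g = g * k

section eig

variable {k V : Type*} [Field k] [AddCommGroup V] [Module k V] [FiniteDimensional k V]

theorem totient_mul_le {r : ℕ} (T : End k V) {μ : k} (hμ : IsPrimitiveRoot μ r)
    (h : ∀ i : ℕ, i.Coprime r → finrank k (T.eigenspace μ) ≤ finrank k (T.eigenspace (μ ^ i))) :
    Nat.totient r * finrank k (T.eigenspace μ) ≤ finrank k V := by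
  classical
  let ι := {i : Fin r // (i : ℕ).Coprime r}
  have h1 := H189.Eig.eigen_sum_le (ι := ι) T (fun i => μ ^ (i.1 : ℕ)) (by
    intro i j hij
    have := hμ.pow_inj i.1.2 j.1.2 hij
    exact Subtype.ext (Fin.ext this))
  refine le_trans ?_ h1
  have h2 : Fintype.card ι = Nat.totient r := by
    rw [Nat.totient_eq_card_coprime, Fintype.card_subtype]
    refine Finset.card_bij (fun i _ => (i : ℕ)) ?_ ?_ ?_
    · intro i hi
      rw [Finset.mem_filter] at hi ⊢
      exact ⟨Finset.mem_range.2 i.2, hi.2.symm⟩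
    · intro i _ j _ hij
      exact Fin.ext hij
    · intro b hb
      rw [Finset.mem_filter, Finset.mem_range] at hb
      exact ⟨⟨b, hb.1⟩, by rw [Finset.mem_filter]; exact ⟨Finset.mem_univ _, hb.2.symm⟩, rfl⟩
  calc Nat.totient r * finrank k (T.eigenspace μ) = ∑ _i : ι, finrank k (T.eigenspace μ) := by
        rw [Finset.sum_const, Finset.card_univ, h2, smul_eq_mul]
    _ ≤ _ := Finset.sum_le_sum fun i _ => h _ i.2

end eig

/-- an `r`-cycle and the embedding of the complement -/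
theorem exists_cyc {n r : ℕ} (hr : 2 ≤ r) (ho : Odd r) (hn : r + 2 ≤ n) :
    ∃ (c : alternatingGroup (Fin n)) (e : Fin (n - r) ↪ Fin n), (c : Perm (Fin n)).IsCycle ∧
      (c : Perm (Fin n)).support.card = r ∧ ∀ i, (c : Perm (Fin n)) (e i) = e i := by
  obtain ⟨g, hg⟩ := (exists_with_cycleType_iff (α := Fin n) (m := {r})).2
    ⟨by rw [Multiset.sum_singleton, Fintype.card_fin]; omega, by
      intro a ha
      rw [Multiset.mem_singleton] at ha
      omega⟩
  have hcyc : g.IsCycle := by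
    rw [← card_cycleType_eq_one, hg, Multiset.card_singleton]
  have hs : g.support.card = r := by
    rw [← sum_cycleType, hg, Multiset.sum_singleton]
  have hsg : g ∈ alternatingGroup (Fin n) := by
    rw [mem_alternatingGroup, hcyc.sign, hs, ho.neg_one_pow, neg_neg]
  have hcc : Fintype.card {x // x ∈ g.supportᶜ} = n - r := by
    rw [Fintype.card_coe, Finset.card_compl, Fintype.card_fin, hs]
  let f := (Fintype.equivFinOfCardEq hcc).symm
  refine ⟨⟨g, hsg⟩, f.toEmbedding.trans (Function.Embedding.subtype _), hcyc, hs, fun i => ?_⟩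
  have h1 := (f i).2
  rw [Finset.mem_compl, notMem_support] at h1
  exact h1

theorem comm_ex {n r : ℕ} {c : alternatingGroup (Fin n)} {e : Fin (n - r) ↪ Fin n}
    (he : ∀ i, (c : Perm (Fin n)) (e i) = e i) (σ : alternatingGroup (Fin (n - r))) : c * ex e σ = ex e σ * c := by
  apply Subtype.ext
  apply Equiv.ext
  intro x
  show (c : Perm (Fin n)) ((ex e σ : Perm (Fin n)) x) = (ex e σ : Perm (Fin n)) ((c : Perm (Fin n)) x)
  by_cases hx : ∃ i, e i = x
  · obtain ⟨i, rfl⟩ := hx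
    rw [he, ex_apply, he]
  · rw [not_exists] at hx
    rw [ex_of_notMem e σ hx, ex_of_notMem e σ]
    intro i hi
    rw [← he i] at hi
    exact hx i ((c : Perm (Fin n)).injective hi)

/-- an `r`-cycle is conjugate to its powers -/
theorem conj_cyc {n r : ℕ} (hn : r + 2 ≤ n) {c : alternatingGroup (Fin n)} (hc : (c : Perm (Fin n)).IsCycle)
    (hs : (c : Perm (Fin n)).support.card = r) {i : ℕ} (hi : i.Coprime r) :
    ∃ g : alternatingGroup (Fin n), g * c * g⁻¹ = c ^ i := by
  have ho : orderOf (c : Perm (Fin n)) = r := by rw [hc.orderOf, hs]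
  have h1 : ((c : Perm (Fin n)) ^ i).IsCycle := by
    rw [IsCycle.pow_iff hc, ho]
    exact hi
  have h2 : ((c : Perm (Fin n)) ^ i).support = (c : Perm (Fin n)).support :=
    support_pow_coprime (by rw [ho]; exact hi)
  have h3 : IsConj (c : Perm (Fin n)) ((c ^ i : alternatingGroup (Fin n)) : Perm (Fin n)) := by
    rw [isConj_iff_cycleType_eq, Subgroup.coe_pow, hc.cycleType, h1.cycleType, h2]
  have h4 := alternatingGroup.isConj_of h3 (by rw [hs, Fintype.card_fin]; exact hn)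
  exact isConj_iff.1 h4

variable {n : ℕ} {L : Type*} [Group L] {π : L →* alternatingGroup (Fin n)}

theorem Cov.eq_one (h : Cov n π) {r : ℕ} (hr : Odd r) {k : L} (hk : π k = 1) (hkr : k ^ r = 1) : k = 1 := by
  obtain ⟨j, rfl⟩ := hr
  rw [pow_succ, pow_mul, (h.ker k hk).1, one_pow, one_mul] at hkr
  exact hkr

/-- the lift of order `r` -/
theorem Cov.lift (h : Cov n π) {r : ℕ} (hr : Odd r) {c : alternatingGroup (Fin n)} (hc : c ^ r = 1) :
    ∃ x, π x = c ∧ x ^ r = 1 := by
  obtain ⟨g, rfl⟩ := h.surj c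
  obtain ⟨j, hj⟩ := hr
  refine ⟨g ^ (r + 1), by rw [map_pow, pow_succ, hc, one_mul], ?_⟩
  have h1 := (h.ker (g ^ r) (by rw [map_pow, hc])).1
  rw [← pow_mul, mul_comm, pow_mul, show r + 1 = 2 * (j + 1) by omega, pow_mul, h1, one_pow]

/-- conjugacy of elements of odd order can be lifted -/
theorem Cov.conj (h : Cov n π) {r : ℕ} (hr : Odd r) {x y g : L} (hx : x ^ r = 1) (hy : y ^ r = 1)
    (hg : π g * π x * (π g)⁻¹ = π y) : g * x * g⁻¹ = y := by
  have hk : π (y⁻¹ * (g * x * g⁻¹)) = 1 := by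
    rw [map_mul, map_inv, map_mul, map_mul, map_inv, hg, inv_mul_cancel]
  have hz := (h.ker _ hk).2
  have h1 : (y⁻¹ * (g * x * g⁻¹)) ^ r = 1 := by
    have hc : Commute y (y⁻¹ * (g * x * g⁻¹)) := (hz y).symm
    have h2 : (y * (y⁻¹ * (g * x * g⁻¹))) ^ r = y ^ r * (y⁻¹ * (g * x * g⁻¹)) ^ r := hc.mul_pow r
    rw [mul_inv_cancel_left, hy, one_mul, conj_pow, hx, mul_one, mul_inv_cancel] at h2
    exact h2.symm
  have h3 := h.eq_one hr hk h1
  rwa [inv_mul_eq_one, eq_comm] at h3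

/-- commuting modulo the kernel -/
theorem Cov.comm (h : Cov n π) {r : ℕ} (hr : Odd r) {x g : L} (hx : x ^ r = 1) (hg : π x * π g = π g * π x) :
    g * x = x * g := by
  have := h.conj hr (g := g) hx hx (by rw [← hg, mul_inv_cancel_right])
  rwa [mul_inv_eq_iff_eq_mul] at this

section main

variable {k : Type*} [Field k] {V : Type*} [AddCommGroup V] [Module k V] [FiniteDimensional k V]

theorem Cov.finrank_eig_le (h : Cov n π) {r : ℕ} (hr : Odd r) (hn : r + 2 ≤ n) {x : L} (hx : x ^ r = 1)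
    (hc : ((π x : alternatingGroup (Fin n)) : Perm (Fin n)).IsCycle)
    (hs : ((π x : alternatingGroup (Fin n)) : Perm (Fin n)).support.card = r) (σ : L →* End k V) {μ : k}
    (hμ : IsPrimitiveRoot μ r) : Nat.totient r * finrank k ((σ x).eigenspace μ) ≤ finrank k V := by
  have hr0 : 0 < r := hr.pos
  refine totient_mul_le _ hμ fun i hi => ?_
  -- the inverse of `i`
  obtain ⟨j, hj⟩ : ∃ j, i * j % r = 1 % r := by
    rcases Nat.lt_or_ge 1 r with h1 | h1
    · obtain ⟨j, -, hj⟩ := Nat.exists_mul_mod_eq_one_of_coprime hi h1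
      exact ⟨j, by rw [hj, Nat.mod_eq_of_lt h1]⟩
    · obtain rfl : r = 1 := by omega
      exact ⟨0, by rw [Nat.mod_one]⟩
  have hjr : j.Coprime r := by
    have h2 : (i * j).gcd r = 1 := by
      rw [(show i * j ≡ 1 [MOD r] from hj).gcd_eq, Nat.gcd_one_left]
    exact Nat.Coprime.coprime_mul_left h2
  obtain ⟨g, hg⟩ := conj_cyc hn hc hs hjr
  obtain ⟨g, rfl⟩ := h.surj g
  have hgx : g * x * g⁻¹ = x ^ j := by
    refine h.conj hr hx (by rw [← pow_mul, mul_comm, pow_mul, hx, one_pow]) ?_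
    rw [hg, map_pow]
  have hxij : x ^ (j * i) = x := by
    have h3 : x ^ (i * j) = x ^ (1 % r) := by
      rw [← hj, ← pow_mod_orderOf x (i * j), ← pow_mod_orderOf x (i * j % r),
        Nat.mod_mod_of_dvd _ (orderOf_dvd_of_pow_eq_one hx)]
    rw [mul_comm, h3, ← pow_mod_orderOf x (1 % r), Nat.mod_mod_of_dvd _ (orderOf_dvd_of_pow_eq_one hx),
      pow_mod_orderOf, pow_one]
  have hmul : ∀ a b : L, ∀ v, σ (a * b) v = σ a (σ b v) := fun a b v => by rw [map_mul, End.mul_apply]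
  refine LinearMap.finrank_le_finrank_of_injective
    (f := (σ g).restrict (p := (σ x).eigenspace μ) (q := (σ x).eigenspace (μ ^ i)) fun v hv => ?_) fun u v huv => ?_
  · rw [End.mem_eigenspace_iff] at hv ⊢
    have h4 : σ (x ^ j) (σ g v) = μ • σ g v := by
      rw [← hmul, ← hgx, inv_mul_cancel_right, hmul, hv, map_smul]
    have h5 : ∀ t : ℕ, σ ((x ^ j) ^ t) (σ g v) = μ ^ t • σ g v := by
      intro t
      induction t with
      | zero => rw [pow_zero, map_one, pow_zero, one_smul]; rfl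
      | succ t ih => rw [pow_succ, hmul, h4, map_smul, ih, smul_smul, pow_succ, mul_comm]
    have h6 := h5 i
    rw [← pow_mul, hxij] at h6
    exact h6
  · have h7 : σ g (u : V) = σ g (v : V) := congrArg Subtype.val huv
    have h8 := congrArg (σ g⁻¹) h7
    rw [← hmul, ← hmul, inv_mul_cancel, map_one] at h8
    exact Subtype.ext h8

/-- **the eigenspaces of `r`-cycles** -/
theorem Cov.triv_eig [Finite L] (p : ℕ) [CharP k p] (h : Cov n π) {r : ℕ} (hr : Odd r) (hn : r + 9 ≤ n) {x : L}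
    (hx : x ^ r = 1) (hc : ((π x : alternatingGroup (Fin n)) : Perm (Fin n)).IsCycle)
    (hs : ((π x : alternatingGroup (Fin n)) : Perm (Fin n)).support.card = r) {e : Fin (n - r) ↪ Fin n}
    (he : ∀ i, ((π x : alternatingGroup (Fin n)) : Perm (Fin n)) (e i) = e i) (σ : L →* End k V) {μ : k}
    (hμ : IsPrimitiveRoot μ r) (hd : finrank k V < Nat.totient r * (n - r - 2)) :
    ∃ N : Subgroup L, N.map π = (ex e).range ∧ ∀ g ∈ N, ∀ v ∈ (σ x).eigenspace μ, σ g v = v := by
  classical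
  have hinj : Function.Injective (ex e) := by
    rw [injective_iff_map_eq_one]
    intro s hs1
    apply Subtype.ext
    apply Equiv.ext
    intro i
    apply e.injective
    rw [← ex_apply, hs1]
    rfl
  let C : Subgroup L := (ex e).range.comap π
  have hCx : ∀ y ∈ C, y * x = x * y := by
    intro y hy
    obtain ⟨s, hs1⟩ := Subgroup.mem_comap.1 hy
    refine h.comm hr hx ?_
    rw [← hs1]
    exact comm_ex he s
  have hmul : ∀ a b : L, ∀ v, σ (a * b) v = σ a (σ b v) := fun a b v => by rw [map_mul, End.mul_apply]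
  have hCE : ∀ y ∈ C, ∀ v ∈ (σ x).eigenspace μ, σ y v ∈ (σ x).eigenspace μ := by
    intro y hy v hv
    rw [End.mem_eigenspace_iff] at hv ⊢
    rw [← hmul, ← hCx y hy, hmul, hv, map_smul]
  -- the action on the eigenspace
  let ρ : C →* End k ((σ x).eigenspace μ) :=
    { toFun := fun y => (σ y).restrict (hCE y y.2)
      map_one' := by
        apply LinearMap.ext
        intro v
        apply Subtype.ext
        show σ ((1 : C) : L) (v : V) = v
        rw [Subgroup.coe_one, map_one]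
        rfl
      map_mul' := by
        intro a b
        apply LinearMap.ext
        intro v
        apply Subtype.ext
        show σ ((a * b : C) : L) (v : V) = σ a (σ b v)
        rw [Subgroup.coe_mul, hmul] }
  have hρ : ∀ (y : C) (v : (σ x).eigenspace μ), ((ρ y v : (σ x).eigenspace μ) : V) = σ y v := fun y v => rfl
  let π' : C →* alternatingGroup (Fin (n - r)) :=
    ((ex e).ofInjective hinj).symm.toMonoidHom.comp ((π.comp C.subtype).codRestrict (ex e).range fun y => y.2)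
  have hπ' : ∀ y : C, ex e (π' y) = π y := by
    intro y
    have h1 := ((ex e).ofInjective hinj).apply_symm_apply ((π.comp C.subtype).codRestrict (ex e).range (fun y => y.2) y)
    exact congrArg Subtype.val h1
  have hsurj : Function.Surjective π' := by
    intro s
    obtain ⟨y, hy⟩ := h.surj (ex e s)
    refine ⟨⟨y, Subgroup.mem_comap.2 ⟨s, hy.symm⟩⟩, hinj ?_⟩
    rw [hπ']
    exact hy
  have hlt : finrank k ((σ x).eigenspace μ) < n - r - 2 := by
    have h1 := h.finrank_eig_le hr (by omega) hx hc hs σ hμ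
    have h2 : Nat.totient r * finrank k ((σ x).eigenspace μ) < Nat.totient r * (n - r - 2) := lt_of_le_of_lt h1 hd
    exact Nat.lt_of_mul_lt_mul_left h2
  have hne : ¬ ∀ y, ρ y = 1 → π' y = 1 := by
    intro hk
    have h1 := H189.FeitTits.feit_tits (k := k) p (r := n - r) (by omega) π' hsurj ρ hk
    split_ifs at h1 <;> omega
  push Not at hne
  obtain ⟨y₀, hy₀, hy₁⟩ := hne
  have hsim : IsSimpleGroup (alternatingGroup (Fin (n - r))) := H189.FeitTits.alt_simple (by omega)
  have hN : (ρ.ker.map π').Normal := Subgroup.Normal.map inferInstance π' hsurj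
  have htop : ρ.ker.map π' = ⊤ := by
    rcases hN.eq_bot_or_eq_top with h1 | h1
    · exfalso
      have h2 : π' y₀ ∈ ρ.ker.map π' := ⟨y₀, hy₀, rfl⟩
      rw [h1, Subgroup.mem_bot] at h2
      exact hy₁ h2
    · exact h1
  refine ⟨ρ.ker.map C.subtype, ?_, ?_⟩
  · apply le_antisymm
    · rintro _ ⟨_, ⟨y, -, rfl⟩, rfl⟩
      exact ⟨π' y, hπ' y⟩
    · rintro _ ⟨s, rfl⟩
      have h1 : s ∈ ρ.ker.map π' := by rw [htop]; trivial
      obtain ⟨y, hy, rfl⟩ := h1
      exact ⟨y, ⟨y, hy, rfl⟩, (hπ' y).symm⟩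
  · rintro _ ⟨y, hy, rfl⟩ v hv
    have h1 := congrArg (fun f : End k ((σ x).eigenspace μ) => ((f ⟨v, hv⟩ : (σ x).eigenspace μ) : V))
      (MonoidHom.mem_ker.1 hy)
    exact h1

end main

end Cfsg.Agent.H953.HTA
end

-- part: H953/HTA/B
section
/-!
# Fixed vectors of `A_{n - r}` in small representations of covers of `A_n` (helper953, S3512)

`Cov.exists_fixed` : `r = l ^ (a + 1)`, `l` an odd prime different from the characteristic,
`dim V < φ(r) (n - r - 2)`: a subgroup of order divisible by `|A_{n - r}|` has a non-zero fixed vector.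
-/

set_option autoImplicit false
set_option linter.unusedSectionVars false

namespace Cfsg.Agent.H953.HTA

open Equiv Equiv.Perm Module Cfsg.Agent.H614.AMod

variable {n : ℕ} {L : Type*} [Group L] {π : L →* alternatingGroup (Fin n)}

/-- an eigenvalue of order `l ^ (a + 1)` -/
theorem exists_prim_eig {k V : Type*} [Field k] [IsAlgClosed k] [AddCommGroup V] [Module k V] [FiniteDimensional k V]
    {l a : ℕ} (hl : l.Prime) (hlk : (l : k) ≠ 0) {T : End k V} (h1 : T ^ (l ^ (a + 1)) = 1) (h2 : T ^ (l ^ a) ≠ 1) :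
    ∃ (μ : k) (w : V), w ≠ 0 ∧ T w = μ • w ∧ IsPrimitiveRoot μ (l ^ (a + 1)) := by
  obtain ⟨w, hw, hw0, μ, hμ⟩ := H189.Eig.exists_eig T (LinearMap.range (T ^ (l ^ a) - 1)) (by
    rintro _ ⟨u, rfl⟩
    refine ⟨T u, ?_⟩
    show (T ^ (l ^ a)) (T u) - T u = T ((T ^ (l ^ a)) u - u)
    rw [map_sub, ← End.mul_apply, ← End.mul_apply, ← pow_succ, ← pow_succ']) (by
    intro h
    apply h2
    rw [LinearMap.range_eq_bot, sub_eq_zero] at h
    exact h)
  have hpow : ∀ i : ℕ, (T ^ i) w = μ ^ i • w := by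
    intro i
    induction i with
    | zero => simp
    | succ i ih => rw [pow_succ, End.mul_apply, hμ, map_smul, ih, smul_smul, pow_succ, mul_comm]
  have h3 : μ ^ (l ^ (a + 1)) = 1 := by
    have h4 := hpow (l ^ (a + 1))
    rw [h1, End.one_apply] at h4
    have h5 : (μ ^ (l ^ (a + 1)) - 1) • w = 0 := by rw [sub_smul, ← h4, one_smul, sub_self]
    exact sub_eq_zero.1 ((smul_eq_zero.1 h5).resolve_right hw0)
  have h6 : ¬ μ ^ (l ^ a) = 1 := by
    intro h7
    apply hw0
    refine H189.Eig.geom_zero (T := T ^ (l ^ a)) (m := l) (by rw [← pow_mul, ← pow_succ, h1]) hw ?_ hlk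
    rw [hpow, h7, one_smul]
  have hF := Fact.mk hl
  refine ⟨μ, w, hw0, hμ, ?_⟩
  rw [IsPrimitiveRoot.iff_orderOf]
  exact orderOf_eq_prime_pow h6 h3

/-- fixed vectors and extension of scalars -/
theorem exists_fixed_descend {k K : Type*} [Field k] [Field K] [Algebra k K] {d : ℕ} {ι : Type*}
    (A : ι → Matrix (Fin d) (Fin d) k) {w : Fin d → K} (hw : w ≠ 0)
    (h : ∀ i, ((A i).map (algebraMap k K)).mulVec w = w) : ∃ v : Fin d → k, v ≠ 0 ∧ ∀ i, (A i).mulVec v = v := by
  obtain ⟨j, hj⟩ : ∃ j, w j ≠ 0 := by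
    by_contra hcon
    push Not at hcon
    exact hw (funext hcon)
  obtain ⟨φ, hφ⟩ : ∃ φ : K →ₗ[k] k, φ (w j) ≠ 0 := by
    by_contra hcon
    push Not at hcon
    exact hj ((Module.forall_dual_apply_eq_zero_iff k (w j)).1 hcon)
  refine ⟨fun i => φ (w i), fun h0 => hφ (congrFun h0 j), fun i => ?_⟩
  funext s
  have h1 := congrArg φ (congrFun (h i) s)
  rw [Matrix.mulVec, dotProduct, map_sum] at h1
  rw [Matrix.mulVec, dotProduct, ← h1]
  refine Finset.sum_congr rfl fun t _ => ?_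
  rw [Matrix.map_apply, ← Algebra.smul_def, map_smul, smul_eq_mul]

theorem Cov.exists_fixed [Finite L] {k : Type*} [Field k] (p : ℕ) [CharP k p] {V : Type*} [AddCommGroup V]
    [Module k V] [FiniteDimensional k V] (h : Cov n π) {l a : ℕ} (hl : l.Prime) (hl2 : l ≠ 2) (hlp : l ≠ p)
    (hn : l ^ (a + 1) + 9 ≤ n) (σ : L →* End k V) (hσ : Function.Injective σ)
    (hd : finrank k V < Nat.totient (l ^ (a + 1)) * (n - l ^ (a + 1) - 2)) :
    ∃ N : Subgroup L, Nat.card (alternatingGroup (Fin (n - l ^ (a + 1)))) ∣ Nat.card N ∧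
      ∃ v : V, v ≠ 0 ∧ ∀ g ∈ N, σ g v = v := by
  classical
  have hodd : Odd (l ^ (a + 1)) := (hl.odd_of_ne_two hl2).pow
  have hr2 : 2 ≤ l ^ (a + 1) := hl.two_le.trans (Nat.le_self_pow (by omega) l)
  obtain ⟨c, e, hc, hs, he⟩ := exists_cyc (n := n) hr2 hodd (by omega)
  have hcr : c ^ (l ^ (a + 1)) = 1 := by
    apply Subtype.ext
    show (c : Perm (Fin n)) ^ _ = 1
    rw [← hs, ← hc.orderOf, pow_orderOf_eq_one]
  obtain ⟨x, rfl, hx⟩ := h.lift hodd hcr
  let b := finBasis k V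
  let d := finrank k V
  let θ : L →* Matrix (Fin d) (Fin d) k := (LinearMap.toMatrixAlgEquiv b).toAlgHom.toRingHom.toMonoidHom.comp σ
  let K := AlgebraicClosure k
  have hch : CharP K p := charP_of_injective_algebraMap (algebraMap k _).injective p
  let σK : L →* End K (Fin d → K) :=
    (Matrix.toLinAlgEquiv' (R := K) (n := Fin d)).toAlgHom.toRingHom.toMonoidHom.comp
      ((algebraMap k K).mapMatrix.toMonoidHom.comp θ)
  have hσK : ∀ g (w : Fin d → K), σK g w = ((θ g).map (algebraMap k K)).mulVec w := fun g w => rfl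
  have hσKinj : Function.Injective σK := by
    intro g g' hg
    apply hσ
    apply (LinearMap.toMatrixAlgEquiv b).injective
    have h1 := Matrix.toLinAlgEquiv'.injective hg
    have h2 : Function.Injective (algebraMap k K).mapMatrix :=
      Matrix.map_injective (m := Fin d) (n := Fin d) (algebraMap k K).injective
    exact h2 h1
  obtain ⟨μ, w, hw0, hw, hμ⟩ := exists_prim_eig (k := K) (T := σK x) (a := a) hl (by
    intro h0
    have h1 := (CharP.cast_eq_zero_iff K p l).1 h0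
    rcases (Nat.dvd_prime hl).1 h1 with h2 | h2
    · exact CharP.char_ne_one K p h2
    · exact hlp h2.symm) (by rw [← map_pow, hx, map_one]) (by
    intro h0
    rw [← map_pow] at h0
    have h1 : x ^ l ^ a = 1 := hσKinj (by rw [h0, map_one])
    have h2 : (((π x) ^ l ^ a : alternatingGroup (Fin n)) : Perm (Fin n)) = 1 := by
      rw [← map_pow, h1, map_one]
      rfl
    rw [Subgroup.coe_pow] at h2
    have h3 := orderOf_dvd_of_pow_eq_one h2
    rw [hc.orderOf, hs] at h3
    have h4 := Nat.le_of_dvd (pow_pos hl.pos a) h3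
    have h5 : l ^ a < l ^ (a + 1) := Nat.pow_lt_pow_right hl.one_lt (by omega)
    omega)
  obtain ⟨N, hN, hNf⟩ := h.triv_eig (k := K) p hodd hn hx hc hs he σK hμ (by
    rw [finrank_fin_fun]
    exact hd)
  refine ⟨N, ?_, ?_⟩
  · have h1 : Nat.card (N.map π) ∣ Nat.card N := Subgroup.card_map_dvd N π
    rw [hN] at h1
    have hinj : Function.Injective (ex e) := by
      rw [injective_iff_map_eq_one]
      intro s hs1
      apply Subtype.ext
      apply Equiv.ext
      intro i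
      apply e.injective
      rw [← ex_apply, hs1]
      rfl
    rwa [← Nat.card_congr ((ex e).ofInjective hinj).toEquiv] at h1
  · obtain ⟨v, hv0, hv⟩ := exists_fixed_descend (K := K) (fun g : N => θ g) hw0 (fun g => by
      rw [← hσK]
      exact hNf g g.2 w (End.mem_eigenspace_iff.2 hw))
    refine ⟨b.equivFun.symm v, fun h0 => hv0 ((LinearEquiv.map_eq_zero_iff _).1 h0), fun g hg => ?_⟩
    apply b.equivFun.injective
    rw [LinearEquiv.apply_symm_apply]
    have h1 := hv ⟨g, hg⟩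
    have h2 := LinearMap.toMatrix_mulVec_repr b b (σ g) (b.equivFun.symm v)
    have h3 : ⇑(b.repr (b.equivFun.symm v)) = v := by
      have := b.equivFun.apply_symm_apply v
      exact this
    rw [h3] at h2
    have h4 : (LinearMap.toMatrix b b (σ g)).mulVec v = v := h1
    rw [h4] at h2
    exact h2.symm

end Cfsg.Agent.H953.HTA
end

-- part: H953/HTA/D
section
/-!
# The numerical contradiction for `A_n`, `n ≥ 71` (helper953, S3512)

`large` : `q ^ w ≤ 2 m ^ 2`, `m ≤ (q - 1) n!`, `w ≥ n - 2`, and `m (n - r)! ≤ 2 (q - 1) n!` whenever `r = l ^ (a + 1)`,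
`l` an odd prime different from `p`, `w < φ(r) (n - r - 2)`: contradiction.
-/

set_option autoImplicit false
set_option exponentiation.threshold 100000

namespace Cfsg.Agent.H953.HTA

open Nat

theorem step {q w m n r : ℕ} (hq : 2 ≤ q) (hw : 2 ≤ w) (hle : q ^ w ≤ 2 * m ^ 2) (hr : r ≤ n)
    (h : m * (n - r)! ≤ 2 * ((q - 1) * n !)) : q ^ (w - 2) < 8 * n ^ (2 * r) := by
  have h1 : n ! ≤ (n - r)! * n ^ r := by
    rw [← Nat.factorial_mul_descFactorial hr]
    exact Nat.mul_le_mul_left _ (Nat.descFactorial_le_pow n r)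
  have h2 : m ≤ 2 * ((q - 1) * n ^ r) := by
    have h3 : m * (n - r)! ≤ (2 * ((q - 1) * n ^ r)) * (n - r)! := by
      calc m * (n - r)! ≤ 2 * ((q - 1) * n !) := h
        _ ≤ 2 * ((q - 1) * ((n - r)! * n ^ r)) := by gcongr
        _ = _ := by ring
    exact Nat.le_of_mul_le_mul_right h3 (Nat.factorial_pos _)
  have h0 : 0 < m := by
    rcases Nat.eq_zero_or_pos m with h0 | h0
    · rw [h0] at hle
      have : 0 < q ^ w := by positivity
      simp at hle
      omega
    · exact h0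
  have hnr : 0 < n ^ r := by
    rcases Nat.eq_zero_or_pos (n ^ r) with h4 | h4
    · rw [h4, mul_zero, mul_zero] at h2
      omega
    · exact h4
  obtain ⟨q, rfl⟩ : ∃ x, q = x + 1 := ⟨q - 1, by omega⟩
  rw [Nat.add_sub_cancel] at h2
  have h5 : (q + 1) ^ w < (q + 1) ^ 2 * (8 * n ^ (2 * r)) := by
    calc (q + 1) ^ w ≤ 2 * m ^ 2 := hle
      _ ≤ 2 * (2 * (q * n ^ r)) ^ 2 := by gcongr
      _ = q ^ 2 * (8 * n ^ (2 * r)) := by rw [mul_comm 2 r, pow_mul]; ring
      _ < (q + 1) ^ 2 * (8 * n ^ (2 * r)) := by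
        apply Nat.mul_lt_mul_of_pos_right
        · exact Nat.pow_lt_pow_left (by omega) (by norm_num)
        · have : n ^ (2 * r) = (n ^ r) ^ 2 := by rw [mul_comm, pow_mul]
          rw [this]
          positivity
  obtain ⟨w, rfl⟩ : ∃ x, w = x + 2 := ⟨w - 2, by omega⟩
  rw [pow_add, mul_comm] at h5
  rw [Nat.add_sub_cancel]
  exact Nat.lt_of_mul_lt_mul_left h5

theorem first {q w m n : ℕ} (hq : 2 ≤ q) (hw : 2 ≤ w) (hle : q ^ w ≤ 2 * m ^ 2) (h : m ≤ (q - 1) * n !) :
    q ^ (w - 2) < 2 * n ! ^ 2 := by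
  obtain ⟨q, rfl⟩ : ∃ x, q = x + 1 := ⟨q - 1, by omega⟩
  rw [Nat.add_sub_cancel] at h
  have h5 : (q + 1) ^ w < (q + 1) ^ 2 * (2 * n ! ^ 2) := by
    calc (q + 1) ^ w ≤ 2 * m ^ 2 := hle
      _ ≤ 2 * (q * n !) ^ 2 := by gcongr
      _ = q ^ 2 * (2 * n ! ^ 2) := by ring
      _ < (q + 1) ^ 2 * (2 * n ! ^ 2) := by
        apply Nat.mul_lt_mul_of_pos_right
        · exact Nat.pow_lt_pow_left (by omega) (by norm_num)
        · have := Nat.factorial_pos n
          positivity
  obtain ⟨w, rfl⟩ : ∃ x, w = x + 2 := ⟨w - 2, by omega⟩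
  rw [pow_add, mul_comm] at h5
  rw [Nat.add_sub_cancel]
  exact Nat.lt_of_mul_lt_mul_left h5

theorem conc {b q w X Y : ℕ} (hb : 2 ≤ b) (hbq : b ≤ q) (h : q ^ (w - 2) < X) (hX : X ≤ b ^ (Y - 2)) (hY : 2 ≤ Y)  :
    w < Y := by
  have h1 : b ^ (w - 2) < b ^ (Y - 2) := lt_of_le_of_lt (Nat.pow_le_pow_left hbq _) (lt_of_lt_of_le h hX)
  have h2 := (Nat.pow_lt_pow_iff_right (by omega)).1 h1
  omega

/-- the inequalities, `p ≠ 3` -/
def ok (n F : ℕ) : Bool :=
  ((Nat.ble (2 * F ^ 2) (2 ^ (18 * (n - 29) - 2)) && Nat.ble (8 * n ^ 54) (2 ^ (6 * (n - 11) - 2))) ||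
    (Nat.ble 90 n && (Nat.ble (2 * F ^ 2) (2 ^ (54 * (n - 83) - 2)) && Nat.ble (8 * n ^ 162) (2 ^ (6 * (n - 11) - 2))))) &&
  (Nat.ble (8 * n ^ 18) (2 ^ (2 * (n - 5) - 2)) && (Nat.ble (8 * n ^ 6) (2 ^ (n - 2 - 2)) &&
  (Nat.ble (2 * F ^ 2) (3 ^ (20 * (n - 27) - 2)) && (Nat.ble (8 * n ^ 50) (3 ^ (4 * (n - 7) - 2)) &&
  Nat.ble (8 * n ^ 10) (3 ^ (n - 2 - 2))))))

def loop : ℕ → ℕ → ℕ → Bool
  | 0, _, _ => true
  | f + 1, n, F => ok n F && loop f (n + 1) ((n + 1) * F)

theorem loop_spec : ∀ (f n : ℕ), loop f n (n !) = true → ∀ k, n ≤ k → k < n + f → ok k (k !) = true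
  | 0, n, _, k, h1, h2 => by omega
  | f + 1, n, h, k, h1, h2 => by
    rw [loop, Bool.and_eq_true] at h
    rcases h1.eq_or_lt with rfl | h3
    · exact h.1
    · have h4 := h.2
      rw [← Nat.factorial_succ] at h4
      exact loop_spec f (n + 1) h4 k h3 (by omega)

theorem loop_true : loop 1977 71 (71 !) = true := by decide +kernel

theorem mid {p q w m n : ℕ} (h1 : 71 ≤ n) (h2 : n < 2048) (hq : 2 ≤ q) (hq3 : p = 3 → 3 ≤ q) (hw : n - 2 ≤ w)
    (hle : q ^ w ≤ 2 * m ^ 2) (hm : m ≤ (q - 1) * n !)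
    (H : ∀ l a, l.Prime → l ≠ 2 → l ≠ p → l ^ (a + 1) + 9 ≤ n →
      w < Nat.totient (l ^ (a + 1)) * (n - l ^ (a + 1) - 2) → m * (n - l ^ (a + 1))! ≤ 2 * ((q - 1) * n !)) :
    False := by
  have h := loop_spec 1977 71 loop_true n h1 (by omega)
  simp only [ok, Bool.and_eq_true, Bool.or_eq_true, Nat.ble_eq] at h
  obtain ⟨iab, ic, id', ie, iF, ig⟩ := h
  have h0 := first hq (by omega) hle hm
  by_cases hp : p = 3
  · have hq3 := hq3 hp
    have w1 : w < 20 * (n - 27) := conc (by norm_num) hq3 h0 ie (by omega)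
    have t1 : Nat.totient (5 ^ (1 + 1)) = 20 := by decide +kernel
    have t2 : Nat.totient (5 ^ (0 + 1)) = 4 := by decide +kernel
    have s1 := step hq (by omega) hle (r := 25) (by omega) (H 5 1 (by norm_num) (by norm_num) (by omega)
      (by norm_num; omega) (by rw [t1]; norm_num only []; omega))
    have w2 : w < 4 * (n - 7) := conc (by norm_num) hq3 s1 iF (by omega)
    have s2 := step hq (by (clear * - h1 h2 hw iab; omega)) hle (r := 5) (by omega) (H 5 0 (by norm_num) (by norm_num) (by omega)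
      (by norm_num; omega) (by rw [t2]; norm_num only []; omega))
    have w3 : w < n - 2 := conc (by norm_num) hq3 s2 ig (by (clear * - h1 h2 iab; omega))
    omega
  · have t0 : Nat.totient (3 ^ (2 + 1)) = 18 := by decide +kernel
    have t3 : Nat.totient (3 ^ (3 + 1)) = 54 := by decide +kernel
    have t1 : Nat.totient (3 ^ (1 + 1)) = 6 := by decide +kernel
    have t2 : Nat.totient (3 ^ (0 + 1)) = 2 := by decide +kernel
    have w2 : w < 6 * (n - 11) := by
      rcases iab with ⟨ia, ib⟩ | ⟨i90, ia, ib⟩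
      · have w1 : w < 18 * (n - 29) := conc (by norm_num) hq h0 ia (by omega)
        have s1 := step hq (by omega) hle (r := 27) (by omega) (H 3 2 (by norm_num) (by norm_num) (by omega)
          (by norm_num; omega) (by rw [t0]; norm_num only []; omega))
        exact conc (by norm_num) hq s1 ib (by omega)
      · have h92 : 94 ≤ n := by
          by_contra hlt
          have h3 : 54 * (n - 83) - 2 ≤ 540 := by omega
          have h4 : 2 * (71 !) ^ 2 ≤ 2 ^ 540 := by
            have h5 : 71 ! ≤ n ! := Nat.factorial_le h1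
            calc 2 * (71 !) ^ 2 ≤ 2 * n ! ^ 2 := by gcongr
              _ ≤ 2 ^ (54 * (n - 83) - 2) := ia
              _ ≤ 2 ^ 540 := Nat.pow_le_pow_right (by norm_num) h3
          exact absurd h4 (by decide +kernel)
        have w1 : w < 54 * (n - 83) := conc (by norm_num) hq h0 ia (by omega)
        have s1 := step hq (by (clear * - h1 h2 hw hp i90 h92; omega)) hle (r := 81) (by omega) (H 3 3 (by norm_num) (by norm_num) (by omega)
          (by norm_num; omega) (by rw [t3]; norm_num only []; omega))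
        exact conc (by norm_num) hq s1 ib (by omega)
    have s2 := step hq (by (clear * - h1 hw; omega)) hle (r := 9) (by omega) (H 3 1 (by norm_num) (by norm_num) (by omega)
      (by norm_num; omega) (by rw [t1]; norm_num only []; omega))
    have w3 : w < 2 * (n - 5) := conc (by norm_num) hq s2 ic (by omega)
    have s3 := step hq (by (clear * - h1 hw; omega)) hle (r := 3) (by omega) (H 3 0 (by norm_num) (by norm_num) (by omega)
      (by norm_num; omega) (by rw [t2]; norm_num only []; omega))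
    have w4 : w < n - 2 := conc (by norm_num) hq s3 id' (by (clear * - h1 h2 iab hp; omega))
    omega

/-- powers of `l` between `x` and `l x` -/
theorem exists_pow {l x : ℕ} (hl : 2 ≤ l) (hx : 1 ≤ x) : ∃ a, x ≤ l ^ a ∧ l ^ a < l * x := by
  obtain ⟨a, h1, h2⟩ : ∃ a, x ≤ l ^ a ∧ ∀ b, b < a → l ^ b < x := by
    classical
    have hex : ∃ a, x ≤ l ^ a := ⟨x, (Nat.lt_pow_self (by omega)).le⟩
    exact ⟨Nat.find hex, Nat.find_spec hex, fun b hb => not_le.1 (Nat.find_min hex hb)⟩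
  refine ⟨a, h1, ?_⟩
  rcases Nat.eq_zero_or_pos a with rfl | h0
  · rw [pow_zero]
    nlinarith
  · obtain ⟨b, rfl⟩ : ∃ b, a = b + 1 := ⟨a - 1, by omega⟩
    rw [pow_succ, mul_comm]
    exact Nat.mul_lt_mul_of_pos_left (h2 b (by omega)) (by omega)

theorem key_pow (j : ℕ) : 2048 * ((j + 12) * (j + 12)) ≤ 144 * 2 ^ (j + 11) := by
  induction j with
  | zero => norm_num
  | succ j ih =>
    have h3 : (j + 1 + 12) * (j + 1 + 12) ≤ 2 * ((j + 12) * (j + 12)) := by nlinarith
    calc 2048 * ((j + 1 + 12) * (j + 1 + 12)) ≤ 2048 * (2 * ((j + 12) * (j + 12))) := Nat.mul_le_mul_left _ h3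
      _ = 2 * (2048 * ((j + 12) * (j + 12))) := by ring
      _ ≤ 2 * (144 * 2 ^ (j + 11)) := Nat.mul_le_mul_left _ ih
      _ = 144 * 2 ^ (j + 1 + 11) := by ring

theorem aux25 {E n : ℕ} (hE : 12 ≤ E) (h : 170 * E ≤ n) : E * n * 2 + 3 ≤ 4 * (E + 1) * (n - 25 * (E + 1) - 2) := by
  obtain ⟨d, hd⟩ : ∃ d, n = d + 25 * (E + 1) + 2 := ⟨n - 25 * (E + 1) - 2, by omega⟩
  rw [show n - 25 * (E + 1) - 2 = d by omega]
  have h1 : E * (140 * E) ≤ E * d := Nat.mul_le_mul_left E (by omega)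
  subst hd
  nlinarith

theorem aux9 {E n : ℕ} (hE : 12 ≤ E) (h : 2048 * (E * E) ≤ 144 * n) :
    E * n * 2 + 3 ≤ 2 * (E + 1) * (n - 9 * (E + 1) - 2) := by
  have hEE : 12 * E ≤ E * E := Nat.mul_le_mul_right E hE
  obtain ⟨d, hd⟩ : ∃ d, n = d + 9 * (E + 1) + 2 := ⟨n - 9 * (E + 1) - 2, by omega⟩
  rw [show n - 9 * (E + 1) - 2 = d by omega]
  obtain ⟨S, hS⟩ : ∃ S, S = E * E := ⟨_, rfl⟩
  obtain ⟨X, hX⟩ : ∃ X, X = E * d := ⟨_, rfl⟩
  have e1 : E * n * 2 + 3 = 2 * X + 18 * S + 22 * E + 3 := by rw [hX, hS, hd]; ring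
  have e2 : 2 * (E + 1) * d = 2 * X + 2 * d := by rw [hX]; ring
  rw [e1, e2]
  rw [← hS] at h hEE
  (clear * - hE hd hEE h; solve | lia | omega)

theorem big {p q w m n : ℕ} (h1 : 2048 ≤ n) (hq : 2 ≤ q) (hw : n - 2 ≤ w)
    (hle : q ^ w ≤ 2 * m ^ 2) (hm : m ≤ (q - 1) * n !)
    (H : ∀ l a, l.Prime → l ≠ 2 → l ≠ p → l ^ (a + 1) + 9 ≤ n →
      w < Nat.totient (l ^ (a + 1)) * (n - l ^ (a + 1) - 2) → m * (n - l ^ (a + 1))! ≤ 2 * ((q - 1) * n !)) :
    False := by
  have h0 := first hq (by omega) hle hm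
  obtain ⟨e, he1, he2⟩ : ∃ e, 2 ^ (e + 11) ≤ n ∧ n < 2 ^ (e + 12) := by
    refine ⟨Nat.log 2 n - 11, ?_, ?_⟩
    · have h2 : 11 ≤ Nat.log 2 n := Nat.le_log_of_pow_le (by norm_num) (by norm_num; omega)
      rw [Nat.sub_add_cancel h2]
      exact Nat.pow_log_le_self 2 (by omega)
    · have h2 : 11 ≤ Nat.log 2 n := Nat.le_log_of_pow_le (by norm_num) (by norm_num; omega)
      rw [show Nat.log 2 n - 11 + 12 = Nat.log 2 n + 1 by omega]
      exact Nat.lt_pow_succ_log_self (by norm_num) n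
  obtain ⟨E, hE⟩ : ∃ E, E = e + 12 := ⟨_, rfl⟩
  rw [show e + 11 = E - 1 by omega] at he1
  rw [← hE] at he2
  have hE12 : 12 ≤ E := by omega
  clear hE
  -- the size of `n`
  have hbig : 2048 * (E * E) ≤ 144 * n := by
    obtain ⟨j, rfl⟩ : ∃ j, E = j + 12 := ⟨E - 12, by omega⟩
    rw [show j + 12 - 1 = j + 11 by omega] at he1
    exact (key_pow j).trans (Nat.mul_le_mul_left _ he1)
  have hfac : 2 * n ! ^ 2 ≤ 2 ^ (E * n * 2 + 3 - 2) := by
    have h3 : n ! ≤ n ^ n := Nat.factorial_le_pow n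
    have h4 : n ^ n ≤ (2 ^ E) ^ n := Nat.pow_le_pow_left he2.le n
    calc 2 * n ! ^ 2 ≤ 2 * ((2 ^ E) ^ n) ^ 2 := by
          have := h3.trans h4
          gcongr
      _ = 2 ^ (E * n * 2 + 3 - 2) := by
        rw [show E * n * 2 + 3 - 2 = 1 + E * n * 2 by omega, pow_add, pow_one, pow_mul _ _ 2, pow_mul]
  have w1 : w < E * n * 2 + 3 := conc le_rfl hq h0 hfac (by omega)
  have hpow : ∀ r : ℕ, 8 * n ^ (2 * r) ≤ 2 ^ (E * (2 * r) + 5 - 2) := by
    intro r
    calc 8 * n ^ (2 * r) ≤ 8 * (2 ^ E) ^ (2 * r) := by gcongr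
      _ = 2 ^ (E * (2 * r) + 5 - 2) := by
        rw [show E * (2 * r) + 5 - 2 = 3 + E * (2 * r) by omega, pow_add, pow_mul 2 E (2 * r), show 2 ^ 3 = 8 from rfl]
  have hEE : 12 * E ≤ E * E := Nat.mul_le_mul_right E hE12
  have h170 : 170 * E ≤ n := by
    obtain ⟨S, hS⟩ : ∃ S, S = E * E := ⟨_, rfl⟩
    rw [← hS] at hbig hEE
    omega
  by_cases hp : p = 3
  · -- `l = 5`
    obtain ⟨a, ha1, ha2⟩ := exists_pow (l := 5) (x := E + 1) (by norm_num) (by omega)
    have ht : Nat.totient (5 ^ (a + 1)) = 4 * 5 ^ a := by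
      rw [Nat.totient_prime_pow_succ (by norm_num)]
      ring
    have hr : 5 ^ (a + 1) < 25 * (E + 1) := by
      rw [pow_succ]
      omega
    have hrn : 5 ^ (a + 1) + 9 ≤ n := by omega
    have s1 := step hq (by omega) hle (r := 5 ^ (a + 1)) (by omega) (H 5 a (by norm_num) (by norm_num) (by omega)
      hrn (by
        rw [ht]
        refine lt_of_lt_of_le w1 ((aux25 hE12 h170).trans ?_)
        exact Nat.mul_le_mul (Nat.mul_le_mul_left 4 ha1) (by omega)))
    have w2 := conc le_rfl hq s1 (hpow _) (by omega)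
    have t2 : Nat.totient (5 ^ (0 + 1)) = 4 := by decide +kernel
    have s2 := step hq (by omega) hle (r := 5) (by omega) (H 5 0 (by norm_num) (by norm_num) (by omega)
      (by norm_num; omega) (by
        rw [t2]
        norm_num only []
        refine lt_of_lt_of_le w2 ?_
        have h6 : E * (2 * 5 ^ (a + 1)) ≤ E * (2 * (25 * (E + 1))) := Nat.mul_le_mul_left _ (by omega)
        have h7 : E * (2 * (25 * (E + 1))) = 50 * (E * E) + 50 * E := by ring
        rw [h7] at h6
        obtain ⟨S, hS⟩ : ∃ S, S = E * E := ⟨_, rfl⟩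
        obtain ⟨X, hX⟩ : ∃ X, X = E * (2 * 5 ^ (a + 1)) := ⟨_, rfl⟩
        rw [← hS] at hbig hEE h6
        rw [← hX] at h6 ⊢
        clear w2 s1 H hle h0 hm hpow w1 hfac
        omega))
    have w3 := conc le_rfl hq s2 (hpow _) (by omega)
    clear w2 s1 H hle h0 hm hpow w1 hfac s2
    omega
  · obtain ⟨a, ha1, ha2⟩ := exists_pow (l := 3) (x := E + 1) (by norm_num) (by omega)
    have ht : Nat.totient (3 ^ (a + 1)) = 2 * 3 ^ a := by
      rw [Nat.totient_prime_pow_succ (by norm_num)]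
      ring
    have hr : 3 ^ (a + 1) < 9 * (E + 1) := by
      rw [pow_succ]
      omega
    have hrn : 3 ^ (a + 1) + 9 ≤ n := by omega
    have s1 := step hq (by omega) hle (r := 3 ^ (a + 1)) (by omega) (H 3 a (by norm_num) (by norm_num) (by omega)
      hrn (by
        rw [ht]
        refine lt_of_lt_of_le w1 ((aux9 hE12 hbig).trans ?_)
        exact Nat.mul_le_mul (Nat.mul_le_mul_left 2 ha1) (by omega)))
    have w2 := conc le_rfl hq s1 (hpow _) (by omega)
    have t2 : Nat.totient (3 ^ (0 + 1)) = 2 := by decide +kernel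
    have s2 := step hq (by omega) hle (r := 3) (by omega) (H 3 0 (by norm_num) (by norm_num) (by omega)
      (by norm_num; omega) (by
        rw [t2]
        norm_num only []
        refine lt_of_lt_of_le w2 ?_
        have h6 : E * (2 * 3 ^ (a + 1)) ≤ E * (2 * (9 * (E + 1))) := Nat.mul_le_mul_left _ (by omega)
        have h7 : E * (2 * (9 * (E + 1))) = 18 * (E * E) + 18 * E := by ring
        rw [h7] at h6
        obtain ⟨S, hS⟩ : ∃ S, S = E * E := ⟨_, rfl⟩
        obtain ⟨X, hX⟩ : ∃ X, X = E * (2 * 3 ^ (a + 1)) := ⟨_, rfl⟩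
        rw [← hS] at hbig hEE h6
        rw [← hX] at h6 ⊢
        clear w2 s1 H hle h0 hm hpow w1 hfac
        (clear * - h1 h170 hbig h6; omega)))
    have w3 := conc le_rfl hq s2 (hpow _) (by omega)
    clear w2 s1 H hle h0 hm hpow w1 hfac s2
    omega

/-- **the numerical contradiction** -/
theorem large {p q w m n : ℕ} (h1 : 71 ≤ n) (hq : 2 ≤ q) (hq3 : p = 3 → 3 ≤ q) (hw : n - 2 ≤ w)
    (hle : q ^ w ≤ 2 * m ^ 2) (hm : m ≤ (q - 1) * n !)
    (H : ∀ l a, l.Prime → l ≠ 2 → l ≠ p → l ^ (a + 1) + 9 ≤ n →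
      w < Nat.totient (l ^ (a + 1)) * (n - l ^ (a + 1) - 2) → m * (n - l ^ (a + 1))! ≤ 2 * ((q - 1) * n !)) :
    False := by
  rcases Nat.lt_or_ge n 2048 with h2 | h2
  · exact mid h1 h2 hq hq3 hw hle hm H
  · exact big h2 hq hw hle hm H

end Cfsg.Agent.H953.HTA
end

-- part: H953/HTA/F
section
/-!
# The natural module of `A_n` : elements of order 11 (helper953, S3512)

* `NatM.finrank_le` : `dim V ≤ n - 1`;
* `NatM.no_eleven` : `n = 13, 14`: the stabiliser of `e₀ - e₁ + e₂ - e₃` contains no element of order 11.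
-/

set_option autoImplicit false
set_option linter.unusedSectionVars false

namespace Cfsg.Agent.H953.HTA

open Equiv Equiv.Perm Module Cfsg.Agent.H614.AMod Cfsg.Agent.H964.AltMod

variable {n : ℕ} {K V : Type*} [Field K] [AddCommGroup V] [Module K V]
  {ρ : Representation K (alternatingGroup (Fin n)) V} {F : Fin n → Fin n → V}

theorem F_self (h : NatM ρ F) (i : Fin n) : F i i = 0 := by
  have := h.tri i i i
  exact add_eq_left.1 this

theorem F_ne (h : NatM ρ F) (hn : 4 ≤ n) {x y : Fin n} (hxy : x ≠ y) : F x y ≠ 0 := by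
  obtain ⟨i, j, hij⟩ := h.ne
  have hne : i ≠ j := by
    rintro rfl
    exact hij (F_self h i)
  obtain ⟨g, hg⟩ := exists_move (k := 2) (by rw [Fintype.card_fin]; omega) (emb2 x y hxy) (emb2 i j hne)
  intro h0
  apply hij
  have h1 := h.act g x y
  rw [h0, map_zero] at h1
  have h2 : (g : Perm (Fin n)) x = i := hg 0
  have h3 : (g : Perm (Fin n)) y = j := hg 1
  rw [h2, h3] at h1
  exact h1.symm

theorem finrank_le (h : NatM ρ F) (hn : 0 < n) : finrank K V ≤ n - 1 := by
  classical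
  let o : Fin n := ⟨0, hn⟩
  let f : {i : Fin n // i ≠ o} → V := fun i => F o i
  have h1 : Submodule.span K (Set.range f) = ⊤ := by
    rw [eq_top_iff, ← h.span, Submodule.span_le]
    have h2 : ∀ i, F o i ∈ Submodule.span K (Set.range f) := by
      intro i
      by_cases hi : i = o
      · rw [hi, F_self h]
        exact Submodule.zero_mem _
      · exact Submodule.subset_span ⟨⟨i, hi⟩, rfl⟩
    rintro _ ⟨⟨i, j⟩, rfl⟩
    have h3 : F i j = F o j - F o i := by
      rw [eq_sub_iff_add_eq, add_comm]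
      exact h.tri o i j
    show F i j ∈ Submodule.span K (Set.range f)
    rw [h3]
    exact Submodule.sub_mem _ (h2 j) (h2 i)
  have h4 := finrank_range_le_card (R := K) f
  rw [Set.finrank, h1, finrank_top] at h4
  refine h4.trans ?_
  rw [Fintype.card_subtype_compl, Fintype.card_fin, Fintype.card_subtype_eq]

/-- a point outside -/
theorem exists_two {s : Finset (Fin n)} (hs : s.card + 2 ≤ n) : ∃ y z, y ∉ s ∧ z ∉ s ∧ y ≠ z := by
  have h1 : 1 < sᶜ.card := by
    rw [Finset.card_compl, Fintype.card_fin]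
    omega
  obtain ⟨y, hy, z, hz, hyz⟩ := Finset.one_lt_card.1 h1
  exact ⟨y, z, Finset.mem_compl.1 hy, Finset.mem_compl.1 hz, hyz⟩

/-- moving one point -/
theorem exists_mv {s : Finset (Fin n)} (hs : s.card + 3 ≤ n) {x : Fin n} (hx : x ∉ s) :
    ∃ (y : Fin n) (τ : alternatingGroup (Fin n)), y ≠ x ∧ (τ : Perm (Fin n)) x = y ∧
      ∀ i ∈ s, (τ : Perm (Fin n)) i = i := by
  classical
  obtain ⟨y, z, hy, hz, hyz⟩ := exists_two (s := insert x s) (by
    have := Finset.card_insert_le x s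
    omega)
  rw [Finset.mem_insert, not_or] at hy hz
  refine ⟨y, cyc x y z (Ne.symm hy.1) hyz, hy.1, cyc_fst _ _ (Ne.symm hz.1), fun i hi => ?_⟩
  show (swap x y * swap y z) i = i
  have h1 : i ≠ x := by rintro rfl; exact hx hi
  have h2 : i ≠ y := by rintro rfl; exact hy.2 hi
  have h3 : i ≠ z := by rintro rfl; exact hz.2 hi
  rw [Perm.mul_apply, swap_apply_of_ne_of_ne h2 h3, swap_apply_of_ne_of_ne h1 h2]

theorem key (h : NatM ρ F) (hn : 11 ≤ n) {a b c d : Fin n} {w : V} {s : Finset (Fin n)} (hs : s.card ≤ 4)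
    (hw : ∀ τ : alternatingGroup (Fin n), (∀ i ∈ s, (τ : Perm (Fin n)) i = i) → ρ τ w = w)
    (hab : a ≠ b) (hac : a ≠ c) (had : a ≠ d) (hwe : F a b + F c d = w) : a ∈ s := by
  classical
  by_contra ha
  obtain ⟨y, τ, hy, hτ, hτs⟩ := exists_mv (s := s ∪ {b, c, d}) (x := a) (by
    have h1 := Finset.card_union_le s {b, c, d}
    have h2 : ({b, c, d} : Finset (Fin n)).card ≤ 3 := Finset.card_le_three
    omega) (by
    rw [Finset.mem_union, not_or]
    refine ⟨ha, ?_⟩
    simp [hab, hac, had])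
  have h1 := hw τ fun i hi => hτs i (Finset.mem_union_left _ hi)
  have hb : (τ : Perm (Fin n)) b = b := hτs b (Finset.mem_union_right _ (by simp))
  have hc : (τ : Perm (Fin n)) c = c := hτs c (Finset.mem_union_right _ (by simp))
  have hd : (τ : Perm (Fin n)) d = d := hτs d (Finset.mem_union_right _ (by simp))
  rw [← hwe, map_add, h.act, h.act, hτ, hb, hc, hd] at h1
  have h2 : F y b = F a b := add_right_cancel h1
  have h3 := h.tri y a b
  rw [h2] at h3
  exact F_ne h (by omega) hy (add_eq_right.1 h3)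

/-- fixed points of elements of order 11 -/
theorem fix_of_small {g : Perm (Fin n)} (hg : g ^ 11 = 1) {S : Finset (Fin n)} (hS : ∀ x ∈ S, g x ∈ S)
    (hc : S.card ≤ 10) {x : Fin n} (hx : x ∈ S) : g x = x := by
  classical
  have h1 : Function.IsPeriodicPt g 11 x := by
    show g^[11] x = x
    rw [Perm.iterate_eq_pow, hg]
    rfl
  have h2 := h1.minimalPeriod_dvd
  rcases (Nat.dvd_prime (by norm_num : Nat.Prime 11)).1 h2 with h3 | h3
  · exact Function.minimalPeriod_eq_one_iff_isFixedPt.1 h3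
  · exfalso
    have h4 : ∀ i, g^[i] x ∈ S := by
      intro i
      induction i with
      | zero => exact hx
      | succ i ih =>
        rw [Function.iterate_succ_apply']
        exact hS _ ih
    have h5 := Finset.card_le_card_of_injOn (s := Finset.range 11) (t := S) (fun i => g^[i] x) (fun i _ => h4 i) (by
      intro i hi j hj hij
      refine Function.iterate_injOn_Iio_minimalPeriod (f := g) (x := x) ?_ ?_ hij
      · rw [h3]
        exact Finset.mem_range.1 hi
      · rw [h3]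
        exact Finset.mem_range.1 hj)
    rw [Finset.card_range] at h5
    omega

/-- **no elements of order 11 in the stabiliser of `e₀ - e₁ + e₂ - e₃`** -/
theorem no_eleven (h : NatM ρ F) (hn : n = 13 ∨ n = 14) :
    ∃ w : V, w ≠ 0 ∧ ∀ g : alternatingGroup (Fin n), ρ g w = w → g ^ 11 = 1 → g = 1 := by
  classical
  have hn13 : 13 ≤ n := by omega
  let e : Fin 4 → Fin n := fun i => ⟨i, by omega⟩
  have he : Function.Injective e := by
    intro i j hij
    have := congrArg Fin.val hij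
    exact Fin.ext this
  let S : Finset (Fin n) := Finset.univ.image e
  have hS4 : S.card = 4 := by
    rw [Finset.card_image_of_injective _ he]
    rfl
  have hmem : ∀ i, e i ∈ S := fun i => Finset.mem_image_of_mem _ (Finset.mem_univ i)
  have h01 : e 0 ≠ e 1 := he.ne (by decide)
  have h02 : e 0 ≠ e 2 := he.ne (by decide)
  have h03 : e 0 ≠ e 3 := he.ne (by decide)
  have h12 : e 1 ≠ e 2 := he.ne (by decide)
  have h13 : e 1 ≠ e 3 := he.ne (by decide)
  have h23 : e 2 ≠ e 3 := he.ne (by decide)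
  refine ⟨F (e 0) (e 1) + F (e 2) (e 3), ?_, ?_⟩
  · intro h0
    have := key h (by omega) (s := ∅) (by simp) (w := 0) (fun τ _ => map_zero _) h01 h02 h03 h0
    simp at this
  · intro g hgw hg
    have hw : ∀ τ : alternatingGroup (Fin n), (∀ i ∈ S, (τ : Perm (Fin n)) i = i) →
        ρ τ (F (e 0) (e 1) + F (e 2) (e 3)) = F (e 0) (e 1) + F (e 2) (e 3) := by
      intro τ hτ
      rw [map_add, h.act, h.act, hτ _ (hmem 0), hτ _ (hmem 1), hτ _ (hmem 2), hτ _ (hmem 3)]
    rw [map_add, h.act, h.act] at hgw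
    have gi := (g : Perm (Fin n)).injective
    have k0 := key h (by omega) hS4.le hw (gi.ne h01) (gi.ne h02) (gi.ne h03) hgw
    have k2 := key h (by omega) hS4.le hw (gi.ne h23) (gi.ne h02.symm) (gi.ne h12.symm) (by rw [add_comm]; exact hgw)
    have hanti : ∀ x y z t : Fin n, F x y + F z t = -(F y x + F t z) := by
      intro x y z t
      rw [h.anti x y, h.anti z t, neg_add, neg_neg, neg_neg]
    have hgw' : F ((g : Perm (Fin n)) (e 1)) ((g : Perm (Fin n)) (e 0)) +
        F ((g : Perm (Fin n)) (e 3)) ((g : Perm (Fin n)) (e 2)) = -(F (e 0) (e 1) + F (e 2) (e 3)) := by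
      rw [hanti, hgw]
    have hw' : ∀ τ : alternatingGroup (Fin n), (∀ i ∈ S, (τ : Perm (Fin n)) i = i) →
        ρ τ (-(F (e 0) (e 1) + F (e 2) (e 3))) = -(F (e 0) (e 1) + F (e 2) (e 3)) := by
      intro τ hτ
      rw [map_neg, hw τ hτ]
    have k1 := key h (by omega) hS4.le hw' (gi.ne h01.symm) (gi.ne h13) (gi.ne h12) hgw'
    have k3 := key h (by omega) hS4.le hw' (gi.ne h23.symm) (gi.ne h13.symm) (gi.ne h03.symm)
      (by rw [add_comm]; exact hgw')
    have hinv : ∀ x ∈ S, (g : Perm (Fin n)) x ∈ S := by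
      intro x hx
      obtain ⟨i, -, rfl⟩ := Finset.mem_image.1 hx
      fin_cases i
      · exact k0
      · exact k1
      · exact k2
      · exact k3
    have himg : S.image (g : Perm (Fin n)) = S := by
      refine Finset.eq_of_subset_of_card_le ?_ ?_
      · intro y hy
        obtain ⟨x, hx, rfl⟩ := Finset.mem_image.1 hy
        exact hinv x hx
      · rw [Finset.card_image_of_injective _ gi]
    have hinv' : ∀ x ∈ Sᶜ, (g : Perm (Fin n)) x ∈ Sᶜ := by
      intro x hx
      rw [Finset.mem_compl] at hx ⊢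
      intro hgx
      rw [← himg] at hgx
      obtain ⟨y, hy, hyx⟩ := Finset.mem_image.1 hgx
      rw [← gi hyx] at hx
      exact hx hy
    have hg' : (g : Perm (Fin n)) ^ 11 = 1 := by
      have := congrArg Subtype.val hg
      exact this
    apply Subtype.ext
    apply Equiv.ext
    intro x
    by_cases hx : x ∈ S
    · exact fix_of_small hg' hinv (by omega) hx
    · refine fix_of_small hg' hinv' ?_ (Finset.mem_compl.2 hx)
      rw [Finset.card_compl, Fintype.card_fin]
      (clear * - hn hS4; omega)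

end Cfsg.Agent.H953.HTA
end

-- part: H735/HT/SieveAn
section
/-!
# S3512: the sieve for the alternating groups of degree `9 ≤ n ≤ 70`

`alt_sieve` : if `CP (n! / 2) n! w (p ^ k) m h`, `9 ≤ n ≤ 70`, `p ≤ n`, `n - 2 ≤ w`, then `(w, p ^ k, m)` is in
the explicit list `exA n` (nonempty only for `n ∈ {9, …, 14, 17, …, 26}`).
-/

set_option autoImplicit false
set_option maxRecDepth 100000

namespace Cfsg.Agent.H735.HT

open Cfsg.Agent.H391.HT

/-- split off the powers of `p` -/
def strip (p : ℕ) : ℕ → ℕ → ℕ → ℕ × ℕ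
  | 0, a, A => (a, A)
  | f + 1, a, A => bif Nat.beq (A % p) 0 then strip p f (a + 1) (A / p) else (a, A)

/-- the survivors `(w, q, m)` -/
def exA (n : ℕ) : List (ℕ × ℕ × ℕ) :=
  bif Nat.ble n 12 then [(12, 2, 315)]
  else bif Nat.ble n 14 then [(12, 2, 1365), (12, 2, 819), (12, 2, 585), (12, 2, 455), (12, 2, 315), (12, 2, 273),
    (12, 3, 7280)]
  else bif Nat.ble n 16 then []
  else bif Nat.ble n 26 then [(24, 2, 69615)]
  else []

def primes70 : List ℕ := [2, 3, 5, 7, 11, 13, 17, 19, 23, 29, 31, 37, 41, 43, 47, 53, 59, 61, 67]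

theorem mem_primes {p : ℕ} (hp : p.Prime) (h : p ≤ 70) : p ∈ primes70 := by
  have key : ∀ p < 71, p.Prime → p ∈ primes70 := by decide +kernel
  exact key p (by omega) hp

/-! One search for all degrees: a pair `(w, q)` which is excluded with `70!` is excluded for all `n ≤ 70`. -/

private noncomputable def frc {α : Type} (x : ℕ) (f : ℕ → α) : α := Nat.rec (f 0) (fun k _ => f (Nat.succ k)) x

private theorem frc_eq {α : Type} (x : ℕ) (f : ℕ → α) : frc x f = f x := by cases x <;> rfl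

private noncomputable def lK (T : ℕ → Bool) (B p e f : ℕ) : ℕ → Bool :=
  Nat.rec (fun q => Nat.ble B (Nat.pow q e))
    (fun _ ih q => cond (Nat.ble B (Nat.pow q e)) true (cond (T q) (frc (Nat.mul q p) ih) false)) f

private theorem lK_spec {T : ℕ → Bool} {B p e : ℕ} (hp : 0 < p) : ∀ (f k₀ : ℕ), lK T B p e f (p ^ k₀) = true →
    ∀ k, k₀ ≤ k → (p ^ k) ^ e < B → T (p ^ k) = true
  | 0, k₀, h, k, hk, hB => absurd ((Nat.le_of_ble_eq_true h).trans
      (Nat.pow_le_pow_left (Nat.pow_le_pow_right hp hk) e)) (Nat.not_le.2 hB)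
  | f + 1, k₀, h, k, hk, hB => by
    have h1 : cond (Nat.ble B ((p ^ k₀) ^ e)) true (cond (T (p ^ k₀)) (frc (p ^ (k₀ + 1)) (lK T B p e f)) false) = true := h
    cases h2 : Nat.ble B ((p ^ k₀) ^ e)
    · rw [h2, cond_false, frc_eq] at h1
      cases h3 : T (p ^ k₀)
      · rw [h3] at h1
        exact Bool.noConfusion h1
      · rw [h3] at h1
        rcases hk.eq_or_lt with rfl | hlt
        · exact h3
        · exact lK_spec hp f _ h1 k hlt hB
    · exact absurd ((Nat.le_of_ble_eq_true h2).trans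
        (Nat.pow_le_pow_left (Nat.pow_le_pow_right hp hk) e)) (Nat.not_le.2 hB)

private noncomputable def lN (T : ℕ → ℕ → Bool) (B p f : ℕ) : ℕ → Bool :=
  Nat.rec (fun e => Nat.ble B (Nat.pow p e))
    (fun _ ih e => cond (Nat.ble B (Nat.pow p e)) true (cond (lK (T e) B p e 700 p) (frc (Nat.succ e) ih) false)) f

private theorem lN_spec {T : ℕ → ℕ → Bool} {B p : ℕ} (hp : 0 < p) : ∀ (f e₀ : ℕ), lN T B p f e₀ = true →
    ∀ e k, e₀ ≤ e → 1 ≤ k → (p ^ k) ^ e < B → T e (p ^ k) = true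
  | 0, e₀, h, e, k, he, hk, hB => absurd ((Nat.le_of_ble_eq_true h).trans ((Nat.pow_le_pow_right hp he).trans
      (Nat.pow_le_pow_left (Nat.le_self_pow (by omega) p) e))) (Nat.not_le.2 hB)
  | f + 1, e₀, h, e, k, he, hk, hB => by
    have h1 : cond (Nat.ble B (p ^ e₀)) true (cond (lK (T e₀) B p e₀ 700 p) (frc (e₀ + 1) (lN T B p f)) false) = true := h
    cases h2 : Nat.ble B (p ^ e₀)
    · rw [h2, cond_false, frc_eq] at h1
      cases h3 : lK (T e₀) B p e₀ 700 p
      · rw [h3] at h1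
        exact Bool.noConfusion h1
      · rw [h3] at h1
        rcases he.eq_or_lt with rfl | hlt
        · exact lK_spec hp 700 1 (by rwa [pow_one]) k hk hB
        · exact lN_spec hp f _ h1 e k hlt hk hB
    · exact absurd ((Nat.le_of_ble_eq_true h2).trans ((Nat.pow_le_pow_right hp he).trans
        (Nat.pow_le_pow_left (Nat.le_self_pow (by omega) p) e))) (Nat.not_le.2 hB)

private noncomputable def tst (A p e q : ℕ) : Bool :=
  frc (Nat.pow q (Nat.add e 2)) fun N =>
    cond (Nat.blt (Nat.mul 2 (Nat.pow (Nat.gcd (Nat.mul (Nat.sub q 1) A) (Nat.sub N 1)) 2)) N) true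
      ((List.range 62).all fun i => frc (Nat.add 9 i) fun n => cond (Nat.ble n (Nat.add e 4) && Nat.ble p n)
        (chk (exA n) (n.factorial / 2) (e + 2) q N (Nat.gcd ((q - 1) * n.factorial) (N - 1)) 200 1) true)

private noncomputable def allP (A : ℕ) : Bool :=
  primes70.all fun p => frc (strip p 100 0 A).2 fun A' => Nat.beq A (p ^ (strip p 100 0 A).1 * A') &&
    (Nat.blt 0 A' && frc (2 * A' ^ 2) fun B => lN (tst A p) B p 700 5)

private theorem allP_true : frc (Nat.factorial 70) allP = true := by decide +kernel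

theorem mem_exA {n p w k m h : ℕ} (h1 : 9 ≤ n) (h2 : n ≤ 70) (hp : p.Prime) (hpn : p ≤ n) (hw : n - 2 ≤ w)
    (hk : 1 ≤ k) (hc : CP (n.factorial / 2) n.factorial w (p ^ k) m h) : (w, p ^ k, m) ∈ exA n := by
  have hA := allP_true
  have hd := Nat.factorial_dvd_factorial h2
  have hA0 := Nat.factorial_pos 70
  rw [frc_eq] at hA
  generalize Nat.factorial 70 = A at hA hd hA0
  obtain ⟨e, rfl⟩ : ∃ e, w = e + 2 := ⟨w - 2, by omega⟩
  have h3 := List.all_eq_true.1 hA p (mem_primes hp (hpn.trans h2))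
  rw [frc_eq, frc_eq, Bool.and_eq_true, Bool.and_eq_true, Nat.beq_eq, Nat.blt_eq] at h3
  have hc' : CP (n.factorial / 2) A (e + 2) (p ^ k) m h :=
    ⟨hc.1, hc.2.1, hc.2.2.1, hc.2.2.2.1, hc.2.2.2.2.1.trans (Nat.mul_dvd_mul_left _ hd), hc.2.2.2.2.2⟩
  have hq : 0 < p ^ k - 1 := Nat.sub_pos_of_lt (Nat.one_lt_pow (by omega) hp.one_lt)
  have h4 : tst A p e (p ^ k) = true :=
    lN_spec hp.pos 700 5 h3.2.2 e k (by omega) hk (hc'.pow_lt hp h3.1 h3.2.1 hk (Nat.le_add_left 2 e))
  delta tst at h4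
  rw [frc_eq] at h4
  generalize hb : Nat.blt _ _ = b at h4
  cases b
  · have h5 := List.all_eq_true.1 h4 (n - 9) (List.mem_range.2 (by omega))
    rw [frc_eq, show Nat.add 9 (n - 9) = n from Nat.add_sub_cancel' h1, Nat.ble_eq_true_of_le hpn,
      Nat.ble_eq_true_of_le (show n ≤ Nat.add e 4 from (by omega : n ≤ e + 4))] at h5
    obtain ⟨s, hs⟩ : m ∣ Nat.gcd ((p ^ k - 1) * n.factorial) ((p ^ k) ^ (e + 2) - 1) :=
      Nat.dvd_gcd ((Dvd.intro _ rfl).trans hc.2.2.2.2.1) hc.2.1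
    refine chk_spec rfl 200 1 le_rfl h5 m h s (Nat.pos_of_ne_zero fun h0 => ?_) hs hc
    rw [h0, Nat.mul_zero] at hs
    exact (Nat.gcd_pos_of_pos_left _ (Nat.mul_pos hq (Nat.factorial_pos n))).ne' hs
  · have h5 : 2 * Nat.gcd ((p ^ k - 1) * A) ((p ^ k) ^ (e + 2) - 1) ^ 2 < (p ^ k) ^ (e + 2) := Nat.blt_eq.mp hb
    have h6 : m ≤ Nat.gcd ((p ^ k - 1) * A) ((p ^ k) ^ (e + 2) - 1) :=
      Nat.le_of_dvd (Nat.gcd_pos_of_pos_left _ (Nat.mul_pos hq hA0))
        (Nat.dvd_gcd ((Dvd.intro _ rfl).trans hc'.2.2.2.2.1) hc.2.1)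
    exact absurd (hc.le_two.trans (Nat.mul_le_mul_left 2 (Nat.pow_le_pow_left h6 2))) (Nat.not_le.2 h5)

theorem prime_pow_eq {p k r : ℕ} (hp : p.Prime) (hk : 1 ≤ k) (hr : r.Prime) (h : p ^ k = r) : p = r ∧ k = 1 := by
  have h1 : p = r := by
    have h2 : p ∣ r := h ▸ dvd_pow_self p (by omega)
    exact (Nat.prime_dvd_prime_iff_eq hp hr).1 h2
  subst h1
  refine ⟨rfl, ?_⟩
  have := Nat.pow_right_injective hp.two_le (a₁ := k) (a₂ := 1) (by simpa using h)
  exact this

/-- **The sieve for the alternating groups.** -/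
theorem sieve_an {c p w k m h : ℕ} (h1 : 9 ≤ c) (h2 : c ≤ 70) (hp : p.Prime) (hpc : p ≤ c) (hw : c - 2 ≤ w) (hk : 1 ≤ k)
    (hc : Cfsg.Agent.H391.HT.CP (c.factorial / 2) c.factorial w (p ^ k) m h) :
    (p = 2 ∧ k = 1 ∧ w = 12 ∧ c ≤ 14 ∧ m ∣ 4095) ∨ (p = 3 ∧ k = 1 ∧ w = 12 ∧ (c = 13 ∨ c = 14) ∧ m = 7280) ∨
      (p = 2 ∧ k = 1 ∧ w = 24 ∧ 17 ≤ c ∧ c ≤ 26 ∧ m = 69615) := by
  have h3 := mem_exA h1 h2 hp hpc hw hk hc
  rcases (by omega : c ≤ 12 ∨ (13 ≤ c ∧ c ≤ 14) ∨ (15 ≤ c ∧ c ≤ 16) ∨ (17 ≤ c ∧ c ≤ 26) ∨ 27 ≤ c) with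
    h | ⟨h, h'⟩ | ⟨h, h'⟩ | ⟨h, h'⟩ | h
  · have e : exA c = [(12, 2, 315)] := by
      rw [exA, Nat.ble_eq_true_of_le h, cond_true]
    rw [e] at h3
    simp only [List.mem_cons, Prod.mk.injEq, List.not_mem_nil, or_false] at h3
    obtain ⟨rfl, h4, rfl⟩ := h3
    obtain ⟨rfl, rfl⟩ := prime_pow_eq hp hk Nat.prime_two h4
    exact .inl ⟨rfl, rfl, rfl, by omega, by norm_num⟩
  · have e : exA c = [(12, 2, 1365), (12, 2, 819), (12, 2, 585), (12, 2, 455), (12, 2, 315), (12, 2, 273),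
        (12, 3, 7280)] := by
      interval_cases c <;> rfl
    rw [e] at h3
    simp only [List.mem_cons, Prod.mk.injEq, List.not_mem_nil, or_false] at h3
    rcases h3 with ⟨rfl, h4, rfl⟩ | ⟨rfl, h4, rfl⟩ | ⟨rfl, h4, rfl⟩ | ⟨rfl, h4, rfl⟩ | ⟨rfl, h4, rfl⟩ |
      ⟨rfl, h4, rfl⟩ | ⟨rfl, h4, rfl⟩
    · obtain ⟨rfl, rfl⟩ := prime_pow_eq hp hk Nat.prime_two h4
      exact .inl ⟨rfl, rfl, rfl, by omega, by norm_num⟩
    · obtain ⟨rfl, rfl⟩ := prime_pow_eq hp hk Nat.prime_two h4
      exact .inl ⟨rfl, rfl, rfl, by omega, by norm_num⟩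
    · obtain ⟨rfl, rfl⟩ := prime_pow_eq hp hk Nat.prime_two h4
      exact .inl ⟨rfl, rfl, rfl, by omega, by norm_num⟩
    · obtain ⟨rfl, rfl⟩ := prime_pow_eq hp hk Nat.prime_two h4
      exact .inl ⟨rfl, rfl, rfl, by omega, by norm_num⟩
    · obtain ⟨rfl, rfl⟩ := prime_pow_eq hp hk Nat.prime_two h4
      exact .inl ⟨rfl, rfl, rfl, by omega, by norm_num⟩
    · obtain ⟨rfl, rfl⟩ := prime_pow_eq hp hk Nat.prime_two h4
      exact .inl ⟨rfl, rfl, rfl, by omega, by norm_num⟩
    · obtain ⟨rfl, rfl⟩ := prime_pow_eq hp hk Nat.prime_three h4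
      exact .inr (.inl ⟨rfl, rfl, rfl, by omega, rfl⟩)
  · have e : exA c = [] := by
      interval_cases c <;> rfl
    rw [e] at h3
    exact absurd h3 (by simp)
  · have e : exA c = [(24, 2, 69615)] := by
      interval_cases c <;> rfl
    rw [e] at h3
    simp only [List.mem_cons, Prod.mk.injEq, List.not_mem_nil, or_false] at h3
    obtain ⟨rfl, h4, rfl⟩ := h3
    obtain ⟨rfl, rfl⟩ := prime_pow_eq hp hk Nat.prime_two h4
    exact .inr (.inr ⟨rfl, rfl, rfl, h, h', rfl⟩)
  · have e : exA c = [] := by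
      have f1 : Nat.ble c 12 = false := by
        rw [Bool.eq_false_iff]; intro h5; have := Nat.le_of_ble_eq_true h5; omega
      have f2 : Nat.ble c 14 = false := by
        rw [Bool.eq_false_iff]; intro h5; have := Nat.le_of_ble_eq_true h5; omega
      have f3 : Nat.ble c 16 = false := by
        rw [Bool.eq_false_iff]; intro h5; have := Nat.le_of_ble_eq_true h5; omega
      have f4 : Nat.ble c 26 = false := by
        rw [Bool.eq_false_iff]; intro h5; have := Nat.le_of_ble_eq_true h5; omega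
      rw [exA, f1, f2, f3, f4]
      rfl
    rw [e] at h3
    exact absurd h3 (by simp)

end Cfsg.Agent.H735.HT
end

-- part: H953/HTA/E
section
/-!
# Half-transitive linear groups with a normal quasisimple subgroup over `A_n`, `n ≥ 9` (helper953, S3512)

`alt_row` : if `p` divides `|G|` then `G` is transitive.
-/

set_option autoImplicit false
set_option linter.unusedSectionVars false

universe u w

namespace Cfsg.Agent.H953.HTA

open Equiv Equiv.Perm Module Cfsg.Agent.H614.AMod Cfsg.Agent.H828.HT Cfsg.Agent.H742.HT Cfsg.Agent.H391.HT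
  Cfsg.Agent.H192.Ht Cfsg.Agent.H964.AltMod

variable {p : ℕ} [hp : Fact p.Prime] {K : Type w} [Field K] {V : Type u} [AddCommGroup V] [Module (ZMod p) V] [Finite V]
    [Module K V] {G L : Subgroup (V ≃ₗ[ZMod p] V)} {h : ℕ}

theorem charP (H : QL p K V G L h) : CharP K p := by
  obtain ⟨v, hv⟩ := QN.exists_ne H
  have h1 : (p : K) = 0 := by
    have h2 : (p : ℕ) • v = 0 := by
      rw [← Nat.cast_smul_eq_nsmul (ZMod p), ZMod.natCast_self, zero_smul]
    rw [← Nat.cast_smul_eq_nsmul K] at h2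
    exact (smul_eq_zero.1 h2).resolve_right hv
  obtain ⟨r, hr⟩ := CharP.exists K
  have h3 : r ∣ p := (CharP.cast_eq_zero_iff K r p).1 h1
  rcases (Nat.dvd_prime hp.out).1 h3 with rfl | rfl
  · exact absurd rfl (CharP.char_ne_one K 1)
  · exact hr

/-- the action of `L` -/
def act (H : QL p K V G L h) : L →* End K V where
  toFun l :=
    { toFun := fun v => (l : V ≃ₗ[ZMod p] V) v
      map_add' := fun v w => map_add _ v w
      map_smul' := fun c v => H.lin l l.2 c v }
  map_one' := rfl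
  map_mul' a b := rfl

theorem act_injective (H : QL p K V G L h) : Function.Injective (act H) := by
  intro a b hab
  apply Subtype.ext
  apply LinearEquiv.ext
  intro v
  exact LinearMap.congr_fun hab v

/-- the projection -/
def pr {n : ℕ} (e : (L ⧸ Subgroup.center L) ≃* alternatingGroup (Fin n)) : L →* alternatingGroup (Fin n) :=
  e.toMonoidHom.comp (QuotientGroup.mk' (Subgroup.center L))

theorem pr_surj {n : ℕ} (e : (L ⧸ Subgroup.center L) ≃* alternatingGroup (Fin n)) : Function.Surjective (pr e) :=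
  e.surjective.comp (QuotientGroup.mk'_surjective _)

theorem pr_eq_one {n : ℕ} (e : (L ⧸ Subgroup.center L) ≃* alternatingGroup (Fin n)) {k : L} :
    pr e k = 1 ↔ k ∈ Subgroup.center L := by
  show e (QuotientGroup.mk' _ k) = 1 ↔ _
  rw [e.map_eq_one_iff, ← MonoidHom.mem_ker, QuotientGroup.ker_mk']

theorem card_center (H : QL p K V G L h) {n : ℕ} (hn : 9 ≤ n)
    (e : (L ⧸ Subgroup.center L) ≃* alternatingGroup (Fin n)) : Nat.card (Subgroup.center L) ≤ 2 :=
  S0892.result n (by omega) (by omega) (by omega) (Subgroup.center L) le_rfl (by rw [H.perf]; exact le_top) e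

theorem center_sq (H : QL p K V G L h) {n : ℕ} (hn : 9 ≤ n)
    (e : (L ⧸ Subgroup.center L) ≃* alternatingGroup (Fin n)) {k : L} (hk : k ∈ Subgroup.center L) : k ^ 2 = 1 := by
  have h1 := card_center H hn e
  have h2 : 0 < Nat.card (Subgroup.center L) := Nat.card_pos
  have h3 : (⟨k, hk⟩ : Subgroup.center L) ^ Nat.card (Subgroup.center L) = 1 := pow_card_eq_one'
  have h4 : k ^ Nat.card (Subgroup.center L) = 1 := congrArg Subtype.val h3
  obtain h5 | h5 : Nat.card (Subgroup.center L) = 1 ∨ Nat.card (Subgroup.center L) = 2 := by omega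
  · rw [h5, pow_one] at h4
    rw [h4, one_pow]
  · rwa [h5] at h4

theorem cov (H : QL p K V G L h) {n : ℕ} (hn : 9 ≤ n) (e : (L ⧸ Subgroup.center L) ≃* alternatingGroup (Fin n)) :
    Cov n (pr e) where
  surj := pr_surj e
  ker k hk := by
    rw [pr_eq_one] at hk
    exact ⟨center_sq H hn e hk, fun g => (Subgroup.mem_center_iff.1 hk g).symm⟩

theorem le_finrank (H : QL p K V G L h) {n : ℕ} (hn : 9 ≤ n)
    (e : (L ⧸ Subgroup.center L) ≃* alternatingGroup (Fin n)) : n - 2 ≤ finrank K V := by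
  have := charP H
  have := QN.finiteDim H
  have h1 := H189.FeitTits.feit_tits (k := K) p (r := n) hn (pr e) (pr_surj e) (act H) (by
    intro g hg
    rw [act_injective H (hg.trans (map_one (act H)).symm), map_one])
  split_ifs at h1 <;> omega

/-- a subgroup of `L` with a fixed vector -/
theorem card_dvd_of_fixed (H : QL p K V G L h) (N : Subgroup L) {v : V} (hv : v ≠ 0)
    (hN : ∀ g ∈ N, act H g v = v) : Nat.card N ∣ h := by
  have h1 : Nat.card N = Nat.card (N.map L.subtype) :=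
    Nat.card_congr (N.equivMapOfInjective _ L.subtype_injective).toEquiv
  rw [h1]
  refine card_dvd_h H.half _ ?_ hv ?_
  · rintro _ ⟨g, -, rfl⟩
    exact H.le g.2
  · rintro _ ⟨g, hg, rfl⟩
    exact hN g hg

theorem card_alt {n : ℕ} (hn : 2 ≤ n) : 2 * Nat.card (alternatingGroup (Fin n)) = n.factorial := by
  have : Nontrivial (Fin n) := Fin.nontrivial_iff_two_le.2 hn
  rw [two_mul_nat_card_alternatingGroup, Nat.card_perm, Nat.card_eq_fintype_card, Fintype.card_fin]

/-- **the divisibility from the engine** -/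
theorem engine (H : QL p K V G L h) {n m : ℕ} (hn : 9 ≤ n)
    (e : (L ⧸ Subgroup.center L) ≃* alternatingGroup (Fin n)) (hm : m * h = Nat.card G) {l a : ℕ} (hl : l.Prime)
    (hl2 : l ≠ 2) (hlp : l ≠ p) (hr : l ^ (a + 1) + 9 ≤ n)
    (hd : finrank K V < Nat.totient (l ^ (a + 1)) * (n - l ^ (a + 1) - 2)) :
    m * (n - l ^ (a + 1)).factorial ∣ 2 * ((Nat.card K - 1) * n.factorial) := by
  have := charP H
  have := QN.finiteDim H
  obtain ⟨N, hN, v, hv, hNv⟩ := (cov H hn e).exists_fixed p hl hl2 hlp hr (act H) (act_injective H) hd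
  have h1 := hN.trans (card_dvd_of_fixed H N hv hNv)
  have h2 : Nat.card G ∣ (Nat.card K - 1) * n.factorial := by
    have h3 := QN.card_G_dvd H
    rwa [Nat.card_congr (MulAut.congr e).toEquiv, H348.HT.card_aut_alt n (by omega) (by omega)] at h3
  rw [← card_alt (n := n - l ^ (a + 1)) (by omega), mul_left_comm]
  refine Nat.mul_dvd_mul_left 2 ?_
  exact (Nat.mul_dvd_mul_left m h1).trans (by rw [hm]; exact h2)

/-- **large degree** -/
theorem no_big (H : QL p K V G L h) (hpG : p ∣ Nat.card G) (hT : ¬ Tr G) {n : ℕ} (hn : 71 ≤ n)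
    (e : (L ⧸ Subgroup.center L) ≃* alternatingGroup (Fin n)) : False := by
  obtain ⟨m, hm, hcp, -, -, hm0⟩ := QN.cp H hpG hT
  have hK := QN.two_le_card H
  refine large (p := p) (q := Nat.card K) (m := m) (w := finrank K V) hn hK ?_ (le_finrank H (by omega) e)
    hcp.le_two ?_ ?_
  · rintro rfl
    obtain ⟨k, hk, hk0⟩ := QN.exists_card H
    rw [hk]
    exact Nat.le_self_pow (by omega) 3
  · have h3 := QN.card_G_dvd H
    rw [Nat.card_congr (MulAut.congr e).toEquiv, H348.HT.card_aut_alt n (by omega) (by omega), ← hm] at h3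
    exact Nat.le_of_dvd (Nat.mul_pos (by omega) (Nat.factorial_pos n)) ((Dvd.intro _ rfl).trans h3)
  · intro l a hl hl2 hlp hr hd
    exact Nat.le_of_dvd (Nat.mul_pos (by norm_num) (Nat.mul_pos (by omega) (Nat.factorial_pos n)))
      (engine H (by omega) e hm hl hl2 hlp hr hd)

/-- the numerical cases -/
theorem cases (H : QL p K V G L h) (hpG : p ∣ Nat.card G) (hT : ¬ Tr G) {n : ℕ} (hn : 9 ≤ n) (hn' : n ≤ 70)
    (e : (L ⧸ Subgroup.center L) ≃* alternatingGroup (Fin n)) : ∃ m, m * h = Nat.card G ∧ Nat.card K = p ∧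
      ((p = 2 ∧ finrank K V = 12 ∧ n ≤ 14 ∧ m ∣ 4095) ∨ (p = 3 ∧ finrank K V = 12 ∧ (n = 13 ∨ n = 14) ∧ m = 7280) ∨
        (p = 2 ∧ finrank K V = 24 ∧ 17 ≤ n ∧ n ≤ 26 ∧ m = 69615)) := by
  obtain ⟨m, hm, hcp, -, -, hm0⟩ := QN.cp H hpG hT
  obtain ⟨k, hk, hk0⟩ := QN.exists_card H
  have h1 : Nat.card (L ⧸ Subgroup.center L) = n.factorial / 2 := by
    rw [Nat.card_congr e.toEquiv, ← card_alt (n := n) (by omega), Nat.mul_div_cancel_left _ (by norm_num)]
  have h2 : Nat.card (MulAut (L ⧸ Subgroup.center L)) = n.factorial := by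
    rw [Nat.card_congr (MulAut.congr e).toEquiv, H348.HT.card_aut_alt n (by omega) (by omega)]
  rw [h1, h2, hk] at hcp
  have hpn : p ≤ n := by
    have h3 := QN.card_G_dvd H
    rw [h2, hk] at h3
    rcases hp.out.dvd_mul.1 (hpG.trans h3) with h4 | h4
    · exfalso
      have h5 : p ∣ p ^ k := dvd_pow_self p (by omega)
      have h6 : 1 ≤ p ^ k := Nat.one_le_pow _ _ hp.out.pos
      have h7 := Nat.dvd_sub h5 h4
      rw [show p ^ k - (p ^ k - 1) = 1 by omega] at h7
      exact hp.out.one_lt.ne' (Nat.dvd_one.1 h7)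
    · exact (Nat.Prime.dvd_factorial hp.out).1 h4
  refine ⟨m, hm, ?_⟩
  rcases H735.HT.sieve_an hn hn' hp.out hpn (le_finrank H hn e) hk0 hcp with ⟨h3, h4, h5, h6, h7⟩ | ⟨h3, h4, h5, h6, h7⟩ |
    ⟨h3, h4, h5, h6, h7, h8⟩
  · exact ⟨by rw [hk, h4, pow_one], Or.inl ⟨h3, h5, h6, h7⟩⟩
  · exact ⟨by rw [hk, h4, pow_one], Or.inr (Or.inl ⟨h3, h5, h6, h7⟩)⟩
  · exact ⟨by rw [hk, h4, pow_one], Or.inr (Or.inr ⟨h3, h5, h6, h7, h8⟩)⟩

/-- `w = 24` -/
theorem no_24 {n m : ℕ} (h1 : 17 ≤ n) (h2 : n ≤ 26) (hm : m = 69615)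
    (h : m * (n - 5).factorial ∣ 2 * ((2 - 1) * n.factorial)) : False := by
  subst hm
  interval_cases n <;> revert h <;> decide +kernel

end Cfsg.Agent.H953.HTA
end

-- part: H953/HTA/G
section
/-!
# Half-transitive linear groups with a normal quasisimple subgroup over `A_n`, `n ≥ 9`: the row (helper953, S3512)

`alt_row` : if `p` divides `|G|` then `G` is transitive.
-/

set_option autoImplicit false
set_option linter.unusedSectionVars false

universe u w

namespace Cfsg.Agent.H953.HTA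

open scoped commutatorElement

open Equiv Equiv.Perm Module Cfsg.Agent.H614.AMod Cfsg.Agent.H828.HT Cfsg.Agent.H742.HT Cfsg.Agent.H391.HT
  Cfsg.Agent.H192.Ht Cfsg.Agent.H964.AltMod

variable {p : ℕ} [hp : Fact p.Prime] {K : Type w} [Field K] {V : Type u} [AddCommGroup V] [Module (ZMod p) V] [Finite V]
    [Module K V] {G L : Subgroup (V ≃ₗ[ZMod p] V)} {h : ℕ}

/-- central elements are scalars -/
theorem center_scalar (H : QL p K V G L h) {k : L} (hk : k ∈ Subgroup.center L) : ∃ c : K, ∀ v, act H k v = c • v := by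
  refine H.endo ((k : V ≃ₗ[ZMod p] V) : V →ₗ[ZMod p] V) fun l hl v => ?_
  have h1 := congrArg Subtype.val (Subgroup.mem_center_iff.1 hk ⟨l, hl⟩)
  have h2 : l * (k : V ≃ₗ[ZMod p] V) = k * l := h1
  exact (LinearEquiv.congr_fun h2 v).symm

/-- central elements are `± 1` -/
theorem center_pm (H : QL p K V G L h) {n : ℕ} (hn : 9 ≤ n) (e : (L ⧸ Subgroup.center L) ≃* alternatingGroup (Fin n))
    {k : L} (hk : k ∈ Subgroup.center L) : k = 1 ∨ ∀ v, act H k v = -v := by
  obtain ⟨c, hc⟩ := center_scalar H hk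
  obtain ⟨v, hv⟩ := QN.exists_ne H
  have h1 := center_sq H hn e hk
  have h2 : (c * c) • v = v := by
    have h3 : act H (k ^ 2) v = v := by rw [h1, map_one]; rfl
    rw [pow_two, map_mul, End.mul_apply, hc, hc, smul_smul] at h3
    exact h3
  have h3 : c * c = 1 := by
    have h4 : (c * c - 1) • v = 0 := by rw [sub_smul, one_smul, h2, sub_self]
    exact sub_eq_zero.1 ((smul_eq_zero.1 h4).resolve_right hv)
  rcases mul_self_eq_one_iff.1 h3 with h4 | h4
  · left
    apply act_injective H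
    rw [map_one]
    apply LinearMap.ext
    intro v
    rw [hc, h4, one_smul]
    rfl
  · right
    intro v
    rw [hc, h4, neg_smul, one_smul]

theorem center_two (H : QL p K V G L h) (hp2 : p = 2) {n : ℕ} (hn : 9 ≤ n)
    (e : (L ⧸ Subgroup.center L) ≃* alternatingGroup (Fin n)) : Subgroup.center L = ⊥ := by
  rw [eq_bot_iff]
  intro k hk
  rw [Subgroup.mem_bot]
  rcases center_pm H hn e hk with h1 | h1
  · exact h1
  · apply act_injective H
    rw [map_one]
    apply LinearMap.ext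
    intro v
    rw [h1]
    show -v = v
    have h2 : (2 : ℕ) • v = 0 := by
      rw [← Nat.cast_smul_eq_nsmul (ZMod p), ← hp2, ZMod.natCast_self, zero_smul]
    rw [two_nsmul] at h2
    exact neg_eq_of_add_eq_zero_left h2

/-- no double covers in degree 12, characteristic 3 -/
theorem center_three (H : QL p K V G L h) (hp3 : p = 3) {n : ℕ} (hn : 10 ≤ n)
    (e : (L ⧸ Subgroup.center L) ≃* alternatingGroup (Fin n)) (hd : finrank K V = 12) : Subgroup.center L = ⊥ := by
  classical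
  have hchp : CharP K 3 := by rw [← hp3]; exact charP H
  have := QN.finiteDim H
  rw [eq_bot_iff]
  intro z hz
  rw [Subgroup.mem_bot]
  by_contra hz1
  have hm := (center_pm H (by omega) e hz).resolve_left hz1
  have hker : ∀ x, pr e x = 1 ↔ x = 1 ∨ x = z := by
    intro x
    rw [pr_eq_one]
    constructor
    · intro hx
      rcases center_pm H (by omega) e hx with h1 | h1
      · exact Or.inl h1
      · right
        apply act_injective H
        apply LinearMap.ext
        intro v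
        rw [h1, hm]
    · rintro (rfl | rfl)
      · exact Subgroup.one_mem _
      · exact hz
  have hcov : SporadicRecognition.AltCover.IsCover (pr e) z :=
    { z_ne := hz1
      z_mul := by rw [← pow_two]; exact center_sq H (by omega) e hz
      z_comm := fun x => Subgroup.mem_center_iff.1 hz x
      surj := pr_surj e
      ker := hker
      nonsplit := by
        intro s hs
        have h1 : commutator L ≤ s.range := by
          rw [commutator_def, Subgroup.commutator_le]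
          intro x _ y _
          have key : ∀ x : L, ∃ k ∈ Subgroup.center L, x = s (pr e x) * k := by
            intro x
            refine ⟨(s (pr e x))⁻¹ * x, ?_, by group⟩
            rw [← pr_eq_one e, map_mul, map_inv, hs, inv_mul_cancel]
          obtain ⟨k, hk, hxk⟩ := key x
          obtain ⟨k', hk', hyk⟩ := key y
          refine ⟨⁅pr e x, pr e y⁆, ?_⟩
          rw [map_commutatorElement]
          conv_rhs => rw [hxk, hyk]
          have c1 := fun g => Subgroup.mem_center_iff.1 hk g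
          have c2 := fun g => Subgroup.mem_center_iff.1 hk' g
          rw [commutatorElement_def, commutatorElement_def, mul_inv_rev, mul_inv_rev]
          have e1 : s ((pr e) x) * k * (s ((pr e) y) * k') * (k⁻¹ * (s ((pr e) x))⁻¹) * (k'⁻¹ * (s ((pr e) y))⁻¹) =
              s ((pr e) x) * (k * (s ((pr e) y) * k') * k⁻¹) * (s ((pr e) x))⁻¹ * (k'⁻¹ * (s ((pr e) y))⁻¹) := by
            group
          rw [e1, ← c1, mul_inv_cancel_right]
          have e2 : s ((pr e) x) * (s ((pr e) y) * k') * (s ((pr e) x))⁻¹ * (k'⁻¹ * (s ((pr e) y))⁻¹) =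
              s ((pr e) x) * s ((pr e) y) * (k' * (s ((pr e) x))⁻¹) * (k'⁻¹ * (s ((pr e) y))⁻¹) := by
            group
          rw [e2, ← c2]
          group
        rw [H.perf] at h1
        obtain ⟨x, hx⟩ := h1 (Subgroup.mem_top z)
        apply hz1
        have h3 := hs x
        rw [hx, (hker z).2 (Or.inr rfl)] at h3
        rw [← hx, ← h3, map_one] }
  let K0 := SporRec.TwoAn.ofIsCover (n := n) (by omega) hcov
  -- extension of scalars
  let b := finBasis K V
  let θ : L →* Matrix (Fin (finrank K V)) (Fin (finrank K V)) K :=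
    (LinearMap.toMatrixAlgEquiv b).toAlgHom.toRingHom.toMonoidHom.comp (act H)
  have hch : CharP (AlgebraicClosure K) 3 := charP_of_injective_algebraMap (algebraMap K _).injective 3
  let σK : L →* End (AlgebraicClosure K) (Fin (finrank K V) → AlgebraicClosure K) :=
    (Matrix.toLinAlgEquiv' (R := AlgebraicClosure K) (n := Fin (finrank K V))).toAlgHom.toRingHom.toMonoidHom.comp
      ((algebraMap K (AlgebraicClosure K)).mapMatrix.toMonoidHom.comp θ)
  have hθ : θ z = -1 := by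
    show LinearMap.toMatrixAlgEquiv b (act H z) = -1
    have h1 : act H z = -1 := LinearMap.ext fun v => hm v
    rw [h1, map_neg, map_one]
  have hσ : ∀ v, σK z v = -v := by
    intro v
    show (((θ z).map (algebraMap K (AlgebraicClosure K))).mulVec v) = -v
    rw [hθ, ← RingHom.mapMatrix_apply, map_neg, map_one, Matrix.neg_mulVec, Matrix.one_mulVec]
  have h2 : (2 : AlgebraicClosure K) ≠ 0 := by
    intro h0
    have h1 : ((2 : ℕ) : AlgebraicClosure K) = 0 := by exact_mod_cast h0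
    exact absurd ((CharP.cast_eq_zero_iff _ 3 2).1 h1) (by norm_num)
  have h5 : (5 : AlgebraicClosure K) ≠ 0 := by
    intro h0
    have h1 : ((5 : ℕ) : AlgebraicClosure K) = 0 := by exact_mod_cast h0
    exact absurd ((CharP.cast_eq_zero_iff _ 3 5).1 h1) (by norm_num)
  have hnt : Nontrivial (Fin (finrank K V) → AlgebraicClosure K) := by
    rw [hd]
    infer_instance
  have h6 := H189.AltSpinLow.spin_mono (H189.AltSpinLow.spin_ten h2 h5) hn L K0 _ σK hσ hnt
  rw [finrank_fin_fun, hd] at h6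
  omega

/-- the equivalence with `A_n` -/
theorem exists_iso {n : ℕ} (e : (L ⧸ Subgroup.center L) ≃* alternatingGroup (Fin n))
    (hc : Subgroup.center L = ⊥) : ∃ ψ : L ≃* alternatingGroup (Fin n), ∀ l, ψ l = pr e l :=
  ⟨MulEquiv.ofBijective (pr e) ⟨(injective_iff_map_eq_one _).2 fun k hk => by
    rw [pr_eq_one, hc] at hk
    exact Subgroup.mem_bot.1 hk, pr_surj e⟩, fun _ => rfl⟩

/-- irreducibility over `K` -/
theorem irrK (H : QL p K V G L h) {n : ℕ} (ψ : L ≃* alternatingGroup (Fin n)) :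
    Irr (((act H).comp ψ.symm.toMonoidHom : alternatingGroup (Fin n) →* End K V) :
      Representation K (alternatingGroup (Fin n)) V) := by
  intro W hW
  rcases H.irr (AddSubgroup.toZModSubmodule p W.toAddSubgroup) (by
    intro l hl v hv
    have h1 := hW (ψ ⟨l, hl⟩) v hv
    have h2 : act H (ψ.symm (ψ ⟨l, hl⟩)) v ∈ W := h1
    rw [ψ.symm_apply_apply] at h2
    exact h2) with h1 | h1
  · left
    rw [eq_bot_iff]
    intro v hv
    have h2 : v ∈ AddSubgroup.toZModSubmodule p W.toAddSubgroup := hv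
    rw [h1, Submodule.mem_bot] at h2
    rw [Submodule.mem_bot]
    exact h2
  · right
    rw [eq_top_iff]
    intro v _
    have h2 : v ∈ AddSubgroup.toZModSubmodule p W.toAddSubgroup := by rw [h1]; trivial
    exact h2

/-- **degree 12** -/
theorem no_12 (H : QL p K V G L h) {n m : ℕ} (hn : 9 ≤ n) (hn' : n ≤ 14) (hm : m * h = Nat.card G)
    (e : (L ⧸ Subgroup.center L) ≃* alternatingGroup (Fin n)) (hp23 : p = 2 ∨ (p = 3 ∧ 10 ≤ n)) (hd : finrank K V = 12)
    (h11 : ¬ 11 ∣ m) : False := by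
  classical
  have hch := charP H
  have hfd := QN.finiteDim H
  have hc : Subgroup.center L = ⊥ := by
    rcases hp23 with h2 | ⟨h3, h10⟩
    · exact center_two H h2 hn e
    · exact center_three H h3 h10 e hd
  obtain ⟨ψ, hψ⟩ := exists_iso e hc
  let ρ : Representation K (alternatingGroup (Fin n)) V := (act H).comp ψ.symm.toMonoidHom
  have hρ : ∀ g v, ρ g v = act H (ψ.symm g) v := fun g v => rfl
  have hirr : Irr ρ := irrK H ψ
  obtain ⟨g₀, v₀, hne⟩ : ∃ (g₀ : alternatingGroup (Fin n)) (v₀ : V), ρ g₀ v₀ ≠ v₀ := by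
    by_contra hcon
    push Not at hcon
    obtain ⟨a, ha, b, hb, hab⟩ := H.nonab
    have h1 : ∀ l : L, l = 1 := by
      intro l
      apply act_injective H
      rw [map_one]
      apply LinearMap.ext
      intro v
      have h2 := hcon (ψ l) v
      rw [hρ, ψ.symm_apply_apply] at h2
      exact h2
    apply hab
    have h2 : a = 1 := congrArg Subtype.val (h1 ⟨a, ha⟩)
    rw [h2, one_mul, mul_one]
  have hI : Indep ρ := by
    by_cases h10 : 10 ≤ n
    · refine indep_ten (by rwa [Fintype.card_fin]) ?_ (by omega)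
      intro h5
      have h1 : ((5 : ℕ) : K) = 0 := by exact_mod_cast h5
      have h2 := (CharP.cast_eq_zero_iff K p 5).1 h1
      rcases hp23 with rfl | ⟨rfl, -⟩
      · exact absurd h2 (by norm_num)
      · exact absurd h2 (by norm_num)
    · have hp2 : p = 2 := by
        rcases hp23 with h1 | ⟨-, h1⟩
        · exact h1
        · exact absurd h1 h10
      subst hp2
      rcases nine (ρ := ρ) (by rw [Fintype.card_fin]; exact hn) (by
        intro h3
        exact absurd ((CharP.cast_eq_zero_iff K 2 3).1 h3) (by norm_num)) hd.le hirr hne with h1 | ⟨h1, -⟩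
      · exact h1
      · omega
  obtain ⟨F, hF1, hF2, hF3, hF4, hF5⟩ := natural hI (by rw [Fintype.card_fin]; omega) hirr hne
  have hN : NatM ρ F := ⟨hF1, hF2, hF3, hF4, hF5⟩
  have h1 := finrank_le hN (by omega)
  have h13 : n = 13 ∨ n = 14 := by omega
  obtain ⟨v, hv, hno⟩ := no_eleven hN h13
  have h0 : 0 < h := Cfsg.Agent.H19.HT.h_pos H.half hv
  have h2 := orbit_normal_dvd_m H.half h0 hm L H.le H.nrm hv
  have h3 : ¬ 11 ∣ Nat.card (MulAction.orbit L v) := fun h4 => h11 (h4.trans h2)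
  have h4 := MulAction.card_orbit_mul_card_stabilizer_eq_card_group L v
  rw [← Nat.card_eq_fintype_card, ← Nat.card_eq_fintype_card, ← Nat.card_eq_fintype_card] at h4
  have hFa : Fact (Nat.Prime 11) := ⟨by norm_num⟩
  have h5 : 11 ∣ Nat.card L := by
    have h6 := card_alt (n := n) (by omega)
    rw [← Nat.card_congr ψ.toEquiv] at h6
    have h7 : 11 ∣ 2 * Nat.card L := by
      rw [h6]
      exact (Nat.Prime.dvd_factorial (by norm_num)).2 (by omega)
    rcases (Nat.Prime.dvd_mul (by norm_num : Nat.Prime 11)).1 h7 with h8 | h8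
    · exact absurd h8 (by norm_num)
    · exact h8
  rw [← h4] at h5
  rcases (Nat.Prime.dvd_mul (by norm_num : Nat.Prime 11)).1 h5 with h6 | h6
  · exact h3 h6
  · obtain ⟨x, hx⟩ := exists_prime_orderOf_dvd_card' 11 h6
    have hx11 : ((x : MulAction.stabilizer L v) : L) ^ 11 = 1 := by
      have : x ^ 11 = 1 := by rw [← hx, pow_orderOf_eq_one]
      exact congrArg Subtype.val this
    have hxv : act H (x : L) v = v := x.2
    have h7 := hno (ψ x) (by rw [hρ, ψ.symm_apply_apply]; exact hxv) (by rw [← map_pow, hx11, map_one])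
    have h8 : (x : L) = 1 := by
      apply ψ.injective
      rw [h7, map_one]
    have h9 : x = 1 := Subtype.ext h8
    rw [h9, orderOf_one] at hx
    omega

/-- **The row `A_n`, `n ≥ 9`** -/
theorem alt_row (H : QL p K V G L h) (hpG : p ∣ Nat.card G) {n : ℕ} (hn : 9 ≤ n)
    (e : (L ⧸ Subgroup.center L) ≃* alternatingGroup (Fin n)) : Tr G := by
  by_contra hT
  rcases Nat.lt_or_ge n 71 with h1 | h1
  · obtain ⟨m, hm, hK, ⟨h2, h3, h4, h5⟩ | ⟨h2, h3, h4, h5⟩ | ⟨h2, h3, h4, h5, h6⟩⟩ := cases H hpG hT hn (by omega) e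
    · refine no_12 H hn h4 hm e (Or.inl h2) h3 fun h6 => ?_
      exact absurd (h6.trans h5) (by norm_num)
    · refine no_12 H hn (by omega) hm e (Or.inr ⟨h2, by omega⟩) h3 fun h6 => ?_
      rw [h5] at h6
      exact absurd h6 (by norm_num)
    · have h7 := engine H hn e hm (l := 5) (a := 0) (by norm_num) (by norm_num) (by omega) (by norm_num; omega) (by
        rw [h3]
        have : Nat.totient (5 ^ (0 + 1)) = 4 := by decide +kernel
        rw [this]
        norm_num only [_root_.gt_iff_lt]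
        omega)
      rw [hK, h2] at h7
      exact no_24 h4 h5 h6 h7
  · exact no_big H hpG hT h1 e

end Cfsg.Agent.H953.HTA
end

-- part: H800/HT/Surv
section
/-!
# S3512, quasisimple rows: the survivors `L2(7)`, `L2(17)`, `A6` (helper800)

* `num_frob` : a Frobenius group `r : p ^ k` in `L / Z(L)`, `r ∤ h`;
* `row_l27`, `row_l217`, `row_a6` : the candidates of `H391.HT.Small` for these groups do not occur.
-/

set_option autoImplicit false

universe u w

namespace Cfsg.Agent.H800.HT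

open Module Cfsg.Agent.H828.HT Cfsg.Agent.H742.HT Cfsg.Agent.H192.Ht Cfsg.Agent.H912.Bd

section gen

variable {p : ℕ} [Fact p.Prime] {K : Type w} [Field K] {V : Type u} [AddCommGroup V] [Module (ZMod p) V] [Finite V]
    [Module K V] {G L : Subgroup (V ≃ₗ[ZMod p] V)} {h : ℕ}

/-- **A Frobenius group `r : p ^ k` in `L / Z(L)`.** -/
theorem num_frob (H : QL p K V G L h) (h0 : 0 < h) {m i : ℕ} (hm : m * h = Nat.card G) (hi : i * m = Nat.card V - 1)
    {r a k : ℕ} (hr : r.Prime) (hrp : r ≠ p) (hrZ : r.Coprime (Nat.card (Subgroup.center L)))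
    (hpZ : p.Coprime (Nat.card (Subgroup.center L))) (hrh : ¬ r ∣ h) {z y : L ⧸ Subgroup.center L}
    (hz : z ^ r = 1) (hz1 : z ≠ 1) (hy : y ^ p ^ k = 1) (hyz : y * z * y⁻¹ = z ^ a)
    (he : orderOf (a : ZMod r) = p ^ k) :
    ∃ c, p ^ k * c = finrank K V ∧ i * (m % p) + 1 ≤ Nat.card K ^ c := by
  have hfr : Fact r.Prime := ⟨hr⟩
  obtain ⟨z', hz', rfl⟩ := Lift.lift_pow hrZ z hz
  obtain ⟨y', hy', rfl⟩ := Lift.lift_pow (hpZ.pow_left k) y hy
  have hrel : y' * z' * y'⁻¹ = z' ^ a := Lift.lift_rel hrZ hz' hyz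
  have hz1' : z' ≠ 1 := by
    rintro rfl
    exact hz1 rfl
  have hp0 : 0 < p ^ k := pow_pos (Fact.out : p.Prime).pos k
  obtain ⟨c, h1, h2, -⟩ := frob H hr hrp hz' hrel he hp0 hy' (fun v hv => by
    refine fpf_of_not_dvd H.half hrh (H.le z'.2) ?_ ?_ hv
    · exact congrArg Subtype.val hz'
    · intro h3
      exact hz1' (Subtype.ext h3))
  refine ⟨c, h1, ?_⟩
  rw [← h2]
  exact Fus.fus_fx H.half h0 hm hi Fact.out (H.le y'.2) (k := k) (congrArg Subtype.val hy')

/-- `p` divides `|V|`, so `|K| = 2` forces `p = 2` -/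
theorem p_dvd (H : QL p K V G L h) : p ∣ Nat.card V := by
  obtain ⟨v, hv⟩ := QN.exists_ne H
  have h1 : addOrderOf v = p := by
    refine addOrderOf_eq_prime ?_ hv
    rw [← Nat.cast_smul_eq_nsmul (ZMod p), ZMod.natCast_self, zero_smul]
  rw [← h1]
  exact addOrderOf_dvd_natCard v

theorem p_eq (H : QL p K V G L h) {r n : ℕ} (hr : r.Prime) (hV : Nat.card V = r ^ n) : p = r := by
  have h1 := p_dvd H
  rw [hV] at h1
  exact (Nat.prime_dvd_prime_iff_eq Fact.out hr).1 ((Fact.out : p.Prime).dvd_of_dvd_pow h1)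

theorem not_dvd_of {N m h r : ℕ} (hd : m * h ∣ N) (hr : ¬ m * r ∣ N) : ¬ r ∣ h := fun ⟨j, hj⟩ => hr (by
  refine Dvd.dvd.trans ?_ hd
  rw [hj, ← mul_assoc]
  exact dvd_mul_right _ _)

end gen

/-! ### The Frobenius subgroups of `PSL(2, 7)` and `PSL(2, 17)` -/

section psl

open Matrix

theorem mem_cen {q : ℕ} [Fact q.Prime] (A : _root_.Matrix.SpecialLinearGroup (Fin 2) (ZMod q)) :
    A ∈ Subgroup.center (_root_.Matrix.SpecialLinearGroup (Fin 2) (ZMod q)) ↔ A 0 1 = 0 ∧ A 1 0 = 0 ∧ A 0 0 = A 1 1 := by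
  rw [Matrix.SpecialLinearGroup.mem_center_iff]
  constructor
  · rintro ⟨r, -, h⟩
    refine ⟨?_, ?_, ?_⟩
    · have := congrFun (congrFun h 0) 1
      simpa using this.symm
    · have := congrFun (congrFun h 1) 0
      simpa using this.symm
    · have h0 := congrFun (congrFun h 0) 0
      have h1 := congrFun (congrFun h 1) 1
      simp at h0 h1
      rw [← h0, ← h1]
  · rintro ⟨h1, h2, h3⟩
    refine ⟨A 0 0, ?_, ?_⟩
    · have hd := A.det_coe
      rw [det_fin_two] at hd
      rw [h1, ← h3] at hd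
      simp only [Fintype.card_fin]
      rw [pow_two]
      linear_combination hd
    · ext i j
      fin_cases i <;> fin_cases j
      · simp
      · simpa only [_root_.Fin.isValue, _root_.Fin.zero_eta, _root_.Fin.mk_one, _root_.Matrix.scalar_apply, _root_.ne_eq, _root_.zero_ne_one, _root_.not_false_eq_true, _root_.Matrix.diagonal_apply_ne] using h1.symm
      · simpa using h2.symm
      · simpa using h3

theorem pr_eq_one {q : ℕ} [Fact q.Prime] (A : _root_.Matrix.SpecialLinearGroup (Fin 2) (ZMod q)) :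
    (QuotientGroup.mk A : ProjectiveSpecialLinearGroup (Fin 2) (ZMod q)) = 1 ↔ A 0 1 = 0 ∧ A 1 0 = 0 ∧ A 0 0 = A 1 1 := by
  rw [← mem_cen]
  exact QuotientGroup.eq_one_iff A

/-- `PSL(2, q)`, `q` prime, contains `q : e` -/
structure FrobIn (T : Type*) [Group T] (r e a : ℕ) : Prop where
  ex : ∃ z y : T, z ^ r = 1 ∧ z ≠ 1 ∧ y ^ e = 1 ∧ y * z * y⁻¹ = z ^ a

theorem FrobIn.congr {T T' : Type*} [Group T] [Group T'] {r e a : ℕ} (f : T ≃* T') (h : FrobIn T r e a) :
    FrobIn T' r e a := by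
  obtain ⟨z, y, h1, h2, h3, h4⟩ := h.ex
  refine ⟨f z, f y, by rw [← map_pow, h1, map_one], ?_, by rw [← map_pow, h3, map_one], ?_⟩
  · intro h5
    exact h2 (f.injective (by rw [h5, map_one]))
  · rw [← map_inv, ← map_mul, ← map_mul, h4, map_pow]

theorem frobIn_of {q : ℕ} [Fact q.Prime] {r e a : ℕ} (z y : _root_.Matrix.SpecialLinearGroup (Fin 2) (ZMod q))
    (h1 : z ^ r = 1) (h2 : z 0 1 ≠ 0) (h3 : (y ^ e) 0 1 = 0 ∧ (y ^ e) 1 0 = 0 ∧ (y ^ e) 0 0 = (y ^ e) 1 1)
    (h4 : y * z = z ^ a * y) : FrobIn (ProjectiveSpecialLinearGroup (Fin 2) (ZMod q)) r e a := by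
  refine ⟨QuotientGroup.mk z, QuotientGroup.mk y, ?_, ?_, ?_, ?_⟩
  · rw [← QuotientGroup.mk_pow, h1]; rfl
  · rw [Ne, pr_eq_one]; exact fun h => h2 h.1
  · rw [← QuotientGroup.mk_pow, pr_eq_one]; exact h3
  · rw [mul_inv_eq_iff_eq_mul, ← QuotientGroup.mk_pow, ← QuotientGroup.mk_mul, ← QuotientGroup.mk_mul, h4]

theorem frobIn_of_isL {q : ℕ} [hq : Fact q.Prime] {T : Type*} [Group T] (hT : IsL 2 q T) {r e a : ℕ}
    (h : FrobIn (ProjectiveSpecialLinearGroup (Fin 2) (ZMod q)) r e a) : FrobIn T r e a := by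
  obtain ⟨F, _, _, hF, ⟨f⟩⟩ := hT
  have g : ProjectiveSpecialLinearGroup (Fin 2) (ZMod q) ≃* ProjectiveSpecialLinearGroup (Fin 2) F :=
    LieClassical.FieldTransfer.pslCongr (FiniteField.ringEquivOfCardEq (K := ZMod q) (K' := F) (by rw [hF, ZMod.card]))
  exact (h.congr g).congr f.symm

instance fact7 : Fact (Nat.Prime 7) := ⟨by norm_num⟩
instance fact17 : Fact (Nat.Prime 17) := ⟨by norm_num⟩

theorem frob7 : FrobIn (ProjectiveSpecialLinearGroup (Fin 2) (ZMod 7)) 7 3 4 :=
  frobIn_of ⟨!![1, 1; 0, 1], by decide⟩ ⟨!![2, 0; 0, 4], by decide⟩ (by decide +kernel) (by decide +kernel)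
    (by decide +kernel) (by decide +kernel)

theorem frob17 : FrobIn (ProjectiveSpecialLinearGroup (Fin 2) (ZMod 17)) 17 8 9 :=
  frobIn_of ⟨!![1, 1; 0, 1], by decide⟩ ⟨!![3, 0; 0, 6], by decide⟩ (by decide +kernel) (by decide +kernel)
    (by decide +kernel) (by decide +kernel)

end psl

section rows

variable {p : ℕ} [Fact p.Prime] {K : Type w} [Field K] {V : Type u} [AddCommGroup V] [Module (ZMod p) V] [Finite V]
    [Module K V] {G L : Subgroup (V ≃ₗ[ZMod p] V)} {h : ℕ}

/-- **`L2(7)`, `p = 3`** -/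
theorem row_l27 (H : QL p K V G L h) (h0 : 0 < h) {m : ℕ} (hm : m * h = Nat.card G)
    (hT : IsL 2 7 (L ⧸ Subgroup.center L))
    (hmem : (finrank K V, Nat.card K, m) ∈ [(3, 9, 56), (4, 27, 1456), (6, 3, 56)]) : False := by
  have hV := QN.card_V H
  obtain rfl : p = 3 := by
    simp only [List.mem_cons, Prod.mk.injEq, List.not_mem_nil, or_false] at hmem
    rcases hmem with ⟨hn, hq, -⟩ | ⟨hn, hq, -⟩ | ⟨hn, hq, -⟩ <;> rw [hn, hq] at hV
    · exact p_eq H Nat.prime_three (n := 6) (by rw [hV]; norm_num)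
    · exact p_eq H Nat.prime_three (n := 12) (by rw [hV]; norm_num)
    · exact p_eq H Nat.prime_three (n := 6) hV
  have hG := QN.card_G_dvd H
  rw [H530.HT.aut_l2 (p := 7) (f := 1) (N := 336) hT (by norm_num) le_rfl (by norm_num) (by norm_num) (by norm_num),
    ← hm] at hG
  obtain ⟨z, y, hz, hz1, hy, hyz⟩ := (frobIn_of_isL hT frob7).ex
  have h4 : orderOf ((4 : ℕ) : ZMod 7) = 3 ^ 1 := by
    rw [pow_one]
    exact orderOf_eq_prime (by decide) (by decide)
  simp only [List.mem_cons, Prod.mk.injEq, List.not_mem_nil, or_false] at hmem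
  rcases hmem with ⟨hn, hq, rfl⟩ | ⟨hn, hq, rfl⟩ | ⟨hn, hq, rfl⟩ <;> rw [hn, hq] at hV <;> rw [hq] at hG
  · obtain ⟨c, h1, h2⟩ := num_frob H h0 hm (i := 13) (by rw [hV]; norm_num) (r := 7) (a := 4) (k := 1) (by norm_num) (by norm_num)
      (Lift.coprime_center H (by norm_num) (by rw [hn, hq]; norm_num))
      (Lift.coprime_center H (by norm_num) (by rw [hn, hq]; norm_num)) (not_dvd_of hG (by norm_num)) hz hz1 hy hyz h4
    rw [hn] at h1
    obtain rfl : c = 1 := by omega
    rw [hq] at h2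
    norm_num at h2
  · obtain ⟨c, h1, -⟩ := num_frob H h0 hm (i := 365) (by rw [hV]; norm_num) (r := 7) (a := 4) (k := 1) (by norm_num) (by norm_num)
      (Lift.coprime_center H (by norm_num) (by rw [hn, hq]; norm_num))
      (Lift.coprime_center H (by norm_num) (by rw [hn, hq]; norm_num)) (not_dvd_of hG (by norm_num)) hz hz1 hy hyz h4
    rw [hn] at h1
    omega
  · obtain ⟨c, h1, h2⟩ := num_frob H h0 hm (i := 13) (by rw [hV]; norm_num) (r := 7) (a := 4) (k := 1) (by norm_num) (by norm_num)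
      (Lift.coprime_center H (by norm_num) (by rw [hn, hq]; norm_num))
      (Lift.coprime_center H (by norm_num) (by rw [hn, hq]; norm_num)) (not_dvd_of hG (by norm_num)) hz hz1 hy hyz h4
    rw [hn] at h1
    obtain rfl : c = 2 := by omega
    rw [hq] at h2
    norm_num at h2

/-- **`L2(17)`** -/
theorem row_l217 (H : QL p K V G L h) (h0 : 0 < h) {m : ℕ} (hm : m * h = Nat.card G)
    (hT : IsL 2 17 (L ⧸ Subgroup.center L))
    (hmem : (finrank K V, Nat.card K, m) ∈ [(8, 2, 51)]) : False := by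
  have hV := QN.card_V H
  have hG := QN.card_G_dvd H
  rw [H530.HT.aut_l2 (p := 17) (f := 1) (N := 4896) hT (by norm_num) le_rfl (by norm_num) (by norm_num) (by norm_num),
    ← hm] at hG
  obtain ⟨z, y, hz, hz1, hy, hyz⟩ := (frobIn_of_isL hT frob17).ex
  simp only [List.mem_cons, Prod.mk.injEq, List.not_mem_nil, or_false] at hmem
  obtain ⟨hn, hq, rfl⟩ := hmem
  rw [hn, hq] at hV
  rw [hq] at hG
  obtain rfl : p = 2 := p_eq H Nat.prime_two hV
  have h9 : orderOf ((9 : ℕ) : ZMod 17) = 2 ^ 3 := by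
    have h1 : ((9 : ℕ) : ZMod 17) ^ 2 ^ (2 + 1) = 1 := by decide
    exact orderOf_eq_prime_pow (p := 2) (n := 2) (by decide) h1
  obtain ⟨c, h1, h2⟩ := num_frob H h0 hm (i := 5) (by rw [hV]; norm_num) (r := 17) (a := 9) (k := 3) (by norm_num) (by norm_num)
    (Lift.coprime_center H (by norm_num) (by rw [hn, hq]; norm_num))
    (Lift.coprime_center H (by norm_num) (by rw [hn, hq]; norm_num)) (not_dvd_of hG (by norm_num)) hz hz1 hy hyz h9
  rw [hn] at h1
  obtain rfl : c = 1 := by omega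
  rw [hq] at h2
  norm_num at h2

/-- **`A6`, `p = 2`** -/
theorem row_a6 (H : QL p K V G L h) {m : ℕ} (hm : m * h = Nat.card G)
    (hT : Nonempty ((L ⧸ Subgroup.center L) ≃* alternatingGroup (Fin 6)))
    (hmem : (finrank K V, Nat.card K, m) ∈ [(4, 8, 315)]) : False := by
  have hV := QN.card_V H
  obtain ⟨e⟩ := hT
  have hG := QN.card_G_dvd H
  rw [← hm] at hG
  have hG' := hG.trans (Nat.mul_dvd_mul_left _ ((Nat.card_congr (MulAut.congr e).toEquiv).dvd.trans
    H753.ResCard.card_mulAut_A6))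
  simp only [List.mem_cons, Prod.mk.injEq, List.not_mem_nil, or_false] at hmem
  obtain ⟨hn, hq, rfl⟩ := hmem
  rw [hq] at hG'
  rw [hn, hq] at hV
  obtain rfl : p = 2 := p_eq H Nat.prime_two (n := 12) (by rw [hV]; norm_num)
  have hZ : (3 : ℕ).Coprime (Nat.card (Subgroup.center L)) :=
    Lift.coprime_center H (by norm_num) (by rw [hn, hq]; norm_num)
  refine not_dvd_of hG' (r := 3) (by norm_num) ?_
  let a : alternatingGroup (Fin 6) := ⟨c[(0 : Fin 6), 1, 2], Equiv.Perm.mem_alternatingGroup.2 (by decide +kernel)⟩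
  let b : alternatingGroup (Fin 6) := ⟨c[(3 : Fin 6), 4, 5], Equiv.Perm.mem_alternatingGroup.2 (by decide +kernel)⟩
  have ha : a ^ 3 = 1 := by decide +kernel
  have hb : b ^ 3 = 1 := by decide +kernel
  have hab : a * b = b * a := by decide +kernel
  obtain ⟨x, hx, hxa⟩ := Lift.lift_pow hZ (e.symm a) (by rw [← map_pow, ha, map_one])
  obtain ⟨y, hy, hyb⟩ := Lift.lift_pow hZ (e.symm b) (by rw [← map_pow, hb, map_one])
  have hxy : x * y = y * x := Lift.lift_comm hZ hy (by rw [hxa, hyb, ← map_mul, hab, map_mul])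
  refine Fus.rank_two' H.half (QN.exists_ne H) Nat.prime_three (by norm_num) (H.le x.2) (H.le y.2)
    (congrArg Subtype.val hxy) (congrArg Subtype.val hx) (congrArg Subtype.val hy) ?_ ?_
  · intro h1
    have h2 : x = 1 := Subtype.ext h1
    rw [h2] at hxa
    have h3 : a = 1 := by
      have := congrArg e hxa
      rw [MulEquiv.apply_symm_apply] at this
      rw [← this]
      exact map_one e
    revert h3
    decide +kernel
  · intro h1
    obtain ⟨j, hj⟩ := Subgroup.mem_zpowers_iff.1 h1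
    have h2 : x ^ j = y := Subtype.ext (by rw [← hj]; rfl)
    have h3 : a ^ j = b := by
      have h4 := congrArg e hyb
      rw [MulEquiv.apply_symm_apply, ← h2, QuotientGroup.mk_zpow, hxa, map_zpow, MulEquiv.apply_symm_apply] at h4
      exact h4
    have h5 : a ^ j = 1 ∨ a ^ j = a ∨ a ^ j = a ^ 2 := by
      have h6 := zpow_mod_orderOf a j
      have h7 : orderOf a = 3 := orderOf_eq_prime ha (by decide +kernel)
      rw [h7] at h6
      have h8 : j % 3 = 0 ∨ j % 3 = 1 ∨ j % 3 = 2 := by omega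
      push_cast at h6
      rcases h8 with h8 | h8 | h8 <;> rw [h8] at h6
      · left; rw [← h6]; exact zpow_zero a
      · right; left; rw [← h6]; exact zpow_one a
      · right; right; rw [← h6]; rfl
    rw [h3] at h5
    revert h5
    decide +kernel

end rows

/-! ### The form `H391.HT.Kill` -/

theorem kill_l27 : ∀ (p : ℕ) [Fact p.Prime] (V : Type u) [AddCommGroup V] [Module (ZMod p) V] [Finite V] (K : Type u)
    [Field K] [Module K V] (G L : Subgroup (V ≃ₗ[ZMod p] V)) (h m : ℕ), H19.HT.QSP p K V G L h → p ∣ Nat.card L →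
    ¬ H19.HT.Tra G → IsL 2 7 (L ⧸ Subgroup.center L) → m * h = Nat.card G →
    (Module.finrank K V, Nat.card K, m) ∈ [(3, 9, 56), (4, 27, 1456), (6, 3, 56)] → False :=
  fun _ _ _ _ _ _ _ _ _ _ _ _ _ H _ _ hT hm hmem => row_l27 (toQL H) (by have := H.two_le; omega) hm hT hmem

theorem kill_l217 : ∀ (p : ℕ) [Fact p.Prime] (V : Type u) [AddCommGroup V] [Module (ZMod p) V] [Finite V] (K : Type u)
    [Field K] [Module K V] (G L : Subgroup (V ≃ₗ[ZMod p] V)) (h m : ℕ), H19.HT.QSP p K V G L h → p ∣ Nat.card L →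
    ¬ H19.HT.Tra G → IsL 2 17 (L ⧸ Subgroup.center L) → m * h = Nat.card G →
    (Module.finrank K V, Nat.card K, m) ∈ [(8, 2, 51)] → False :=
  fun _ _ _ _ _ _ _ _ _ _ _ _ _ H _ _ hT hm hmem => row_l217 (toQL H) (by have := H.two_le; omega) hm hT hmem

theorem kill_a6 : ∀ (p : ℕ) [Fact p.Prime] (V : Type u) [AddCommGroup V] [Module (ZMod p) V] [Finite V] (K : Type u)
    [Field K] [Module K V] (G L : Subgroup (V ≃ₗ[ZMod p] V)) (h m : ℕ), H19.HT.QSP p K V G L h → p ∣ Nat.card L →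
    ¬ H19.HT.Tra G → Nonempty (L ⧸ Subgroup.center L ≃* alternatingGroup (Fin 6)) → m * h = Nat.card G →
    (Module.finrank K V, Nat.card K, m) ∈ [(4, 8, 315)] → False :=
  fun _ _ _ _ _ _ _ _ _ _ _ _ _ H _ _ hT hm hmem => row_a6 (toQL H) hm hT hmem

end Cfsg.Agent.H800.HT
end

-- part: H192/Ht/LiftT
section
/-!
# S3512: lifting from `T ≃* L / Z(L)` to `L`, centres, elementary abelian groups of order 9 (helper192)
-/

set_option autoImplicit false
set_option linter.unusedSectionVars false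
set_option linter.style.haveILetI false

universe u v w

namespace Cfsg.Agent.H192.Ht

open Module Cfsg.Agent.H952.F4 Cfsg.Agent.H333.QS6.Rep
open Cfsg.Agent.H828.HT hiding ev
open Cfsg.Agent.H742.HT Cfsg.Agent.H333.QS6

section lft

variable {X : Type u} [Group X] {T : Type v} [Group T] (e : (X ⧸ Subgroup.center X) ≃* T)

/-- the projection `X → X / Z(X) ≃ T` -/
def pr : X →* T := e.toMonoidHom.comp (QuotientGroup.mk' (Subgroup.center X))

theorem pr_surjective : Function.Surjective (pr e) := by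
  intro t
  obtain ⟨x, hx⟩ := QuotientGroup.mk_surjective (e.symm t)
  refine ⟨x, ?_⟩
  change e (QuotientGroup.mk x) = t
  rw [hx, e.apply_symm_apply]

theorem pr_eq_one {x : X} : pr e x = 1 ↔ x ∈ Subgroup.center X := by
  change e (QuotientGroup.mk x) = 1 ↔ _
  rw [MulEquiv.map_eq_one_iff, QuotientGroup.eq_one_iff]

theorem pr_lift [Finite X] {r : ℕ} (hr : r.Prime) (hz : ¬ r ∣ Nat.card (Subgroup.center X)) {t : T} (ht : t ^ r = 1) :
    ∃ x : X, x ^ r = 1 ∧ pr e x = t := by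
  obtain ⟨x, hx, h1⟩ := Lift.exists_lift hr hz (s := e.symm t) (by rw [← map_pow, ht, map_one])
  refine ⟨x, hx, ?_⟩
  change e (QuotientGroup.mk x) = t
  rw [h1, e.apply_symm_apply]

theorem pr_rel [Finite X] {r : ℕ} (hr : r.Prime) (hz : ¬ r ∣ Nat.card (Subgroup.center X)) {z t : X} (hzr : z ^ r = 1)
    {a : ℕ} (h : pr e t * pr e z * (pr e t)⁻¹ = pr e z ^ a) : t * z * t⁻¹ = z ^ a := by
  refine _root_.Cfsg.Agent.H333.QS6.Lift.lift_rel hr hz hzr (e.injective ?_)
  rw [map_mul, map_mul, map_inv, map_pow]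
  exact h

/-- the lift of a conjugation between elements of order `r` -/
theorem pr_conj [Finite X] {r : ℕ} (hr : r.Prime) (hz : ¬ r ∣ Nat.card (Subgroup.center X)) {z w t : X}
    (hzr : z ^ r = 1) (hwr : w ^ r = 1) (h : pr e t * pr e z * (pr e t)⁻¹ = pr e w) : t * z * t⁻¹ = w := by
  have h1 : w⁻¹ * (t * z * t⁻¹) ∈ Subgroup.center X := by
    rw [← pr_eq_one e, map_mul, map_inv, map_mul, map_mul, map_inv, h, inv_mul_cancel]
  have h2 : (t * z * t⁻¹) ^ r = 1 := by rw [conj_pow, hzr, mul_one, mul_inv_cancel]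
  have h3 : w * (w⁻¹ * (t * z * t⁻¹)) = t * z * t⁻¹ := by group
  have h4 : (w⁻¹ * (t * z * t⁻¹)) ^ r = 1 := by
    have h5 : Commute w (w⁻¹ * (t * z * t⁻¹)) := (Subgroup.mem_center_iff.1 h1 w)
    have h6 := h5.mul_pow r
    rw [h3, h2, hwr, one_mul] at h6
    exact h6.symm
  have h5 := Lift.eq_one_of_center hr hz h1 h4
  rw [h5, mul_one] at h3
  exact h3.symm

theorem pr_comm [Finite X] {r : ℕ} (hr : r.Prime) (hz : ¬ r ∣ Nat.card (Subgroup.center X)) {z w : X}
    (hzr : z ^ r = 1) (h : pr e w * pr e z = pr e z * pr e w) : w * z = z * w := by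
  have h1 := pr_conj e hr hz (z := z) (w := z) (t := w) hzr hzr (by rw [h]; group)
  calc w * z = w * z * w⁻¹ * w := by group
    _ = z * w := by rw [h1]

include e in
theorem not_dvd_center_pr [Finite X] {r : ℕ} [Fact r.Prime] (hX : commutator X = ⊤) (hs : ¬ r ^ 2 ∣ Nat.card T) :
    ¬ r ∣ Nat.card (Subgroup.center X) := by
  refine Lift.not_dvd_center hX ?_
  rwa [Nat.card_congr e.toEquiv]

end lft

/-- two commuting elements of order 3, independent -/
theorem nine_dvd {S : Type u} [Group S] [Finite S] {a b : S} (hab : a * b = b * a) (ha : a ^ 3 = 1) (hb : b ^ 3 = 1)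
    (ha1 : a ≠ 1) (hba : b ∉ Subgroup.zpowers a) : 9 ∣ Nat.card S := by
  have h3 : Fact (Nat.Prime 3) := ⟨Nat.prime_three⟩
  have hp : ∀ x : S, x ^ 3 = 1 → IsPGroup 3 (Subgroup.zpowers x) := by
    rintro x hx ⟨y, j, rfl⟩
    refine ⟨1, Subtype.ext ?_⟩
    change (x ^ j) ^ 3 ^ 1 = 1
    rw [pow_one, ← zpow_natCast, ← zpow_mul, mul_comm, zpow_mul, zpow_natCast, hx, one_zpow]
  have hn : Subgroup.zpowers a ≤ Subgroup.normalizer ((Subgroup.zpowers b : Subgroup S) : Set S) := by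
    rw [Subgroup.zpowers_le, Subgroup.mem_normalizer_iff]
    intro x
    rw [Subgroup.mem_zpowers_iff, Subgroup.mem_zpowers_iff]
    have hc : Commute a b := hab
    constructor
    · rintro ⟨k, rfl⟩
      exact ⟨k, by rw [(hc.zpow_right k).eq]; group⟩
    · rintro ⟨k, hk⟩
      refine ⟨k, ?_⟩
      have : x = a⁻¹ * b ^ k * a := by rw [hk]; group
      rw [this]
      rw [(hc.inv_left.zpow_right k).eq]; group
  have h1 : IsPGroup 3 ↥(Subgroup.zpowers a ⊔ Subgroup.zpowers b) := (hp a ha).to_sup_of_normal_right' (hp b hb) hn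
  obtain ⟨k, hk⟩ := IsPGroup.iff_card.1 h1
  have ha3 : Nat.card (Subgroup.zpowers a) = 3 := by
    rw [Nat.card_zpowers]
    exact orderOf_eq_prime ha ha1
  have hle : Subgroup.zpowers a ≤ Subgroup.zpowers a ⊔ Subgroup.zpowers b := le_sup_left
  have hk2 : 2 ≤ k := by
    by_contra hlt
    have h4 : 3 ∣ 3 ^ k := by rw [← hk, ← ha3]; exact Subgroup.card_dvd_of_le hle
    have h5 : k = 1 := by
      rcases Nat.eq_zero_or_pos k with rfl | h
      · norm_num at h4
      · omega
    rw [h5, pow_one] at hk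
    have h6 := Subgroup.eq_of_le_of_card_ge hle (by rw [hk, ha3])
    apply hba
    rw [h6]
    exact Subgroup.mem_sup_right (Subgroup.mem_zpowers b)
  have h7 : 3 ^ 2 ∣ Nat.card ↥(Subgroup.zpowers a ⊔ Subgroup.zpowers b) := by rw [hk]; exact pow_dvd_pow 3 hk2
  exact h7.trans (Subgroup.card_subgroup_dvd_card _)

/-- a group with two independent commuting elements of order 3 has a non-cyclic Sylow 3-subgroup -/
theorem noncyclic_three {S : Type u} [Group S] [Finite S] {a b : S} (hab : a * b = b * a) (ha : a ^ 3 = 1)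
    (hb : b ^ 3 = 1) (ha1 : a ≠ 1) (hba : b ∉ Subgroup.zpowers a) : ∃ Q : Sylow 3 S, ¬ IsCyclic Q := by
  have h3 : Fact (Nat.Prime 3) := ⟨Nat.prime_three⟩
  have hp : ∀ x : S, x ^ 3 = 1 → IsPGroup 3 (Subgroup.zpowers x) := by
    rintro x hx ⟨y, j, rfl⟩
    refine ⟨1, Subtype.ext ?_⟩
    change (x ^ j) ^ 3 ^ 1 = 1
    rw [pow_one, ← zpow_natCast, ← zpow_mul, mul_comm, zpow_mul, zpow_natCast, hx, one_zpow]
  have hn : Subgroup.zpowers a ≤ Subgroup.normalizer ((Subgroup.zpowers b : Subgroup S) : Set S) := by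
    rw [Subgroup.zpowers_le, Subgroup.mem_normalizer_iff]
    intro x
    rw [Subgroup.mem_zpowers_iff, Subgroup.mem_zpowers_iff]
    have hc : Commute a b := hab
    constructor
    · rintro ⟨k, rfl⟩
      exact ⟨k, by rw [(hc.zpow_right k).eq]; group⟩
    · rintro ⟨k, hk⟩
      refine ⟨k, ?_⟩
      have : x = a⁻¹ * b ^ k * a := by rw [hk]; group
      rw [this]
      rw [(hc.inv_left.zpow_right k).eq]; group
  have h1 : IsPGroup 3 ↥(Subgroup.zpowers a ⊔ Subgroup.zpowers b) := (hp a ha).to_sup_of_normal_right' (hp b hb) hn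
  obtain ⟨Q, hQ⟩ := h1.exists_le_sylow
  refine ⟨Q, fun hc => ?_⟩
  have haQ : a ∈ (Q : Subgroup S) := hQ (Subgroup.mem_sup_left (Subgroup.mem_zpowers a))
  have hbQ : b ∈ (Q : Subgroup S) := hQ (Subgroup.mem_sup_right (Subgroup.mem_zpowers b))
  classical
  have := Fintype.ofFinite ↥(Q : Subgroup S)
  have h4 := IsCyclic.card_pow_eq_one_le (α := ↥(Q : Subgroup S)) (n := 3) (by norm_num)
  have oa : orderOf a = 3 := orderOf_eq_prime ha ha1
  have h5 : ({1, ⟨a, haQ⟩, ⟨a, haQ⟩ ^ 2, ⟨b, hbQ⟩} : Finset ↥(Q : Subgroup S)) ⊆ Finset.univ.filter fun x : ↥(Q : Subgroup S) => x ^ 3 = 1 := by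
    intro x hx
    simp only [Finset.mem_insert, Finset.mem_singleton] at hx
    rw [Finset.mem_filter]
    refine ⟨Finset.mem_univ _, ?_⟩
    rcases hx with rfl | rfl | rfl | rfl
    · exact one_pow 3
    · exact Subtype.ext ha
    · apply Subtype.ext
      change (a ^ 2) ^ 3 = 1
      rw [← pow_mul, mul_comm, pow_mul, ha, one_pow]
    · exact Subtype.ext hb
  have h6 : ({1, ⟨a, haQ⟩, ⟨a, haQ⟩ ^ 2, ⟨b, hbQ⟩} : Finset ↥(Q : Subgroup S)).card = 4 := by
    have n1 : a ^ 2 ≠ 1 := fun h => by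
      have := orderOf_dvd_of_pow_eq_one h
      rw [oa] at this
      omega
    have n2 : a ≠ a ^ 2 := fun h => ha1 (by
      have : a * 1 = a * a := by rw [mul_one, ← pow_two]; exact h
      exact (mul_left_cancel this).symm)
    have n3 : b ≠ 1 := fun h => hba (by rw [h]; exact Subgroup.one_mem _)
    have n4 : b ≠ a := fun h => hba (by rw [h]; exact Subgroup.mem_zpowers a)
    have n5 : b ≠ a ^ 2 := fun h => hba (by rw [h]; exact Subgroup.npow_mem_zpowers a 2)
    rw [Finset.card_insert_of_notMem, Finset.card_insert_of_notMem, Finset.card_insert_of_notMem,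
      Finset.card_singleton]
    · intro h
      rw [Finset.mem_singleton] at h
      exact n5 (congrArg Subtype.val h).symm
    · intro h
      rw [Finset.mem_insert, Finset.mem_singleton] at h
      rcases h with h | h
      · exact n2 (congrArg Subtype.val h)
      · exact n4 (congrArg Subtype.val h).symm
    · intro h
      rw [Finset.mem_insert, Finset.mem_insert, Finset.mem_singleton] at h
      rcases h with h | h | h
      · exact ha1 (congrArg Subtype.val h).symm
      · exact n1 (congrArg Subtype.val h).symm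
      · exact n3 (congrArg Subtype.val h).symm
  have h7 := Finset.card_le_card h5
  rw [h6] at h7
  omega

section ql

variable {p : ℕ} [Fact p.Prime] {K : Type w} [Field K] {V : Type u} [AddCommGroup V] [Module (ZMod p) V] [Finite V]
    [Module K V] {G L : Subgroup (V ≃ₗ[ZMod p] V)} {h : ℕ}

/-- central elements of `L` are scalars of order dividing `n` and `|K| - 1` -/
theorem center_pow (H : QL p K V G L h) {z : L} (hz : z ∈ Subgroup.center L) :
    z ^ finrank K V = 1 ∧ z ^ (Nat.card K - 1) = 1 := by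
  have hfK := QN.finiteK H
  have hfd := QN.finiteDim H
  obtain ⟨c, hc⟩ := H.endo ((z : V ≃ₗ[ZMod p] V) : V →ₗ[ZMod p] V) (by
    intro l hl v
    have h1 := congrArg (fun x : L => (x : V ≃ₗ[ZMod p] V) v) (Subgroup.mem_center_iff.1 hz ⟨l, hl⟩)
    exact h1.symm)
  have hc' : ∀ v, (z : V ≃ₗ[ZMod p] V) v = c • v := hc
  obtain ⟨v, hv⟩ := QN.exists_ne H
  have hc0 : c ≠ 0 := by
    intro h0
    have h1 := hc' v
    rw [h0, zero_smul] at h1
    exact hv ((z : V ≃ₗ[ZMod p] V).map_eq_zero_iff.1 h1)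
  have hpow : ∀ (k : ℕ) (v : V), ((z ^ k : L) : V ≃ₗ[ZMod p] V) v = c ^ k • v := by
    intro k
    induction k with
    | zero => intro v; rw [pow_zero, pow_zero, one_smul]; rfl
    | succ k ih =>
      intro v
      rw [pow_succ]
      change ((z ^ k : L) : V ≃ₗ[ZMod p] V) ((z : V ≃ₗ[ZMod p] V) v) = _
      rw [hc', ih, smul_smul, ← pow_succ]
  have hone : ∀ k : ℕ, c ^ k = 1 → z ^ k = 1 := by
    intro k hk
    apply Subtype.ext
    ext w
    rw [hpow, hk, one_smul]; rfl
  constructor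
  · apply hone
    have h1 := QN.det_toK H z
    have h2 : ((QN.toK H z : V ≃ₗ[K] V) : V →ₗ[K] V) = c • LinearMap.id := by
      ext w
      exact hc' w
    have h3 : LinearMap.det ((QN.toK H z : V ≃ₗ[K] V) : V →ₗ[K] V) = 1 := by
      rw [← LinearEquiv.coe_det, h1]; rfl
    rw [h2, LinearMap.det_smul, LinearMap.det_id, mul_one] at h3
    exact h3
  · apply hone
    have := Fintype.ofFinite K
    rw [Nat.card_eq_fintype_card]
    exact FiniteField.pow_card_sub_one_eq_one c hc0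

theorem not_dvd_center_of (H : QL p K V G L h) {r : ℕ} (hr : r.Prime)
    (hn : ¬ r ∣ finrank K V ∨ ¬ r ∣ (Nat.card K - 1)) : ¬ r ∣ Nat.card (Subgroup.center L) := by
  intro hd
  have : Finite L := finite_L
  have hf : Fact r.Prime := ⟨hr⟩
  obtain ⟨⟨z, hzZ⟩, hz⟩ := exists_prime_orderOf_dvd_card' r hd
  rw [Subgroup.orderOf_mk] at hz
  have h1 := center_pow H hzZ
  rcases hn with hn | hn
  · exact hn (by rw [← hz]; exact orderOf_dvd_of_pow_eq_one h1.1)
  · exact hn (by rw [← hz]; exact orderOf_dvd_of_pow_eq_one h1.2)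

theorem fd_conj (hlin : ∀ l ∈ L, ∀ (c : K) (v : V), l (c • v) = c • l v) (g x : L) [Finite K] :
    fd hlin (g * x * g⁻¹) = fd hlin x := by
  have h1 := card_fx_eq_fd hlin x
  have h2 := card_fx_eq_fd hlin (g * x * g⁻¹)
  have h3 : Nat.card (fx ((g * x * g⁻¹ : L) : V ≃ₗ[ZMod p] V)) = Nat.card (fx (x : V ≃ₗ[ZMod p] V)) := by
    refine (Nat.card_congr (Equiv.ofBijective
      (fun v : fx (x : V ≃ₗ[ZMod p] V) => (⟨(g : V ≃ₗ[ZMod p] V) v, by
        rw [mem_fx]
        change (g : V ≃ₗ[ZMod p] V) ((x : V ≃ₗ[ZMod p] V) (((g : V ≃ₗ[ZMod p] V)⁻¹ * (g : V ≃ₗ[ZMod p] V)) v)) =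
          (g : V ≃ₗ[ZMod p] V) v
        rw [inv_mul_cancel]
        change (g : V ≃ₗ[ZMod p] V) ((x : V ≃ₗ[ZMod p] V) (v : V)) = (g : V ≃ₗ[ZMod p] V) v
        rw [mem_fx.1 v.2]⟩ : fx ((g * x * g⁻¹ : L) : V ≃ₗ[ZMod p] V))) ⟨?_, ?_⟩)).symm
    · intro v w hvw
      exact Subtype.ext ((g : V ≃ₗ[ZMod p] V).injective (congrArg Subtype.val hvw))
    · rintro ⟨w, hw⟩
      rw [mem_fx] at hw
      refine ⟨⟨(g : V ≃ₗ[ZMod p] V)⁻¹ w, ?_⟩, Subtype.ext ?_⟩
      · rw [mem_fx]
        apply (g : V ≃ₗ[ZMod p] V).injective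
        change ((g * x * g⁻¹ : L) : V ≃ₗ[ZMod p] V) w = ((g : V ≃ₗ[ZMod p] V) * (g : V ≃ₗ[ZMod p] V)⁻¹) w
        rw [hw, mul_inv_cancel]; rfl
      · change ((g : V ≃ₗ[ZMod p] V) * (g : V ≃ₗ[ZMod p] V)⁻¹) w = w
        rw [mul_inv_cancel]; rfl
  rw [h1, h2] at h3
  exact Nat.pow_right_injective (Finite.one_lt_card : 1 < Nat.card K) h3

theorem mem_range_av {F : Type v} [Field F] {W : Type w} [AddCommGroup W] [Module F W] (h3 : (3 : F) ≠ 0)
    {T : Module.End F W} (hT : T * (T * T) = 1) {v : W} : v ∈ LinearMap.range (EigFr.av T) ↔ T v = v := by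
  have hT' : ∀ v, T (T (T v)) = v := fun v => by
    have := congrArg (fun f : Module.End F W => f v) hT
    exact this
  constructor
  · rintro ⟨w, rfl⟩
    unfold EigFr.av
    rw [LinearMap.smul_apply, map_smul]
    congr 1
    change T (w + T w + T (T w)) = w + T w + T (T w)
    rw [map_add, map_add, hT']
    abel
  · intro hv
    refine ⟨v, ?_⟩
    unfold EigFr.av
    rw [LinearMap.smul_apply]
    change (3 : F)⁻¹ • (v + T v + T (T v)) = v
    rw [hv, hv]
    have h1 : v + v + v = (3 : F) • v := by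
      rw [show (3 : F) = 1 + 1 + 1 by norm_num, add_smul, add_smul, one_smul]
    rw [h1, smul_smul, inv_mul_cancel₀ h3, one_smul]

theorem finrank_range_av {F : Type v} [Field F] {W : Type w} [AddCommGroup W] [Module F W] (h3 : (3 : F) ≠ 0)
    {T : Module.End F W} (hT : T * (T * T) = 1) : finrank F (LinearMap.range (EigFr.av T)) = ev T 1 := by
  have : LinearMap.range (EigFr.av T) = es T 1 := by
    ext v
    rw [mem_range_av h3 hT]
    change _ ↔ v ∈ Module.End.eigenspace T 1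
    rw [Module.End.mem_eigenspace_iff, one_smul]
  rw [this]; rfl

/-- the formula for elementary abelian groups of order 9 -/
theorem nineL (H : QL p K V G L h) (hp3 : p ≠ 3) {z w : L} (hz : z ^ 3 = 1) (hw : w ^ 3 = 1) (hzw : z * w = w * z) :
    finrank K V + 3 * finrank K ↥(es (repL H.lin z) 1 ⊓ es (repL H.lin w) 1) =
      fd H.lin z + fd H.lin w + fd H.lin (z * w) + fd H.lin (z * (w * w)) := by
  have hfd := QN.finiteDim H
  have h3 : (3 : K) ≠ 0 := by
    have := natCast_ne_zero_of (K := K) (QN.exists_ne H) Nat.prime_three (Ne.symm hp3)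
    exact_mod_cast this
  have hT : repL H.lin z * (repL H.lin z * repL H.lin z) = 1 := by
    rw [← map_mul, ← map_mul, ← pow_three, hz, map_one]
  have hS : repL H.lin w * (repL H.lin w * repL H.lin w) = 1 := by
    rw [← map_mul, ← map_mul, ← pow_three, hw, map_one]
  have hST : repL H.lin w * repL H.lin z = repL H.lin z * repL H.lin w := by
    rw [← map_mul, ← map_mul, hzw]
  have key := EigFr.finrank_nine h3 hST hT hS
  have hc : Commute z w := hzw
  have hTS : repL H.lin z * repL H.lin w * (repL H.lin z * repL H.lin w * (repL H.lin z * repL H.lin w)) = 1 := by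
    rw [← map_mul, ← map_mul, ← map_mul, ← pow_three, hc.mul_pow, hz, hw, one_mul, map_one]
  have hTSS : repL H.lin z * (repL H.lin w * repL H.lin w) * (repL H.lin z * (repL H.lin w * repL H.lin w) *
      (repL H.lin z * (repL H.lin w * repL H.lin w))) = 1 := by
    rw [← map_mul, ← map_mul, ← map_mul, ← map_mul, ← pow_three, (hc.mul_right hc).mul_pow, hz, ← pow_two, ← pow_mul, mul_comm, pow_mul, hw,
      one_pow, one_mul, map_one]
  rw [finrank_range_av h3 hT, finrank_range_av h3 hS, finrank_range_av h3 hTS, finrank_range_av h3 hTSS] at key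
  have h4 : LinearMap.range (EigFr.av (repL H.lin z) * EigFr.av (repL H.lin w)) =
      es (repL H.lin z) 1 ⊓ es (repL H.lin w) 1 := by
    apply le_antisymm
    · rintro _ ⟨v, rfl⟩
      rw [Submodule.mem_inf]
      constructor
      · change _ ∈ Module.End.eigenspace _ 1
        rw [Module.End.mem_eigenspace_iff, one_smul]
        exact (mem_range_av h3 hT).1 ⟨_, rfl⟩
      · change _ ∈ Module.End.eigenspace _ 1
        rw [Module.End.mem_eigenspace_iff, one_smul, EigFr.av_comm hST]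
        exact (mem_range_av h3 hS).1 ⟨_, rfl⟩
    · intro v hv
      rw [Submodule.mem_inf] at hv
      obtain ⟨h1, h2⟩ := hv
      change _ ∈ Module.End.eigenspace _ 1 at h1
      change _ ∈ Module.End.eigenspace _ 1 at h2
      rw [Module.End.mem_eigenspace_iff, one_smul] at h1 h2
      obtain ⟨x, hx⟩ := (mem_range_av h3 hT).2 h1
      refine ⟨v, ?_⟩
      have e1 : EigFr.av (repL H.lin w) v = v := by
        obtain ⟨y, hy⟩ := (mem_range_av h3 hS).2 h2
        rw [← hy]
        exact congrArg (fun f : Module.End K V => f y) (EigFr.av_mul_self h3 hS)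
      have e2 : EigFr.av (repL H.lin z) v = v := by
        rw [← hx]
        exact congrArg (fun f : Module.End K V => f x) (EigFr.av_mul_self h3 hT)
      change EigFr.av (repL H.lin z) (EigFr.av (repL H.lin w) v) = v
      rw [e1, e2]
  rw [h4] at key
  rw [← map_mul, ← map_mul, ← map_mul] at key
  exact key

end ql

end Cfsg.Agent.H192.Ht
end

-- part: H192/Ht/A7
section
/-!
# S3512: the row `A₇` (helper192)
-/

set_option autoImplicit false
set_option linter.unusedSectionVars false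
set_option linter.style.haveILetI false
set_option maxRecDepth 100000

universe u v w

namespace Cfsg.Agent.H192.Ht.ASeven

open Module Cfsg.Agent.H952.F4 Cfsg.Agent.H333.QS6.Rep
open Cfsg.Agent.H828.HT hiding ev
open Cfsg.Agent.H742.HT Cfsg.Agent.H742.HT.Fus Cfsg.Agent.H333.QS6 Cfsg.Agent.H192.Ht

/-- even permutations of seven points -/
abbrev A7 : Type := alternatingGroup (Fin 7)

/-- an even permutation -/
def mk (σ : Equiv.Perm (Fin 7)) (h : Equiv.Perm.sign σ = 1) : A7 := ⟨σ, Equiv.Perm.mem_alternatingGroup.2 h⟩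

def x7 : A7 := mk c[(0 : Fin 7), 1, 2, 3, 4, 5, 6] (by decide +kernel)
def y3 : A7 := mk (c[(1 : Fin 7), 2, 4] * c[(3 : Fin 7), 6, 5]) (by decide +kernel)
def x5 : A7 := mk c[(0 : Fin 7), 1, 2, 3, 4] (by decide +kernel)
def y4 : A7 := mk (c[(1 : Fin 7), 2, 4, 3] * c[(5 : Fin 7), 6]) (by decide +kernel)
def u5 : A7 := mk c[(2 : Fin 7), 3, 4, 5, 6] (by decide +kernel)
def z3 : A7 := mk c[(0 : Fin 7), 1, 2] (by decide +kernel)
def w3 : A7 := mk c[(3 : Fin 7), 4, 5] (by decide +kernel)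

theorem x7_pow : x7 ^ 7 = 1 := Subtype.ext (by decide +kernel)
theorem x7_ne : x7 ≠ 1 := fun h => absurd (congrArg Subtype.val h) (by decide +kernel)
theorem x7_rel : y3 * x7 * y3⁻¹ = x7 ^ 2 := Subtype.ext (by decide +kernel)
theorem x5_pow : x5 ^ 5 = 1 := Subtype.ext (by decide +kernel)
theorem x5_ne : x5 ≠ 1 := fun h => absurd (congrArg Subtype.val h) (by decide +kernel)
theorem x5_rel : y4 * x5 * y4⁻¹ = x5 ^ 2 := Subtype.ext (by decide +kernel)
theorem u5_pow : u5 ^ 5 = 1 := Subtype.ext (by decide +kernel)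
theorem xu_pow : (x5 * u5) ^ 7 = 1 := Subtype.ext (by decide +kernel)
theorem xu_ne : x5 * u5 ≠ 1 := fun h => absurd (congrArg Subtype.val h) (by decide +kernel)
theorem z3_pow : z3 ^ 3 = 1 := Subtype.ext (by decide +kernel)
theorem z3_ne : z3 ≠ 1 := fun h => absurd (congrArg Subtype.val h) (by decide +kernel)
theorem w3_pow : w3 ^ 3 = 1 := Subtype.ext (by decide +kernel)
theorem zw_comm : z3 * w3 = w3 * z3 := Subtype.ext (by decide +kernel)
theorem w3_not_mem : w3 ∉ Subgroup.zpowers z3 := by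
  intro h
  obtain ⟨k, hk⟩ := Subgroup.mem_zpowers_iff.1 h
  have h1 : z3 ^ (k % 3) = w3 := by
    rw [← hk]
    conv_rhs => rw [← Int.emod_add_mul_ediv k 3, zpow_add, zpow_mul]
    have : z3 ^ (3 : ℤ) = 1 := by exact_mod_cast z3_pow
    rw [this, one_zpow, mul_one]
  have h2 : k % 3 = 0 ∨ k % 3 = 1 ∨ k % 3 = 2 := by omega
  rcases h2 with h2 | h2 | h2 <;> rw [h2] at h1 <;> exact absurd (congrArg Subtype.val h1) (by decide +kernel)

variable {p : ℕ} [Fact p.Prime] {K : Type w} [Field K] {V : Type u} [AddCommGroup V] [Module (ZMod p) V] [Finite V]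
    [Module K V] {G L : Subgroup (V ≃ₗ[ZMod p] V)} {h : ℕ}

section basic

variable (H : QL p K V G L h) (e : (L ⧸ Subgroup.center L) ≃* A7)

include e in
theorem card_T : Nat.card (L ⧸ Subgroup.center L) = 2520 ∧ Nat.card (MulAut (L ⧸ Subgroup.center L)) = 5040 :=
  ⟨(Data.a7 e).1, (Data.a7 e).2.1⟩

include H e in
theorem three_dvd_h : 3 ∣ h := by
  have := finite_L (L := L)
  have : Fact (Nat.Prime 3) := ⟨Nat.prime_three⟩
  exact dvd_h_of_noncyclic H.half H.le (QN.exists_ne H) (by norm_num) (pr e) (pr_surjective e)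
    (noncyclic_three zw_comm z3_pow w3_pow z3_ne w3_not_mem)

include H e in
theorem nd5 : ¬ 5 ∣ Nat.card (Subgroup.center L) := by
  have := finite_L (L := L)
  have : Fact (Nat.Prime 5) := ⟨Nat.prime_five⟩
  refine not_dvd_center_pr e H.perf ?_
  rw [← Nat.card_congr e.toEquiv, (card_T e).1]
  decide

include H e in
theorem nd7 : ¬ 7 ∣ Nat.card (Subgroup.center L) := by
  have := finite_L (L := L)
  have : Fact (Nat.Prime 7) := ⟨by norm_num⟩
  refine not_dvd_center_pr e H.perf ?_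
  rw [← Nat.card_congr e.toEquiv, (card_T e).1]
  decide

include H e in
theorem seven_three : ∃ z y : L, z ≠ 1 ∧ z ^ 7 = 1 ∧ y * z * y⁻¹ = z ^ 2 := by
  have := finite_L (L := L)
  obtain ⟨z, hz, hz1⟩ := pr_lift e (by norm_num) (nd7 H e) x7_pow
  obtain ⟨y, hy⟩ := pr_surjective e y3
  refine ⟨z, y, ?_, hz, pr_rel e (by norm_num) (nd7 H e) hz (by rw [hy, hz1]; exact x7_rel)⟩
  rintro rfl
  exact x7_ne (by rw [← hz1, map_one])

include H e in
theorem five_four : ∃ z y : L, z ≠ 1 ∧ z ^ 5 = 1 ∧ y * z * y⁻¹ = z ^ 2 := by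
  have := finite_L (L := L)
  obtain ⟨z, hz, hz1⟩ := pr_lift e (by norm_num) (nd5 H e) x5_pow
  obtain ⟨y, hy⟩ := pr_surjective e y4
  refine ⟨z, y, ?_, hz, pr_rel e (by norm_num) (nd5 H e) hz (by rw [hy, hz1]; exact x5_rel)⟩
  rintro rfl
  exact x5_ne (by rw [← hz1, map_one])

theorem ord7 : orderOf ((2 : ℕ) : ZMod 7) = 3 := by
  have : Fact (Nat.Prime 3) := ⟨Nat.prime_three⟩
  exact orderOf_eq_prime (by decide) (by decide)

theorem ord5 : orderOf ((2 : ℕ) : ZMod 5) = 4 := by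
  have : Fact (Nat.Prime 2) := ⟨Nat.prime_two⟩
  exact orderOf_eq_prime_pow (p := 2) (n := 1) (by decide) (by decide)

include H e in
theorem three_le (hp7 : p ≠ 7) : 3 ≤ finrank K V := by
  obtain ⟨z, y, hz1, hz, hyz⟩ := seven_three H e
  exact le_finrank H (by norm_num) (Ne.symm hp7) hz hz1 hyz ord7 (by norm_num)

include H e in
theorem four_le (hp5 : p ≠ 5) : 4 ≤ finrank K V := by
  obtain ⟨z, y, hz1, hz, hyz⟩ := five_four H e
  exact le_finrank H (by norm_num) (Ne.symm hp5) hz hz1 hyz ord5 (by norm_num)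

include H e in
theorem kill7 (hp7 : p ≠ 7) (h7 : ¬ 7 ∣ h) : 3 ∣ finrank K V := by
  obtain ⟨z, y, hz1, hz, hyz⟩ := seven_three H e
  have : Fact (Nat.Prime 7) := ⟨by norm_num⟩
  refine dvd_finrank H (by norm_num) (Ne.symm hp7) hz (fun v hv => ?_) hyz ord7 (by norm_num)
  exact fpf_of_not_dvd H.half h7 (H.le z.2) (congrArg Subtype.val hz) (fun h2 => hz1 (Subtype.ext h2)) hv

include H e in
theorem kill5 (hp5 : p ≠ 5) (h5 : ¬ 5 ∣ h) : 4 ∣ finrank K V := by
  obtain ⟨z, y, hz1, hz, hyz⟩ := five_four H e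
  have : Fact (Nat.Prime 5) := ⟨by norm_num⟩
  refine dvd_finrank H (by norm_num) (Ne.symm hp5) hz (fun v hv => ?_) hyz ord5 (by norm_num)
  exact fpf_of_not_dvd H.half h5 (H.le z.2) (congrArg Subtype.val hz) (fun h2 => hz1 (Subtype.ext h2)) hv

end basic

/-! ### `p = 5`, `n = 3`, `q = 25` -/

theorem p5 (H : QL p K V G L h) (e : (L ⧸ Subgroup.center L) ≃* A7) (h0 : 0 < h) {m : ℕ} (hm : m * h = Nat.card G)
    (hn : finrank K V = 3) (hq : Nat.card K = 25) (hm' : m = 504) (h7 : ¬ 7 ∣ h) : False := by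
  have := finite_L (L := L)
  have hfK := QN.finiteK H
  have f7 : Fact (Nat.Prime 7) := ⟨by norm_num⟩
  obtain ⟨a, ha, ha1⟩ := pr_lift e (by norm_num) (nd5 H e) x5_pow
  obtain ⟨b, hb, hb1⟩ := pr_lift e (by norm_num) (nd5 H e) u5_pow
  have hV : Nat.card V = 15625 := by rw [QN.card_V H, hn, hq]; norm_num
  have key : ∀ x : L, x ^ 5 = 1 → 125 ≤ Nat.card (fx (x : V ≃ₗ[ZMod p] V)) := by
    intro x hx
    have h1 := fus_fx H.half h0 hm (i := 31) (by rw [hm', hV]) (s := 5) (by norm_num) (H.le x.2) (k := 1)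
      (by rw [pow_one]; exact congrArg Subtype.val hx)
    rw [hm'] at h1
    omega
  have key2 : ∀ x : L, x ^ 5 = 1 → 625 ≤ Nat.card (fx (x : V ≃ₗ[ZMod p] V)) := by
    intro x hx
    have h1 := key x hx
    rw [card_fx_eq_fd H.lin x, hq] at h1 ⊢
    have h2 : 2 ≤ fd H.lin x := by
      by_contra hlt
      have : fd H.lin x = 0 ∨ fd H.lin x = 1 := by omega
      rcases this with h3 | h3 <;> rw [h3] at h1 <;> omega
    calc 625 = 25 ^ 2 := by norm_num
      _ ≤ _ := Nat.pow_le_pow_right (by norm_num) h2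
  have h3 := AFive.card_mul_le (A := fx (a : V ≃ₗ[ZMod p] V)) (B := fx (b : V ≃ₗ[ZMod p] V)) (U := ⊤) le_top le_top (by
    intro v h1 h2
    by_contra hv
    rw [mem_fx] at h1 h2
    have h4 : ((a * b : L) : V ≃ₗ[ZMod p] V) v = v := by
      change (a : V ≃ₗ[ZMod p] V) ((b : V ≃ₗ[ZMod p] V) v) = v
      rw [h2, h1]
    have h5 := eq_one_of_fix H h7 (x := a * b) (by
      rw [← pr_eq_one e, map_pow, map_mul, ha1, hb1]
      exact xu_pow) hv h4
    have h6 := congrArg (pr e) h5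
    rw [map_mul, ha1, hb1, map_one] at h6
    exact xu_ne h6)
  have h4 : Nat.card (⊤ : Submodule (ZMod p) V) = Nat.card V := Nat.card_congr Submodule.topEquiv.toEquiv
  rw [h4, hV] at h3
  have h5 := Nat.mul_le_mul (key2 a ha) (key2 b hb)
  omega

/-! ### `p = 2`, `n = 6`, `q = 2` -/

def g1 : A7 := mk ⟨![3, 4, 5, 1, 0, 2, 6], ![4, 3, 5, 0, 1, 2, 6], by decide, by decide⟩ (by decide +kernel)
def g2 : A7 := mk (c[(4 : Fin 7), 5] * (c[(0 : Fin 7), 3] * c[(1 : Fin 7), 4] * c[(2 : Fin 7), 5])) (by decide +kernel)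
def inv3 : A7 := mk (c[(0 : Fin 7), 1] * c[(3 : Fin 7), 4]) (by decide +kernel)

theorem g1_rel : g1 * z3 * g1⁻¹ = w3 := Subtype.ext (by decide +kernel)
theorem g2_rel : g2 * (z3 * w3) * g2⁻¹ = z3 * (w3 * w3) := Subtype.ext (by decide +kernel)
theorem inv_z : inv3 * z3 * inv3⁻¹ = z3 ^ 2 := Subtype.ext (by decide +kernel)
theorem inv_w : inv3 * w3 * inv3⁻¹ = w3 ^ 2 := Subtype.ext (by decide +kernel)
theorem inv_zw : inv3 * (z3 * w3) * inv3⁻¹ = (z3 * w3) ^ 2 := Subtype.ext (by decide +kernel)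
theorem inv_zww : inv3 * (z3 * (w3 * w3)) * inv3⁻¹ = (z3 * (w3 * w3)) ^ 2 := Subtype.ext (by decide +kernel)

theorem ord3 : orderOf ((2 : ℕ) : ZMod 3) = 2 := by
  have : Fact (Nat.Prime 2) := ⟨Nat.prime_two⟩
  exact orderOf_eq_prime (by decide) (by decide)

/-- commuting elements of order three over `z3`, `w3` -/
theorem exists_zw (_ : QL p K V G L h) (e : (L ⧸ Subgroup.center L) ≃* A7) (h3 : ¬ 3 ∣ Nat.card (Subgroup.center L)) :
    ∃ z w : L, z ^ 3 = 1 ∧ w ^ 3 = 1 ∧ z * w = w * z ∧ pr e z = z3 ∧ pr e w = w3 ∧ (z * w) ^ 3 = 1 ∧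
      (z * (w * w)) ^ 3 = 1 := by
  have := finite_L (L := L)
  obtain ⟨z, hz, hz1⟩ := pr_lift e Nat.prime_three h3 z3_pow
  obtain ⟨w, hw, hw1⟩ := pr_lift e Nat.prime_three h3 w3_pow
  have hc : z * w = w * z := (pr_comm e Nat.prime_three h3 (z := z) (w := w) hz (by rw [hz1, hw1]; exact zw_comm.symm)).symm
  have hc' : Commute z w := hc
  refine ⟨z, w, hz, hw, hc, hz1, hw1, ?_, ?_⟩
  · rw [hc'.mul_pow, hz, hw, one_mul]
  · rw [(hc'.mul_right hc').mul_pow, hz, one_mul, ← pow_two, ← pow_mul, mul_comm, pow_mul, hw, one_pow]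

/-- the dimension of the fixed space of an inverted element of order three has the parity of `n` -/
theorem parity (H : QL p K V G L h) (hp3 : p ≠ 3) (e : (L ⧸ Subgroup.center L) ≃* A7)
    (h3 : ¬ 3 ∣ Nat.card (Subgroup.center L)) {x : L} (hx : x ^ 3 = 1) {τ : A7} (hτ : τ * pr e x * τ⁻¹ = (pr e x) ^ 2) :
    ∃ c, finrank K V = fd H.lin x + 2 * c := by
  have := finite_L (L := L)
  obtain ⟨y, hy⟩ := pr_surjective e τ
  exact orbL H Nat.prime_three (Ne.symm hp3) hx (pr_rel e Nat.prime_three h3 hx (t := y) (by rw [hy]; exact hτ)) ord3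
    (by norm_num)

theorem p2 (H : QL p K V G L h) (e : (L ⧸ Subgroup.center L) ≃* A7) (hp3 : p ≠ 3)
    (hn : finrank K V = 6) (hq : Nat.card K = 2) (h9 : ¬ 9 ∣ h) : False := by
  have := finite_L (L := L)
  have hfK := QN.finiteK H
  have hfd := QN.finiteDim H
  have h3 : ¬ 3 ∣ Nat.card (Subgroup.center L) := not_dvd_center_of H Nat.prime_three (Or.inr (by rw [hq]; norm_num))
  obtain ⟨z, w, hz, hw, hzw, hz1, hw1, hzw3, hzww3⟩ := exists_zw H e h3
  have key := nineL H hp3 hz hw hzw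
  obtain ⟨g, hg⟩ := pr_surjective e g1
  obtain ⟨g', hg'⟩ := pr_surjective e g2
  have e1 : g * z * g⁻¹ = w := pr_conj e Nat.prime_three h3 hz hw (by rw [hg, hz1, hw1]; exact g1_rel)
  have e2 : g' * (z * w) * g'⁻¹ = z * (w * w) := pr_conj e Nat.prime_three h3 hzw3 hzww3 (by
    rw [hg', map_mul, map_mul, map_mul, hz1, hw1]; exact g2_rel)
  have f1 : fd H.lin w = fd H.lin z := by rw [← e1]; exact fd_conj H.lin g z
  have f2 : fd H.lin (z * (w * w)) = fd H.lin (z * w) := by rw [← e2]; exact fd_conj H.lin g' (z * w)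
  obtain ⟨c1, hc1⟩ := parity H hp3 e h3 hz (by rw [hz1]; exact inv_z)
  obtain ⟨c2, hc2⟩ := parity H hp3 e h3 hzw3 (by rw [map_mul, hz1, hw1]; exact inv_zw)
  have h0 : finrank K ↥(es (repL H.lin z) 1 ⊓ es (repL H.lin w) 1) = 0 := by
    rw [Submodule.finrank_eq_zero, Submodule.eq_bot_iff]
    intro v hv
    rw [Submodule.mem_inf] at hv
    obtain ⟨h1, h2⟩ := hv
    change _ ∈ Module.End.eigenspace _ 1 at h1
    change _ ∈ Module.End.eigenspace _ 1 at h2
    rw [Module.End.mem_eigenspace_iff, one_smul] at h1 h2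
    by_contra hv0
    apply h9
    refine dvd_trans ?_ (stab_dvd H.half H.le hv0)
    refine nine_dvd (S := MulAction.stabilizer L v) (a := ⟨z, h1⟩) (b := ⟨w, h2⟩) (Subtype.ext hzw) (Subtype.ext hz)
      (Subtype.ext hw) ?_ ?_
    · intro h5
      have h6 : z = 1 := congrArg Subtype.val h5
      apply z3_ne
      rw [← hz1, h6, map_one]
    · intro h5
      obtain ⟨k, hk⟩ := Subgroup.mem_zpowers_iff.1 h5
      have h6 : z ^ k = w := congrArg Subtype.val hk
      apply w3_not_mem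
      rw [← hw1, ← h6, map_zpow, hz1]
      exact Subgroup.zpow_mem_zpowers z3 k
  omega

/-! ### `p = 7`, `n = 4`, `q = 7` -/

def a0 : A7 := mk (c[(0 : Fin 7), 1] * c[(2 : Fin 7), 3]) (by decide +kernel)
def a1 : A7 := mk (c[(3 : Fin 7), 4] * c[(5 : Fin 7), 6]) (by decide +kernel)
def a2 : A7 := mk (c[(0 : Fin 7), 3] * c[(1 : Fin 7), 4]) (by decide +kernel)
def a3 : A7 := mk (c[(0 : Fin 7), 3] * c[(1 : Fin 7), 5]) (by decide +kernel)

theorem a0_sq : a0 ^ 2 = 1 := Subtype.ext (by decide +kernel)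
theorem a1_sq : a1 ^ 2 = 1 := Subtype.ext (by decide +kernel)
theorem a2_sq : a2 ^ 2 = 1 := Subtype.ext (by decide +kernel)
theorem a3_sq : a3 ^ 2 = 1 := Subtype.ext (by decide +kernel)
theorem a0_ne : a0 ≠ 1 := fun h => absurd (congrArg Subtype.val h) (by decide +kernel)
theorem a1_ne : a1 ≠ 1 := fun h => absurd (congrArg Subtype.val h) (by decide +kernel)
theorem a2_ne : a2 ≠ 1 := fun h => absurd (congrArg Subtype.val h) (by decide +kernel)
theorem a3_ne : a3 ≠ 1 := fun h => absurd (congrArg Subtype.val h) (by decide +kernel)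
theorem a0_rel : z3 * (z3 * a0 * z3⁻¹) * z3⁻¹ = a0 * (z3 * a0 * z3⁻¹) := Subtype.ext (by decide +kernel)
theorem a1_rel : w3 * (w3 * a1 * w3⁻¹) * w3⁻¹ = a1 * (w3 * a1 * w3⁻¹) := Subtype.ext (by decide +kernel)
theorem a2_rel : (z3 * w3) * ((z3 * w3) * a2 * (z3 * w3)⁻¹) * (z3 * w3)⁻¹ = a2 * ((z3 * w3) * a2 * (z3 * w3)⁻¹) :=
  Subtype.ext (by decide +kernel)
theorem a3_rel : (z3 * (w3 * w3)) * ((z3 * (w3 * w3)) * a3 * (z3 * (w3 * w3))⁻¹) * (z3 * (w3 * w3))⁻¹ =
    a3 * ((z3 * (w3 * w3)) * a3 * (z3 * (w3 * w3))⁻¹) := Subtype.ext (by decide +kernel)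

/-- a transposition -/
def sw : Equiv.Perm (Fin 7) := c[(0 : Fin 7), 1]

/-- the involutions of `A₇` are conjugate -/
theorem conj_a0 {σ : A7} (h2 : σ ^ 2 = 1) (h1 : σ ≠ 1) : ∃ g : A7, g * a0 * g⁻¹ = σ := by
  have f2 : Fact (Nat.Prime 2) := ⟨Nat.prime_two⟩
  have e1 : (σ : Equiv.Perm (Fin 7)) ^ 2 = 1 := congrArg Subtype.val h2
  have e2 : (σ : Equiv.Perm (Fin 7)) ≠ 1 := fun h => h1 (Subtype.ext h)
  have e3 : orderOf (σ : Equiv.Perm (Fin 7)) = 2 := orderOf_eq_prime e1 e2
  obtain ⟨n, hn⟩ := Equiv.Perm.cycleType_prime_order (σ := (σ : Equiv.Perm (Fin 7))) (by rw [e3]; exact Nat.prime_two)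
  rw [e3] at hn
  have h3 : (σ : Equiv.Perm (Fin 7)).cycleType.sum ≤ 7 := by
    rw [Equiv.Perm.sum_cycleType]
    exact (Finset.card_le_univ _).trans (by simp)
  have h4 : Equiv.Perm.sign (σ : Equiv.Perm (Fin 7)) = 1 := Equiv.Perm.mem_alternatingGroup.1 σ.2
  rw [Equiv.Perm.sign_of_cycleType, hn] at h4
  rw [hn, Multiset.sum_replicate, smul_eq_mul] at h3
  rw [Multiset.sum_replicate, Multiset.card_replicate, smul_eq_mul] at h4
  have h5 : n = 1 := by
    have : n = 0 ∨ n = 1 ∨ n = 2 := by omega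
    rcases this with rfl | rfl | rfl
    · exact absurd h4 (by decide)
    · rfl
    · exact absurd h4 (by decide)
  subst h5
  have h6 : (a0 : Equiv.Perm (Fin 7)).cycleType = (σ : Equiv.Perm (Fin 7)).cycleType := by
    rw [hn]
    decide +kernel
  obtain ⟨g, hg⟩ := isConj_iff.1 ((Equiv.Perm.isConj_iff_cycleType_eq).2 h6)
  rcases Int.units_eq_one_or (Equiv.Perm.sign g) with hs | hs
  · exact ⟨mk g hs, Subtype.ext hg⟩
  · refine ⟨mk (g * sw) (by rw [map_mul, hs]; decide +kernel), Subtype.ext ?_⟩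
    change (g * sw) * (a0 : Equiv.Perm (Fin 7)) * (g * sw)⁻¹ = (σ : Equiv.Perm (Fin 7))
    rw [← hg]
    have h7 : sw * (a0 : Equiv.Perm (Fin 7)) * sw⁻¹ = (a0 : Equiv.Perm (Fin 7)) := by decide +kernel
    calc (g * sw) * (a0 : Equiv.Perm (Fin 7)) * (g * sw)⁻¹
        = g * (sw * (a0 : Equiv.Perm (Fin 7)) * sw⁻¹) * g⁻¹ := by group
      _ = _ := by rw [h7]

theorem conj_inv {σ τ : A7} (h2 : σ ^ 2 = 1) (h1 : σ ≠ 1) (k2 : τ ^ 2 = 1) (k1 : τ ≠ 1) :
    ∃ g : A7, g * σ * g⁻¹ = τ := by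
  obtain ⟨g, hg⟩ := conj_a0 h2 h1
  obtain ⟨k, hk⟩ := conj_a0 k2 k1
  refine ⟨k * g⁻¹, ?_⟩
  rw [← hg, ← hk]; group


/-- elements of order three, `n = 4`, `q = 7`, when some involution of `A₇` lifts to an involution -/
theorem fd_two (H : QL p K V G L h) (hp2 : p ≠ 2) (hp3 : p ≠ 3) (e : (L ⧸ Subgroup.center L) ≃* A7)
    (hn : finrank K V = 4) (hq : Nat.card K = 7) (h3 : ¬ 3 ∣ Nat.card (Subgroup.center L)) {s : L} (hs : s ^ 2 = 1)
    (hs1 : pr e s ≠ 1) {x : L} (hx : x ^ 3 = 1) (hx1 : x ≠ 1) {α τ : A7} (hα : α ^ 2 = 1) (hα1 : α ≠ 1)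
    (hr : pr e x * (pr e x * α * (pr e x)⁻¹) * (pr e x)⁻¹ = α * (pr e x * α * (pr e x)⁻¹))
    (hτ : τ * pr e x * τ⁻¹ = (pr e x) ^ 2) : fd H.lin x = 2 := by
  have := finite_L (L := L)
  have hfK := QN.finiteK H
  have hfd := QN.finiteDim H
  obtain ⟨γ, hγ⟩ := conj_inv (σ := pr e s) (by rw [← map_pow, hs, map_one]) hs1 hα hα1
  obtain ⟨g, hg⟩ := pr_surjective e γ
  obtain ⟨a, ha⟩ : ∃ a, a = g * s * g⁻¹ := ⟨_, rfl⟩
  have ha2 : a * a = 1 := by
    rw [← pow_two, ha, conj_pow, hs, mul_one, mul_inv_cancel]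
  have hpa : pr e a = α := by rw [ha, map_mul, map_mul, map_inv, hg, hγ]
  obtain ⟨b, hb⟩ : ∃ b, b = x * a * x⁻¹ := ⟨_, rfl⟩
  have hpb : pr e b = pr e x * α * (pr e x)⁻¹ := by rw [hb, map_mul, map_mul, map_inv, hpa]
  obtain ⟨c, hc⟩ : ∃ c, c = x * b * x⁻¹ := ⟨_, rfl⟩
  have hb2 : b * b = 1 := by
    rw [← pow_two, hb, conj_pow, pow_two, ha2, mul_one, mul_inv_cancel]
  have hc2 : c * c = 1 := by
    rw [← pow_two, hc, conj_pow, pow_two, hb2, mul_one, mul_inv_cancel]
  obtain ⟨ε, hε⟩ : ∃ ε, ε = c * (a * b)⁻¹ := ⟨_, rfl⟩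
  have hεZ : ε ∈ Subgroup.center L := by
    rw [← pr_eq_one e, hε, map_mul, map_inv, map_mul, hpa, hc, map_mul, map_mul, map_inv, hpb, hr, mul_inv_cancel]
  have hεc : ∀ y, ε * y = y * ε := fun y => (Subgroup.mem_center_iff.1 hεZ y).symm
  have hε2 : ε * ε = 1 := by
    obtain ⟨h4, h6⟩ := center_pow H hεZ
    rw [hn] at h4
    rw [hq] at h6
    have : ε ^ 6 = ε ^ 4 * (ε * ε) := by group
    rw [← h6, this, h4, one_mul]
  have hcab : c = ε * (a * b) := by rw [hε]; group
  have hab2 : (a * b) * (a * b) = 1 := by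
    have h1 : c * c = (ε * ε) * ((a * b) * (a * b)) := by
      rw [hcab]
      calc ε * (a * b) * (ε * (a * b)) = ε * ((a * b) * ε) * (a * b) := by group
        _ = ε * (ε * (a * b)) * (a * b) := by rw [hεc (a * b)]
        _ = _ := by group
    rw [hc2, hε2, one_mul] at h1
    exact h1.symm
  have hab : a * b = b * a := by
    have ia : a⁻¹ = a := (inv_eq_of_mul_eq_one_right (ha2 :) :)
    have ib : b⁻¹ = b := inv_eq_of_mul_eq_one_right hb2
    have iab : (a * b)⁻¹ = a * b := inv_eq_of_mul_eq_one_right hab2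
    rw [← iab, mul_inv_rev, ia, ib]
  -- the four-group
  have hA2 : (ε * a) * (ε * a) = 1 := by
    calc (ε * a) * (ε * a) = ε * (a * ε) * a := by group
      _ = (ε * ε) * (a * a) := by rw [← hεc a]; group
      _ = 1 := by rw [hε2, ha2, one_mul]
  have hB2 : (ε * b) * (ε * b) = 1 := by
    calc (ε * b) * (ε * b) = ε * (b * ε) * b := by group
      _ = (ε * ε) * (b * b) := by rw [← hεc b]; group
      _ = 1 := by rw [hε2, hb2, one_mul]
  have hAB' : (ε * a) * (ε * b) = a * b := by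
    calc (ε * a) * (ε * b) = ε * (a * ε) * b := by group
      _ = (ε * ε) * (a * b) := by rw [← hεc a]; group
      _ = a * b := by rw [hε2, one_mul]
  have hAB : (ε * a) * (ε * b) = (ε * b) * (ε * a) := by
    rw [hAB']
    calc a * b = b * a := hab
      _ = (ε * ε) * (b * a) := by rw [hε2, one_mul]
      _ = ε * (ε * b) * a := by group
      _ = ε * (b * ε) * a := by rw [hεc b]
      _ = _ := by group
  have hx1' : x * (ε * a) * x⁻¹ = ε * b := by
    rw [hb]
    calc x * (ε * a) * x⁻¹ = (x * ε) * a * x⁻¹ := by group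
      _ = (ε * x) * a * x⁻¹ := by rw [hεc x]
      _ = _ := by group
  have hx2' : x * (ε * b) * x⁻¹ = (ε * a) * (ε * b) := by
    rw [hAB']
    calc x * (ε * b) * x⁻¹ = (x * ε) * b * x⁻¹ := by group
      _ = (ε * x) * b * x⁻¹ := by rw [hεc x]
      _ = ε * c := by rw [hc]; group
      _ = ε * ε * (a * b) := by rw [hcab]; group
      _ = a * b := by rw [hε2, one_mul]
  have h2K : (2 : K) ≠ 0 := by
    have := natCast_ne_zero_of (K := K) (QN.exists_ne H) Nat.prime_two (Ne.symm hp2)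
    exact_mod_cast this
  have key := Eig.a4 h2K (repL H.lin) hA2 hB2 hAB hx hx1' hx2'
  have hA1 : ε * a ≠ 1 := by
    intro h1
    have h2 := congrArg (pr e) h1
    rw [map_mul, (pr_eq_one e).2 hεZ, one_mul, hpa, map_one] at h2
    exact hα1 h2
  have h4 := fd_lt H hA1
  have h5 : finrank K ↥(es (repL H.lin (ε * a)) 1 ⊓ es (repL H.lin (ε * b)) 1) ≤ fd H.lin (ε * a) :=
    Submodule.finrank_mono inf_le_left
  obtain ⟨k, hk⟩ := parity H hp3 e h3 hx hτ
  have h6 := fd_lt H hx1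
  change 3 * fd H.lin x + _ = _ at key
  omega

/-- no involution of `A₇` lifts to an involution -/
theorem p7_even (H : QL p K V G L h) (hp2 : p ≠ 2) (hp3 : p ≠ 3) (e : (L ⧸ Subgroup.center L) ≃* A7)
    (hn : finrank K V = 4) (hq : Nat.card K = 7) {s : L} (hs : s ^ 2 = 1) (hs1 : pr e s ≠ 1) : False := by
  have := finite_L (L := L)
  have h3 : ¬ 3 ∣ Nat.card (Subgroup.center L) := not_dvd_center_of H Nat.prime_three (Or.inl (by rw [hn]; norm_num))
  obtain ⟨z, w, hz, hw, hzw, hz1, hw1, hzw3, hzww3⟩ := exists_zw H e h3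
  have key := nineL H hp3 hz hw hzw
  have n1 : z3 * w3 ≠ 1 := fun h => absurd (congrArg Subtype.val h) (by decide +kernel)
  have n2 : z3 * (w3 * w3) ≠ 1 := fun h => absurd (congrArg Subtype.val h) (by decide +kernel)
  have n3 : w3 ≠ 1 := fun h => absurd (congrArg Subtype.val h) (by decide +kernel)
  have e1 : pr e (z * w) = z3 * w3 := by rw [map_mul, hz1, hw1]
  have e2 : pr e (z * (w * w)) = z3 * (w3 * w3) := by rw [map_mul, map_mul, hz1, hw1]
  have ne : ∀ {x : L} {t : A7}, pr e x = t → t ≠ 1 → x ≠ 1 := by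
    rintro x t hx ht rfl
    exact ht (by rw [← hx, map_one])
  have f1 := fd_two H hp2 hp3 e hn hq h3 hs hs1 hz (ne hz1 z3_ne) a0_sq a0_ne (by rw [hz1]; exact a0_rel) (τ := inv3)
    (by rw [hz1]; exact inv_z)
  have f2 := fd_two H hp2 hp3 e hn hq h3 hs hs1 hw (ne hw1 n3) a1_sq a1_ne (by rw [hw1]; exact a1_rel) (τ := inv3)
    (by rw [hw1]; exact inv_w)
  have f3 := fd_two H hp2 hp3 e hn hq h3 hs hs1 hzw3 (ne e1 n1) a2_sq a2_ne (by rw [e1]; exact a2_rel) (τ := inv3)
    (by rw [e1]; exact inv_zw)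
  have f4 := fd_two H hp2 hp3 e hn hq h3 hs hs1 hzww3 (ne e2 n2) a3_sq a3_ne (by rw [e2]; exact a3_rel) (τ := inv3)
    (by rw [e2]; exact inv_zww)
  omega

/-! ### Counting Sylow 7-subgroups -/

open scoped Pointwise in
/-- the stabiliser of a non-zero vector has order dividing 63 and divisible by 7 -/
theorem p7_odd (H : QL p K V G L h) (e : (L ⧸ Subgroup.center L) ≃* A7)
    (hV : Nat.card V = 2401) (hK : Nat.card K = 7)
    (hst : ∀ v : V, v ≠ 0 → Nat.card (MulAction.stabilizer L v) ∣ 63 ∧ 7 ∣ Nat.card (MulAction.stabilizer L v)) :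
    False := by
  have := finite_L (L := L)
  have f7 : Fact (Nat.Prime 7) := ⟨by norm_num⟩
  have hcL : Nat.card L = 2520 * Nat.card (Subgroup.center L) := by
    rw [Subgroup.card_eq_card_quotient_mul_card_subgroup (Subgroup.center L), (card_T e).1]
  have h49 : ¬ 7 ^ 2 ∣ Nat.card L := by
    intro hd
    rw [hcL] at hd
    have h1 : Nat.Coprime 7 (Nat.card (Subgroup.center L)) :=
      (Nat.Prime.coprime_iff_not_dvd (by norm_num)).2 (nd7 H e)
    have h2 : 7 ^ 2 ∣ 2520 := (Nat.Coprime.pow_left 2 h1).dvd_of_dvd_mul_right hd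
    exact absurd h2 (by decide)
  have h7 : 7 ∣ Nat.card L := by
    rw [hcL]
    exact (show 7 ∣ 2520 by decide).trans (Dvd.intro _ rfl)
  have hcard : ∀ P : Sylow 7 L, Nat.card P = 7 := Lift.card_syl h49 h7
  -- existence and uniqueness
  have hex : ∀ v : V, v ≠ 0 → ∃ P : Sylow 7 L, ∀ x ∈ (P : Subgroup L), (x : V ≃ₗ[ZMod p] V) v = v := by
    intro v hv
    obtain ⟨x, hx⟩ := exists_prime_orderOf_dvd_card' 7 (hst v hv).2
    have hx' : orderOf (x : L) = 7 := by rw [Subgroup.orderOf_coe]; exact hx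
    refine ⟨Lift.sylOf h49 (Subgroup.zpowers (x : L)) (by rw [Nat.card_zpowers, hx']), ?_⟩
    intro y hy
    have h1 : y ∈ Subgroup.zpowers (x : L) := hy
    have h2 : Subgroup.zpowers (x : L) ≤ MulAction.stabilizer L v := by
      rw [Subgroup.zpowers_le]; exact x.2
    exact h2 h1
  have huniq : ∀ v : V, v ≠ 0 → ∀ P Q : Sylow 7 L, (∀ x ∈ (P : Subgroup L), (x : V ≃ₗ[ZMod p] V) v = v) →
      (∀ x ∈ (Q : Subgroup L), (x : V ≃ₗ[ZMod p] V) v = v) → P = Q := by
    intro v hv P Q hP hQ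
    obtain ⟨S, hS⟩ : ∃ S, S = MulAction.stabilizer L v := ⟨_, rfl⟩
    have hPS : (P : Subgroup L) ≤ S := by rw [hS]; exact fun x hx => hP x hx
    have hQS : (Q : Subgroup L) ≤ S := by rw [hS]; exact fun x hx => hQ x hx
    have h1 : Nat.card S ∣ 63 := by rw [hS]; exact (hst v hv).1
    have h1' : 7 ∣ Nat.card S := by rw [hS]; exact (hst v hv).2
    have h2 : ¬ 7 ^ 2 ∣ Nat.card S := fun hc => absurd (hc.trans h1) (by decide)
    have h3 : Nat.card (Sylow 7 S) = 1 := by
      obtain ⟨R⟩ : Nonempty (Sylow 7 S) := inferInstance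
      have a1 := R.card_dvd_index
      have a2 := card_sylow_modEq_one 7 S
      have a3 : ((R : Subgroup S).index :) ∣ 9 := by
        have b1 := (R : Subgroup S).card_mul_index
        have b2 : Nat.card (R : Subgroup S) = 7 := Lift.card_syl h2 h1' R
        rw [b2] at b1
        have b3 : 7 * (R : Subgroup S).index ∣ 7 * 9 := by rw [b1]; exact h1
        exact (Nat.mul_dvd_mul_iff_left (by norm_num)).1 b3
      have a4 : Nat.card (Sylow 7 S) ∣ 9 := a1.trans a3
      have a5 : Nat.card (Sylow 7 S) ≤ 9 := Nat.le_of_dvd (by norm_num) a4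
      have a6 : Nat.card (Sylow 7 S) % 7 = 1 := a2
      have a7 : Nat.card (Sylow 7 S) = 1 ∨ Nat.card (Sylow 7 S) = 8 := by omega
      rcases a7 with a7 | a7
      · exact a7
      · rw [a7] at a4; exact absurd a4 (by decide)
    have h4 : (P.subtype hPS) = (Q.subtype hQS) := by
      have : Subsingleton (Sylow 7 S) := (Nat.card_eq_one_iff_unique.1 h3).1
      exact Subsingleton.elim _ _
    exact Sylow.subtype_injective h4
  -- the fixed spaces have the same order
  obtain ⟨P₀⟩ : Nonempty (Sylow 7 L) := inferInstance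
  obtain ⟨M, hM⟩ : ∃ M, M = Nat.card {v : V // v ≠ 0 ∧ ∀ x ∈ (P₀ : Subgroup L), (x : V ≃ₗ[ZMod p] V) v = v} := ⟨_, rfl⟩
  have hconst : ∀ P : Sylow 7 L, Nat.card {v : V // v ≠ 0 ∧ ∀ x ∈ (P : Subgroup L), (x : V ≃ₗ[ZMod p] V) v = v} = M := by
    intro P
    obtain ⟨g, hg⟩ := MulAction.exists_smul_eq L P₀ P
    rw [hM]
    have hmem : ∀ x : L, x ∈ (P₀ : Subgroup L) → g * x * g⁻¹ ∈ (P : Subgroup L) := by
      intro x hx
      rw [← hg]
      change g * x * g⁻¹ ∈ MulAut.conj g • (P₀ : Subgroup L)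
      exact Subgroup.smul_mem_pointwise_smul _ (MulAut.conj g) _ hx
    have hmem' : ∀ x : L, x ∈ (P : Subgroup L) → g⁻¹ * x * g ∈ (P₀ : Subgroup L) := by
      intro x hx
      rw [← hg] at hx
      change x ∈ MulAut.conj g • (P₀ : Subgroup L) at hx
      rw [Subgroup.mem_pointwise_smul_iff_inv_smul_mem] at hx
      rw [← map_inv] at hx
      have h5 : (MulAut.conj g⁻¹) • x = g⁻¹ * x * g := by
        rw [MulAut.smul_def, MulAut.conj_apply, inv_inv]
      rwa [h5] at hx
    refine Nat.card_congr ⟨fun v => ⟨(g : V ≃ₗ[ZMod p] V)⁻¹ v.1, ?_, ?_⟩, fun v => ⟨(g : V ≃ₗ[ZMod p] V) v.1, ?_, ?_⟩, ?_, ?_⟩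
    · intro h
      exact v.2.1 (((g : V ≃ₗ[ZMod p] V)⁻¹).map_eq_zero_iff.1 h)
    · intro x hx
      have h1 := v.2.2 _ (hmem x hx)
      change (g : V ≃ₗ[ZMod p] V) ((x : V ≃ₗ[ZMod p] V) ((g : V ≃ₗ[ZMod p] V)⁻¹ v.1)) = v.1 at h1
      apply (g : V ≃ₗ[ZMod p] V).injective
      rw [h1]
      change v.1 = ((g : V ≃ₗ[ZMod p] V) * (g : V ≃ₗ[ZMod p] V)⁻¹) v.1
      rw [mul_inv_cancel]; rfl
    · intro h
      exact v.2.1 ((g : V ≃ₗ[ZMod p] V).map_eq_zero_iff.1 h)
    · intro x hx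
      have h1 := v.2.2 _ (hmem' x hx)
      change (g : V ≃ₗ[ZMod p] V)⁻¹ ((x : V ≃ₗ[ZMod p] V) ((g : V ≃ₗ[ZMod p] V) v.1)) = v.1 at h1
      apply ((g : V ≃ₗ[ZMod p] V)⁻¹).injective
      rw [h1]
      change v.1 = ((g : V ≃ₗ[ZMod p] V)⁻¹ * (g : V ≃ₗ[ZMod p] V)) v.1
      rw [inv_mul_cancel]; rfl
    · intro v
      apply Subtype.ext
      change ((g : V ≃ₗ[ZMod p] V) * (g : V ≃ₗ[ZMod p] V)⁻¹) v.1 = v.1
      rw [mul_inv_cancel]; rfl
    · intro v
      apply Subtype.ext
      change ((g : V ≃ₗ[ZMod p] V)⁻¹ * (g : V ≃ₗ[ZMod p] V)) v.1 = v.1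
      rw [inv_mul_cancel]; rfl
  have hcount : Nat.card {v : V // v ≠ 0} = Nat.card (Sylow 7 L) * M := by
    classical
    have := Fintype.ofFinite (Sylow 7 L)
    have h1 : Nat.card (Σ P : Sylow 7 L, {v : V // v ≠ 0 ∧ ∀ x ∈ (P : Subgroup L), (x : V ≃ₗ[ZMod p] V) v = v}) =
        Nat.card {v : V // v ≠ 0} := by
      refine Nat.card_congr (Equiv.ofBijective (fun s => ⟨s.2.1, s.2.2.1⟩) ⟨?_, ?_⟩)
      · rintro ⟨P, v, hv⟩ ⟨Q, w, hw⟩ hvw
        have h2 : v = w := congrArg Subtype.val hvw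
        subst h2
        have h3 := huniq v hv.1 P Q hv.2 hw.2
        subst h3
        rfl
      · rintro ⟨v, hv⟩
        obtain ⟨P, hP⟩ := hex v hv
        exact ⟨⟨P, v, hv, hP⟩, rfl⟩
    rw [← h1, Nat.card_sigma, Finset.sum_congr rfl fun P _ => hconst P, Finset.sum_const, Finset.card_univ,
      smul_eq_mul, Nat.card_eq_fintype_card]
  have hM7 : ∃ c, c < 4 ∧ M + 1 = 7 ^ c := by
    have hfK := QN.finiteK H
    obtain ⟨x, hx⟩ := exists_prime_orderOf_dvd_card' (G := (P₀ : Subgroup L)) 7 (by rw [hcard P₀])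
    have hx' : orderOf (x : L) = 7 := by rw [Subgroup.orderOf_coe]; exact hx
    have hx1 : (x : L) ≠ 1 := by
      intro h1
      rw [h1, orderOf_one] at hx'
      omega
    have h1 : Subgroup.zpowers (x : L) = (P₀ : Subgroup L) := by
      refine Subgroup.eq_of_le_of_card_ge ((Subgroup.zpowers_le).2 x.2) ?_
      rw [Nat.card_zpowers, hx', hcard P₀]
    refine ⟨fd H.lin (x : L), ?_, ?_⟩
    · have h2 := fd_lt H hx1
      have h3 := QN.card_V H
      rw [hV, hK] at h3
      have h4 : finrank K V = 4 := by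
        apply Nat.pow_right_injective (le_refl 7 |>.trans' (by norm_num) : 2 ≤ 7)
        change 7 ^ finrank K V = 7 ^ 4
        rw [← h3]
      omega
    · have h6 := card_fx_eq_fd H.lin (x : L)
      rw [hK] at h6
      rw [hM, ← h6, ← card_sub_ne_zero (fx ((x : L) : V ≃ₗ[ZMod p] V))
        (fun v => ∀ y ∈ (P₀ : Subgroup L), (y : V ≃ₗ[ZMod p] V) v = v)]
      · congr 1
        exact Nat.card_congr ⟨fun v => ⟨⟨v.1, v.2.1⟩, v.2.2⟩, fun v => ⟨v.1.1, v.1.2, v.2⟩, fun _ => rfl, fun _ => rfl⟩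
      · intro v
        rw [mem_fx]
        constructor
        · intro h2
          exact h2 x x.2
        · intro h2 y hy
          have h3 : Subgroup.zpowers (x : L) ≤ MulAction.stabilizer L v := by
            rw [Subgroup.zpowers_le]; exact h2
          rw [h1] at h3
          exact h3 hy
  have hV0 : Nat.card {v : V // v ≠ 0} = 2400 := by
    have := card_ne_zero (V := V)
    omega
  obtain ⟨c, hc, hMc⟩ := hM7
  rw [hV0] at hcount
  have h25 : ¬ 25 ∣ Nat.card (Sylow 7 L) := by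
    intro hd
    have h1 : 25 ∣ Nat.card L := hd.trans (P₀.card_dvd_index.trans (Subgroup.index_dvd_card _))
    rw [hcL] at h1
    have h2 : Nat.Coprime 5 (Nat.card (Subgroup.center L)) :=
      (Nat.Prime.coprime_iff_not_dvd (by norm_num)).2 (nd5 H e)
    have h3 : 5 ^ 2 ∣ 2520 := (Nat.Coprime.pow_left 2 h2).dvd_of_dvd_mul_right h1
    exact absurd h3 (by decide)
  have hc' : c = 0 ∨ c = 1 ∨ c = 2 ∨ c = 3 := by omega
  rcases hc' with rfl | rfl | rfl | rfl
  · have : M = 0 := by omega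
    rw [this] at hcount
    omega
  · have : M = 6 := by omega
    rw [this] at hcount
    apply h25
    have : Nat.card (Sylow 7 L) = 400 := by omega
    rw [this]
    decide
  · have : M = 48 := by omega
    rw [this] at hcount
    apply h25
    have : Nat.card (Sylow 7 L) = 50 := by omega
    rw [this]
    decide
  · have : M = 342 := by omega
    rw [this] at hcount
    omega

theorem p7 (H : QL p K V G L h) (e : (L ⧸ Subgroup.center L) ≃* A7) (hp2 : p ≠ 2) (hp3 : p ≠ 3) (h0 : 0 < h) {m : ℕ}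
    (hm : m * h = Nat.card G) (hn : finrank K V = 4) (hq : Nat.card K = 7) (hm' : m = 240 ∨ m = 480) (hh : h ∣ 126) :
    False := by
  have := finite_L (L := L)
  have hV : Nat.card V = 2401 := by rw [QN.card_V H, hn, hq]; norm_num
  have f2 : Fact (Nat.Prime 2) := ⟨Nat.prime_two⟩
  by_cases hev : ∃ v : V, v ≠ 0 ∧ 2 ∣ Nat.card (MulAction.stabilizer L v)
  · obtain ⟨v, hv, h2⟩ := hev
    obtain ⟨s, hs⟩ := exists_prime_orderOf_dvd_card' 2 h2
    have hs' : orderOf (s : L) = 2 := by rw [Subgroup.orderOf_coe]; exact hs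
    refine p7_even H hp2 hp3 e hn hq (s := s) (by rw [← hs', pow_orderOf_eq_one]) ?_
    intro h1
    have h3 := central_fixed H ((pr_eq_one e).1 h1) hv s.2
    rw [h3, orderOf_one] at hs'
    omega
  · push Not at hev
    refine p7_odd H e hV hq fun v hv => ⟨?_, ?_⟩
    · have h1 := (stab_dvd H.half H.le hv).trans hh
      have h2 : Nat.Coprime (Nat.card (MulAction.stabilizer L v)) 2 :=
        ((Nat.Prime.coprime_iff_not_dvd Nat.prime_two).2 (hev v hv)).symm
      exact h2.dvd_of_dvd_mul_left (show _ ∣ 2 * 63 from h1)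
    · refine part_dvd_stab H.half h0 hm H.le H.nrm ?_ ?_ hv
      · rw [Subgroup.card_eq_card_quotient_mul_card_subgroup (Subgroup.center L), (card_T e).1]
        exact (show 7 ∣ 2520 by decide).trans (Dvd.intro _ rfl)
      · rcases hm' with rfl | rfl <;> decide

/-! ### The row -/

/-- the numerical survivors -/
def ex : List (ℕ × ℕ × ℕ) := [(3, 4, 21), (3, 16, 315), (4, 8, 315), (6, 2, 21), (6, 4, 315), (12, 2, 315), (4,
    3, 40), (4, 3, 20), (4, 27, 7280), (4, 27, 3640), (3, 25, 504), (4, 125, 31248), (6, 5, 504), (4, 7, 480), (4,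
    7, 240)]

/-- **the row `A₇`** -/
theorem row (H : QL p K V G L h) (e : (L ⧸ Subgroup.center L) ≃* alternatingGroup (Fin 7)) (hp : p ∣ Nat.card G) :
    _root_.Cfsg.Agent.H742.HT.Tr G := by
  by_contra hn
  obtain ⟨m, hm, hcp, hph, hpm, hm0⟩ := QN.cp H hp hn
  have hpp : p.Prime := Fact.out
  obtain ⟨k, hk, hk0⟩ := QN.exists_card H
  have hfK := QN.finiteK H
  have h0 : 0 < h := by have := hcp.1; omega
  obtain ⟨hT, hA⟩ := card_T e
  have hd : m * h ∣ (Nat.card K - 1) * 5040 := by rw [← hA]; exact hcp.2.2.2.2.1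
  -- the prime
  have hp4 : p ∈ [2, 3, 5, 7] := by
    have h1 : p ∣ (Nat.card K - 1) * 5040 := hph.trans ((Dvd.intro_left _ rfl).trans hd)
    rcases (Nat.Prime.dvd_mul hpp).1 h1 with h2 | h2
    · exfalso
      rw [hk] at h2
      have h3 : p ∣ p ^ k := dvd_pow_self p (by omega)
      have h4 : 1 ≤ p ^ k := Nat.one_le_pow _ _ hpp.pos
      have h5 : p ∣ 1 := by
        have := Nat.dvd_sub h3 h2
        rwa [show p ^ k - (p ^ k - 1) = 1 by omega] at this
      exact hpp.one_lt.ne' (Nat.dvd_one.1 h5)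
    · have h3 : p ∣ 2 ^ 4 * 3 ^ 2 * 5 * 7 := h2
      have h4 : p = 2 ∨ p = 3 ∨ p = 5 ∨ p = 7 := by
        rcases (Nat.Prime.dvd_mul hpp).1 h3 with h3 | h3
        · rcases (Nat.Prime.dvd_mul hpp).1 h3 with h3 | h3
          · rcases (Nat.Prime.dvd_mul hpp).1 h3 with h3 | h3
            · exact Or.inl ((Nat.prime_dvd_prime_iff_eq hpp Nat.prime_two).1 (hpp.dvd_of_dvd_pow h3))
            · exact Or.inr (Or.inl ((Nat.prime_dvd_prime_iff_eq hpp Nat.prime_three).1 (hpp.dvd_of_dvd_pow h3)))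
          · exact Or.inr (Or.inr (Or.inl ((Nat.prime_dvd_prime_iff_eq hpp Nat.prime_five).1 h3)))
        · exact Or.inr (Or.inr (Or.inr ((Nat.prime_dvd_prime_iff_eq hpp (by norm_num)).1 h3)))
      simpa using h4
  have hn3 : 3 ≤ finrank K V := by
    by_cases h7 : p = 7
    · have := four_le H e (by omega)
      omega
    · exact three_le H e h7
  have hsv : Cfsg.Agent.H391.HT.Surv ex p (finrank K V) (L ⧸ Subgroup.center L) :=
    Cfsg.Agent.H391.HT.surv [(2, 4, 315), (3, 2, 560), (5, 1, 1008), (7, 1, 720)] 18 20 19 (A := 5040) hpp hT (dvd_of_eq hA)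
      (by norm_num) hn3 (by decide +kernel) hp4
  have hmem := hsv k m h (by omega) (by rw [← hk]; exact hcp)
  rw [← hk] at hmem
  have h3 := three_dvd_h H e
  have hgl := QN.card_L_dvd_gl H
  have hTL : 2520 ∣ Nat.card L := by rw [← hT]; exact QN.card_quot_dvd_L H
  simp only [ex, List.mem_cons, List.not_mem_nil, or_false, Prod.mk.injEq] at hmem
  have hprime : ∀ {r j : ℕ}, r.Prime → Nat.card K = r ^ j → j ≠ 0 → p = r := by
    intro r j hr hj hj0
    have h1 : p ∣ r ^ j := by rw [← hj, hk]; exact dvd_pow_self p (by omega)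
    exact (Nat.prime_dvd_prime_iff_eq hpp hr).1 (hpp.dvd_of_dvd_pow h1)
  have hdiv : ∀ {M c : ℕ}, 0 < M → m = M → (Nat.card K - 1) * 5040 = M * c → h ∣ c := by
    intro M c hM hmM hc
    rw [hc, hmM] at hd
    exact (Nat.mul_dvd_mul_iff_left hM).1 hd
  rcases hmem with h | h | h | h | h | h | h | h | h | h | h | h | h | h | h
  · -- (3, 4, 21)
    obtain ⟨e1, e2, e3⟩ := h
    have hp2 := hprime Nat.prime_two (j := 2) (by rw [e2]; norm_num) (by norm_num)
    have := four_le H e (by omega)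
    omega
  · obtain ⟨e1, e2, e3⟩ := h
    have hp2 := hprime Nat.prime_two (j := 4) (by rw [e2]; norm_num) (by norm_num)
    have := four_le H e (by omega)
    omega
  · obtain ⟨e1, e2, e3⟩ := h
    have h4 := hdiv (c := 112) (by norm_num) e3 (by rw [e2])
    exact absurd (h3.trans h4) (by decide)
  · obtain ⟨e1, e2, e3⟩ := h
    have hp2 := hprime Nat.prime_two (j := 1) (by rw [e2]; norm_num) (by norm_num)
    have h4 := hdiv (c := 240) (by norm_num) e3 (by rw [e2])
    exact p2 H e (by omega) e1 e2 (fun h9 => absurd (h9.trans h4) (by decide))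
  · obtain ⟨e1, e2, e3⟩ := h
    have hp2 := hprime Nat.prime_two (j := 2) (by rw [e2]; norm_num) (by norm_num)
    have h4 := hdiv (c := 48) (by norm_num) e3 (by rw [e2])
    have := kill5 H e (by omega) (fun h5 => absurd (h5.trans h4) (by decide))
    rw [e1] at this
    exact absurd this (by decide)
  · obtain ⟨e1, e2, e3⟩ := h
    have h4 := hdiv (c := 16) (by norm_num) e3 (by rw [e2])
    exact absurd (h3.trans h4) (by decide)
  · obtain ⟨e1, e2, e3⟩ := h
    have h4 := (hTL.trans hgl)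
    rw [e1, e2] at h4
    exact absurd h4 (by decide +kernel)
  · obtain ⟨e1, e2, e3⟩ := h
    have h4 := (hTL.trans hgl)
    rw [e1, e2] at h4
    exact absurd h4 (by decide +kernel)
  · obtain ⟨e1, e2, e3⟩ := h
    have hp2 := hprime Nat.prime_three (j := 3) (by rw [e2]; norm_num) (by norm_num)
    have h4 := hdiv (c := 18) (by norm_num) e3 (by rw [e2])
    have := kill7 H e (by omega) (fun h5 => absurd (h5.trans h4) (by decide))
    rw [e1] at this
    exact absurd this (by decide)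
  · obtain ⟨e1, e2, e3⟩ := h
    have hp2 := hprime Nat.prime_three (j := 3) (by rw [e2]; norm_num) (by norm_num)
    have h4 := hdiv (c := 36) (by norm_num) e3 (by rw [e2])
    have := kill7 H e (by omega) (fun h5 => absurd (h5.trans h4) (by decide))
    rw [e1] at this
    exact absurd this (by decide)
  · obtain ⟨e1, e2, e3⟩ := h
    have h4 := hdiv (c := 240) (by norm_num) e3 (by rw [e2])
    exact p5 H e h0 hm e1 e2 e3 (fun h7 => absurd (h7.trans h4) (by decide))
  · obtain ⟨e1, e2, e3⟩ := h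
    have hp2 := hprime Nat.prime_five (j := 3) (by rw [e2]; norm_num) (by norm_num)
    have h4 := hdiv (c := 20) (by norm_num) e3 (by rw [e2])
    have := kill7 H e (by omega) (fun h5 => absurd (h5.trans h4) (by decide))
    rw [e1] at this
    exact absurd this (by decide)
  · obtain ⟨e1, e2, e3⟩ := h
    have h4 := hdiv (c := 40) (by norm_num) e3 (by rw [e2])
    exact absurd (h3.trans h4) (by decide)
  · obtain ⟨e1, e2, e3⟩ := h
    have hp2 := hprime (r := 7) (by norm_num) (j := 1) (by rw [e2]; norm_num) (by norm_num)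
    have h4 := hdiv (c := 63) (by norm_num) e3 (by rw [e2])
    exact p7 H e (by omega) (by omega) h0 hm e1 e2 (Or.inr e3) (h4.trans (by decide))
  · obtain ⟨e1, e2, e3⟩ := h
    have hp2 := hprime (r := 7) (by norm_num) (j := 1) (by rw [e2]; norm_num) (by norm_num)
    have h4 := hdiv (c := 126) (by norm_num) e3 (by rw [e2])
    exact p7 H e (by omega) (by omega) h0 hm e1 e2 (Or.inl e3) h4

end Cfsg.Agent.H192.Ht.ASeven
end

private theorem dce_3c735b4a1fcd : _root_.True := by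
  try have : _root_.True := by simp only [_root_.Cfsg.Agent.H953.HTA.ok.eq_1]
  try have : _root_.True := by simp only [_root_.Cfsg.Agent.H953.HTA.loop.eq_def]
  try have : _root_.True := by simp only [_root_.Cfsg.Agent.H953.HTA.loop.eq_2]
  try have : _root_.True := by simp only [_root_.Cfsg.Agent.H735.HT.exA.eq_1]
  try have : _root_.True := by simp only [_root_.Cfsg.Agent.H953.HTA.loop.eq_1]
  try have : _root_.True := by simp only [_root_.Cfsg.Agent.H192.Ht.ASeven.ex.eq_1]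
  exact _root_.True.intro
end

-- part: H953/HTS/Tools
section
prune_inst 0x2
set_option linter.all false
open scoped Cfsg.Agent.FastGrp

/-!
# S3512: tools for the sporadic rows (helper953)

* `mod_dvd` : if `r` divides `|G|` exactly once and centralizers of elements of order `r` have order `r`, then for every
  subgroup `H` with `r ∣ |H|`, `(|H| / r) % r` divides `(|G| / r) % r`.
* `no_fixed` : `L` fixes no nonzero vector.
* `center_bot` : over `𝔽₂` the centre of `L` is trivial.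
* `exists_mul` : the stabilizers in `L` have index dividing `m`.
-/

set_option autoImplicit false

universe u w

namespace Cfsg.Agent.H953.HTS

open Subgroup

section Grp

variable {G : Type u} [Group G] [Finite G] {r : ℕ} [hr : Fact r.Prime]

theorem mod_eq (P : Sylow r G) {e : ℕ} (hN : Nat.card (normalizer ((P : Subgroup G) : Set G)) = r * e) (he : e < r) :
    (Nat.card G / r) % r = e := by
  have h1 : Nat.card (Sylow r G) ≡ 1 [MOD r] := card_sylow_modEq_one r G
  rw [P.card_eq_index_normalizer] at h1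
  have h2 := (normalizer ((P : Subgroup G) : Set G)).index_mul_card
  rw [hN] at h2
  have h3 : Nat.card G / r = (normalizer ((P : Subgroup G) : Set G)).index * e := by
    rw [← h2, show (normalizer ((P : Subgroup G) : Set G)).index * (r * e) =
      r * ((normalizer ((P : Subgroup G) : Set G)).index * e) by ring, Nat.mul_div_cancel_left _ hr.out.pos]
  rw [h3]
  have h4 := h1.mul_right e
  rw [one_mul] at h4
  exact Eq.trans h4 (Nat.mod_eq_of_lt he)

end Grp

section Lin

open Cfsg.Agent.H828.HT Cfsg.Agent.H742.HT Cfsg.Agent.H192.Ht Cfsg.Agent.H953.HTA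

variable {p : ℕ} [hp : Fact p.Prime] {K : Type w} [Field K] {V : Type u} [AddCommGroup V] [Module (ZMod p) V] [Finite V]
    [Module K V] {G L : Subgroup (V ≃ₗ[ZMod p] V)} {h : ℕ}

end Lin

end Cfsg.Agent.H953.HTS
end

-- part: H953/HTS/Kill
section
prune_inst 0x2
set_option linter.all false
open scoped Cfsg.Agent.FastGrp

/-!
# S3512: `G₂(4)`, `Suz`, `p = 3`, `m = 7280` (helper953)
-/

set_option autoImplicit false

universe u w

namespace Cfsg.Agent.H953.HTS

open Subgroup Module Cfsg.Agent.H828.HT Cfsg.Agent.H742.HT Cfsg.Agent.H192.Ht Cfsg.Agent.H953.HTA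

variable {p : ℕ} [hp : Fact p.Prime] {K : Type w} [Field K] {V : Type u} [AddCommGroup V] [Module (ZMod p) V] [Finite V]
    [Module K V] {G L : Subgroup (V ≃ₗ[ZMod p] V)} {h : ℕ}

/-- a Frobenius group `13:3` -/
theorem exists_frob {T : Type u} [Group T] [Finite T] (h169 : ¬ 13 ^ 2 ∣ Nat.card T)
    (hmod : (Nat.card T / 13) % 13 = 6) {R : Subgroup T} (hR : Nat.card R = 13)
    (hC : Nat.card (centralizer (R : Set T)) = 13) :
    ∃ x t : T, ∃ k : ℕ, orderOf x = 13 ∧ t ^ 3 = 1 ∧ t * x * t⁻¹ = x ^ k ∧ t * x ≠ x * t := by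
  have hr : Fact (Nat.Prime 13) := ⟨by norm_num⟩
  have h3 : Fact (Nat.Prime 3) := ⟨by norm_num⟩
  obtain ⟨x, hx⟩ := exists_prime_orderOf_dvd_card' (G := R) 13 (by rw [hR])
  have hx' : orderOf (x : T) = 13 := by rw [Subgroup.orderOf_coe, hx]
  have hRx : zpowers (x : T) = R := by
    refine Subgroup.eq_of_le_of_card_ge ((zpowers_le).2 x.2) ?_
    rw [Nat.card_zpowers, hx', hR]
  have h1 := Cfsg.Agent.H428.SylNorm.card_normalizer_dvd hr.out hR
  have h13 : 13 ∣ Nat.card T := by rw [← hR]; exact card_subgroup_dvd_card R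
  obtain ⟨e, he⟩ : 13 ∣ Nat.card (normalizer (R : Set T)) := by
    conv_lhs => rw [← hR]
    exact card_dvd_of_le le_normalizer
  have h2 : e ∣ 12 := by
    rw [hC, he] at h1
    exact Nat.dvd_of_mul_dvd_mul_left (by norm_num) h1
  have h5 : (Nat.card T).factorization 13 = 1 := by
    have h6 := (hr.out.dvd_iff_one_le_factorization Nat.card_pos.ne').1 h13
    have h7 : ¬ 2 ≤ (Nat.card T).factorization 13 := fun h8 =>
      h169 ((hr.out.pow_dvd_iff_le_factorization Nat.card_pos.ne').2 h8)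
    omega
  let SQ : Sylow 13 T := Sylow.ofCard R (by rw [hR, h5, pow_one])
  have h6 := mod_eq SQ he (lt_of_le_of_lt (Nat.le_of_dvd (by norm_num) h2) (by norm_num))
  rw [hmod] at h6
  obtain ⟨t, ht⟩ := exists_prime_orderOf_dvd_card' (G := normalizer (R : Set T)) 3 (by
    rw [he, ← h6]; norm_num)
  have ht3 : orderOf (t : T) = 3 := by rw [Subgroup.orderOf_coe, ht]
  have h7 : (t : T) * x * (t : T)⁻¹ ∈ zpowers (x : T) := by
    rw [hRx]
    exact (mem_normalizer_iff.1 t.2 x).1 x.2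
  obtain ⟨k, hk⟩ := mem_powers_iff_mem_zpowers.2 h7
  refine ⟨x, t, k, hx', by rw [← ht3, pow_orderOf_eq_one], hk.symm, ?_⟩
  intro hc
  have h8 : (t : T) ∈ centralizer (R : Set T) := by
    rw [mem_centralizer_iff]
    intro y hy
    have hy' : y ∈ zpowers (x : T) := by rw [hRx]; exact hy
    obtain ⟨j, rfl⟩ := hy'
    exact ((show Commute (t : T) x from hc).zpow_right j).symm
  have h9 : orderOf (⟨(t : T), h8⟩ : centralizer (R : Set T)) ∣ Nat.card (centralizer (R : Set T)) :=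
    orderOf_dvd_natCard _
  rw [hC, Subgroup.orderOf_mk, ht3] at h9
  exact absurd h9 (by norm_num)

theorem kill13 (H : QL p K V G L h) (hn : finrank K V = 12) (hq : Nat.card K = 3) {m : ℕ} (hm : m * h = Nat.card G)
    (hm7 : m = 7280) (h169 : ¬ 13 ^ 2 ∣ Nat.card G)
    (hfr : ∃ x t : L ⧸ Subgroup.center L, ∃ k : ℕ, orderOf x = 13 ∧ t ^ 3 = 1 ∧ t * x * t⁻¹ = x ^ k ∧ t * x ≠ x * t) :
    False := by
  have hp3 : p = 3 := by
    obtain ⟨k, hk, -⟩ := QN.exists_card H
    rw [hq] at hk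
    exact (Nat.prime_eq_prime_of_dvd_pow (m := k) Nat.prime_three hp.out (by rw [← hk])).symm
  subst hp3
  subst hm7
  have hV : Nat.card V = 3 ^ 12 := by rw [QN.card_V H, hq, hn]
  have hfin : Finite L := by
    have : Finite (V ≃ₗ[ZMod 3] V) := Finite.of_injective (fun f : V ≃ₗ[ZMod 3] V => (f : V → V)) DFunLike.coe_injective
    infer_instance
  have hr : Fact (Nat.Prime 13) := ⟨by norm_num⟩
  obtain ⟨v, hv⟩ := QN.exists_ne H
  have h0 : 0 < h := Cfsg.Agent.H19.HT.h_pos H.half hv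
  obtain ⟨x, t, k, hx, ht, hxt, hne⟩ := hfr
  have hc13 : Nat.Coprime 13 (Nat.card (Subgroup.center L)) :=
    Lift.coprime_center H (by norm_num) (by rw [hn]; norm_num)
  have hc3 : Nat.Coprime 3 (Nat.card (Subgroup.center L)) :=
    Lift.coprime_center H (by norm_num) (by rw [hq]; norm_num)
  obtain ⟨a, ha, hax⟩ := Lift.lift_pow hc13 x (by rw [← hx, pow_orderOf_eq_one])
  obtain ⟨b, hb, hbt⟩ := Lift.lift_pow hc3 t ht
  have hab : b * a * b⁻¹ = a ^ k := Lift.lift_rel hc13 ha (by rw [hax, hbt]; exact hxt)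
  have ha1 : a ≠ 1 := by
    rintro rfl
    rw [QuotientGroup.mk_one] at hax
    rw [← hax, orderOf_one] at hx
    omega
  have hba : b * a ≠ a * b := by
    intro h1
    apply hne
    rw [← hax, ← hbt, ← QuotientGroup.mk_mul, h1, QuotientGroup.mk_mul]
  have h13 : ¬ 13 ∣ h := by
    rintro ⟨j, rfl⟩
    apply h169
    rw [← hm]
    exact ⟨560 * j, by ring⟩
  have hfpf : ∀ w : V, (a : V ≃ₗ[ZMod 3] V) w = w → w = 0 := fun w hw =>
    fpf_of_not_dvd H.half h13 (H.le a.2) (by rw [← Subgroup.coe_pow, ha]; rfl) (fun h1 => ha1 (Subtype.ext h1)) hw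
  obtain ⟨c, hc, hc1, -⟩ := frob' H (by norm_num : Nat.Prime 13) (by norm_num) ha ha1 hab (e := 3) (by norm_num) hb (by
    intro j hj hj3
    have hj' : j = 1 ∨ j = 2 := by omega
    rcases hj' with rfl | rfl
    · rw [pow_one]; exact hba
    · intro h1
      apply hba
      have h2 : Commute (b ^ 2) a := h1
      have h3 : b = b ^ 2 * b ^ 2 := by
        rw [← pow_add]
        show b = b ^ (3 + 1)
        rw [pow_add, hb, one_mul, pow_one]
      rw [h3]
      exact (h2.mul_left h2).eq) hfpf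
  have hc4 : c = 4 := by omega
  have h4 := Fus.fus_fx H.half h0 hm (i := 73) (by rw [hV]; norm_num) (s := 3) (by norm_num) (H.le b.2) (k := 1) (by
    rw [pow_one, ← Subgroup.coe_pow, hb]; rfl)
  rw [hc1, hq, hc4] at h4
  norm_num at h4

end Cfsg.Agent.H953.HTS
end

-- part: H953/HTS/Rows
section
set_option linter.all false
open scoped Cfsg.Agent.FastGrp

/-!
# S3512: `G₂(4)`, `Suz`, `p = 3`, `m = 7280` (helper953)
-/

set_option autoImplicit false

universe u w

namespace Cfsg.Agent.H953.HTS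

open Subgroup Module Cfsg.Agent.H828.HT Cfsg.Agent.H742.HT Cfsg.Agent.H192.Ht Cfsg.Agent.H953.HTA

variable {p : ℕ} [hp : Fact p.Prime] {K : Type w} [Field K] {V : Type u} [AddCommGroup V] [Module (ZMod p) V] [Finite V]
    [Module K V] {G L : Subgroup (V ≃ₗ[ZMod p] V)} {h : ℕ}

theorem kill13' (H : QL p K V G L h) (hn : finrank K V = 12) (hq : Nat.card K = 3) (hm : 7280 * h = Nat.card G)
    {o : ℕ} (ho : Nat.card (L ⧸ Subgroup.center L) = o) (hA : Nat.card (MulAut (L ⧸ Subgroup.center L)) ∣ 2 * o)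
    (h169 : ¬ 13 ^ 2 ∣ o) (hmod : (o / 13) % 13 = 6)
    (hC : ∃ x : L ⧸ Subgroup.center L, orderOf x = 13 ∧
      Nat.card (centralizer ({x} : Set (L ⧸ Subgroup.center L))) = 13) : False := by
  have hfin : Finite L := by
    have : Finite (V ≃ₗ[ZMod p] V) := Finite.of_injective (fun f : V ≃ₗ[ZMod p] V => (f : V → V)) DFunLike.coe_injective
    infer_instance
  obtain ⟨x, hx, hCx⟩ := hC
  have hR : Nat.card (zpowers x) = 13 := by rw [Nat.card_zpowers, hx]
  have hCR : Nat.card (centralizer (zpowers x : Set (L ⧸ Subgroup.center L))) = 13 := by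
    rw [← hCx]
    congr 2
    rw [zpowers_eq_closure, centralizer_closure]
  refine kill13 H hn hq hm rfl ?_ (exists_frob (by rwa [ho]) (by rwa [ho]) hR hCR)
  intro h1
  have h2 := h1.trans (QN.card_G_dvd H)
  rw [hq] at h2
  have h3 : 13 ^ 2 ∣ 4 * o := by
    refine h2.trans ((Nat.mul_dvd_mul_left 2 hA).trans ?_)
    rw [← mul_assoc]
    norm_num
  exact h169 (Nat.Coprime.dvd_of_dvd_mul_left (by norm_num) h3)

/-- **`G₂(4)`** -/
theorem g24 (H : QL p K V G L h) (hT : H912.Bd.IsG2 4 (L ⧸ Subgroup.center L)) (hn : finrank K V = 12)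
    (hq : Nat.card K = 3) (hm : 7280 * h = Nat.card G) : False := by
  refine kill13' H hn hq hm (Cfsg.Agent.H530.HT.card_g24 hT) ?_ (by norm_num) (by norm_num) ?_
  · rw [Cfsg.Agent.H93.UG.aut_g24 hT]
  · obtain ⟨F, iF, iT, hF, ⟨e⟩⟩ := hT
    obtain ⟨R, hR, hCR⟩ := Cfsg.Agent.H834.Sax.sc13_g24 hF
    have : Fact (Nat.Prime 13) := ⟨by norm_num⟩
    have hfin : Finite R := Nat.finite_of_card_ne_zero (by rw [hR]; norm_num)
    obtain ⟨x, hx⟩ := exists_prime_orderOf_dvd_card' (G := R) 13 (by rw [hR])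
    have hx' : orderOf (x : Cfsg.Lie.chevG2.group F) = 13 := by rw [Subgroup.orderOf_coe, hx]
    have hRx : zpowers (x : Cfsg.Lie.chevG2.group F) = R := by
      refine Subgroup.eq_of_le_of_card_ge ((zpowers_le).2 x.2) ?_
      rw [Nat.card_zpowers, hx', hR]
    refine ⟨e.symm x, by rw [MulEquiv.orderOf_eq, hx'], ?_⟩
    rw [Cfsg.Agent.H208.DS.card_cent_congr e, e.apply_symm_apply]
    have h1 : centralizer ({(x : Cfsg.Lie.chevG2.group F)} : Set (Cfsg.Lie.chevG2.group F)) = R := by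
      rw [← centralizer_closure, ← zpowers_eq_closure, hRx, hCR]
    rw [h1, hR]

/-- **`Suz`** -/
theorem suz (H : QL p K V G L h) (hT : Spor.IsoSuz (L ⧸ Subgroup.center L)) (hn : finrank K V = 12)
    (hq : Nat.card K = 3) (hm : 7280 * h = Nat.card G) : False := by
  obtain ⟨e⟩ := hT
  have ho : Nat.card Spor.Suz = 448345497600 := S1694.result.2
  have hfin : Finite Spor.Suz := Nat.finite_of_card_ne_zero (by rw [ho]; norm_num)
  refine kill13' H hn hq hm (o := 448345497600) ?_ ?_ (by norm_num) (by norm_num) ?_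
  · rw [Nat.card_congr e.toEquiv, ho]
  · rw [Nat.card_congr (MulAut.congr e).toEquiv]
    have h1 := H713.card_mulAut_dvd (S := Spor.Suz) (o := 2) (by rw [S2074.result])
    rwa [ho] at h1
  · have : Fact (Nat.Prime 13) := ⟨by norm_num⟩
    obtain ⟨x, hx⟩ := exists_prime_orderOf_dvd_card' (G := Spor.Suz) 13 (by rw [ho]; norm_num)
    refine ⟨e.symm x, by rw [MulEquiv.orderOf_eq, hx], ?_⟩
    rw [Cfsg.Agent.H208.DS.card_cent_congr e, e.apply_symm_apply, Cfsg.Agent.H153.Zeros.card_cent_suz hx]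

end Cfsg.Agent.H953.HTS
end

-- part: H19/HT/EOneP
section
set_option linter.all false
open scoped Cfsg.Agent.FastGrp

/-!
# S3512, no components (`E1P`; helper19)
-/

set_option autoImplicit false
set_option linter.style.haveILetI false
set_option linter.unusedSectionVars false
set_option linter.unusedVariables false

open scoped Classical
open Cfsg.Agent.H828.HT Cfsg.Agent.H960.HT Cfsg.Agent.H662.HT Cfsg.Agent.H583.HT Cfsg.Agent.H192.Ht

namespace Cfsg.Agent.H19.HT

universe u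

variable {p : ℕ} [Fact p.Prime] {V : Type u} [AddCommGroup V] [Module (ZMod p) V] [Finite V]
  {G : Subgroup (V ≃ₗ[ZMod p] V)} {h : ℕ}

theorem ge_three_of_sym {a : ℕ} {F : Subgroup G} (H : Sym 2 a F V) : 3 ≤ p := by
  haveI := H.nt
  have hp2 : p ≠ 2 := by
    rintro rfl
    apply H.cop
    rw [card_eq_pow (p := 2) V]
    exact dvd_pow_self 2 (Module.finrank_pos).ne'
  have := (Fact.out : p.Prime).two_le
  omega

theorem alg_eq_env (A : Subgroup (V ≃ₗ[ZMod p] V)) : alg A = env A := by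
  unfold alg env
  congr 1
  ext f
  constructor
  · rintro ⟨a, ha, rfl⟩; exact ⟨a, ha, rfl⟩
  · rintro ⟨a, ha, rfl⟩; exact ⟨a, ha, rfl⟩

/-- the symplectic type group of width two -/
theorem four_case [Nontrivial V] (hirr : Irr G) (hhom : AllHomog G) (hh : Half G h) (h2 : 2 ≤ h)
    (hG : p ∣ Nat.card G) {A F : Subgroup G} (hA : A.Normal) (hF : F.Normal) (hAF : A ≤ F)
    (hAc : ∀ x ∈ A, ∀ y ∈ A, x * y = y * x) (hcyc : IsCyclic A)
    (hsemi : ∀ z ∈ A, z ≠ 1 → ∀ v : V, z • v = v → v = 0)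
    (hcen : ∀ x ∈ F, ∀ y ∈ A, x * y = y * x)
    (hC : ∀ g : G, (∀ x ∈ F, g * x = x * g) → g ∈ A) (H : Sym 2 2 F V)
    (hZ : (Subgroup.center F).map F.subtype = A) (hcard : Nat.card F = Nat.card A * 2 ^ (2 * 2)) (hp3 : p = 3)
    (h4 : ¬ 4 ∣ Nat.card A) : Tra G := by
  have hp : 3 ≤ p := by omega
  obtain ⟨E, hE, hEN, HE, hzE⟩ := Cfsg.Agent.H583.HT.two_part hA hF H hZ h4
  have hcardE := HE.card
  rw [hzE] at hcardE
  have hAE : Nat.card (A ⊓ E : Subgroup G) ≤ 2 := by
    rw [← hzE]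
    refine Nat.card_le_card_of_injective
      (fun x : (A ⊓ E : Subgroup G) => (⟨⟨x.1, x.2.2⟩, Subgroup.mem_center_iff.2 fun y => Subtype.ext ?_⟩ :
        Subgroup.center E)) ?_
    · exact hcen y.1 (hEN y.2) x.1 x.2.1
    · intro x y hxy
      apply Subtype.ext
      exact congrArg (fun z : Subgroup.center E => ((z : E) : G)) hxy
  have hNE := mem_sup_of_card hA hAF hEN hcard hcardE hAE
  have HE' : Sym 2 2 (up E) V := sym_up HE
  have hzE' : Nat.card (Subgroup.center (up E)) = 2 := by rw [card_center_up, hzE]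
  obtain ⟨-, hsol, Q, m, hQ1, hVQ, hm, hm1, hm2, hm3, hm4⟩ := two_num' (up_le E) (up_normal hE) hh h2 HE' hzE' le_rfl
  obtain ⟨t, ht, htE, hcl, hinv⟩ := Cfsg.Agent.H669.HT.exists_frame hp HE' hzE' hsol
  have hEf : Ef G (up A) (up E) t :=
    { frame := ⟨ht.sq, ht.anti, ht.prod⟩
      mem := htE
      cl := hcl
      inv := hinv
      EG := up_le E
      AG := up_le A
      nE := up_normal hE
      nA := up_normal hA
      semi := by
        intro a ha ha1 v hv
        obtain ⟨y, hy, rfl⟩ := mem_up.1 ha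
        exact hsemi y hy (fun h => ha1 (by rw [h]; rfl)) v hv
      cenA := comm_up fun x hx y hy => (hcen y (hEN hy) x hx).symm
      cen := by
        intro g hg hgE hgA
        refine (coe_mem_up (x := ⟨g, hg⟩)).2 (hC _ fun x hx => ?_)
        obtain ⟨y, hy, c, hc', rfl⟩ := Subgroup.mem_sup_of_normal_right.1 (hNE hx)
        have c1 : Commute (⟨g, hg⟩ : G) y := Subtype.ext (hgE y (coe_mem_up.2 hy))
        have c2 : Commute (⟨g, hg⟩ : G) c := Subtype.ext (hgA c (coe_mem_up.2 hc'))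
        exact c1.mul_right c2 }
  obtain ⟨K, iK, iM, χ, σ, hK⟩ := Cfsg.Agent.H768.HT.exists_field hirr (up_le A) (up_normal hA) (comm_up hAc)
    (hhom _ (up_le A) (up_normal hA))
  have hQ' : Q = 9 ∨ 32 ∣ 10 * (Q - 1) := by
    rcases hm4 with h5 | h5
    · exact Or.inl h5
    · exact Or.inr (h5.trans hm1)
  by_cases hd : p ∣ Nat.card (G ⊓ Subgroup.centralizer ((up A : Subgroup (V ≃ₗ[ZMod p] V)) : Set (V ≃ₗ[ZMod p] V)) :
      Subgroup (V ≃ₗ[ZMod p] V))
  · have h6 := hEf.lin hK hh hp3 hd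
    have h7 : Q = 9 := by
      rcases hQ' with h5 | h5
      · exact h5
      · exfalso
        have hp3' : Nat.Prime 3 := by norm_num
        have hV3 : Nat.card V = 3 ^ Module.finrank (ZMod p) V := by
          rw [card_eq_pow (p := p) V]
          congr 1
        obtain ⟨b, -, hb⟩ := (Nat.dvd_prime_pow hp3').1 (show Q ∣ 3 ^ Module.finrank (ZMod p) V from by
          rw [← hV3, hVQ]; exact dvd_pow_self Q (by norm_num))
        rw [hb] at h5 hVQ hQ1
        have h8 := four_dvd_of h5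
        have hb0 : b ≠ 0 := by
          rintro rfl
          norm_num at hQ1
        have h9 : 4 ≤ b := by omega
        have h10 : 3 ^ 4 ≤ 3 ^ b := Nat.pow_le_pow_right (by norm_num) h9
        have h11 : (3 ^ 4) ^ 2 ≤ (3 ^ b) ^ 2 := Nat.pow_le_pow_left h10 2
        omega
    exact hEf.tra HE' hzE' hh hp3 hG hhom (by rw [hVQ, h7]; norm_num)
  · exact (hEf.semil hK hh hp3 hG hd hVQ hQ').elim

/-- **No components.** -/
theorem e1P : E1P.{u} := by
  intro p _ V _ _ _ G h hh h2 hG hirr hhom hcomp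
  haveI := nontrivial_of_dvd hG
  have hq : QPr G := qpr_of_hom hirr hhom
  obtain ⟨A, F, hA, hF, hAF, hAc, hmax, hcyc, hsemi, hor⟩ := structure_F' hq hh h2
  rcases hor with ⟨L, hL, hLb, hLp, hLK⟩ | ⟨hcen, hcomm, hsq, hC, hor⟩
  · obtain ⟨K, hK, -⟩ := exists_component hL hLb hLp hLK
    exact absurd hK (hcomp K)
  rcases hor with rfl | ⟨a, ha, H, hZ, hcard, rfl | ⟨rfl, hp3, h4⟩⟩
  · -- `F = A`
    right
    refine semi_of_self_cent hirr (up F) (comm_up hAc) (up_normal hA) ?_ ?_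
    · intro k hk hk0
      have h5 := Cfsg.Agent.H768.HT.ker_eq_bot hirr (up_normal hA) (comm_up hAc) (hhom _ (up_le F) (up_normal hA))
        (e := k) (by rw [← alg_eq_env]; exact hk) hk0
      exact LinearMap.ker_eq_bot.1 h5
    · intro g hg hgx
      refine (coe_mem_up (x := ⟨g, hg⟩)).2 (hC _ fun x hx => ?_)
      exact Subtype.ext (hgx x (coe_mem_up.2 hx))
  · -- `e = 2`
    left
    obtain ⟨K, iK, iM, χ, σ, hK⟩ := Cfsg.Agent.H768.HT.exists_field hirr (up_le A) (up_normal hA) (comm_up hAc)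
      (hhom _ (up_le A) (up_normal hA))
    have E : ETwo G (up A) (up F) := etwo_of hA hF hAF hAc hmax hcen hcomm hC hcyc hsemi hsq (by
      rw [hcard]; ring)
    exact etwo_tra E hK hh (ge_three_of_sym H) hG
  · left
    exact four_case hirr hhom hh h2 hG hA hF hAF hAc hcyc hsemi hcen hC H hZ hcard hp3 h4

end Cfsg.Agent.H19.HT
end

-- part: H337/HT/PslP
section
prune_inst 0x11306144746200000000059233002004340001b000200001e90003420b09c322804029400a801104126c228110010000020000d0020000000a0004000004002080aa500033340d04240007801004000000000000000000000000000000000004000000002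
set_option linter.all false
open scoped Cfsg.Agent.FastGrp

/-!
# S3512, quasisimple rows with `p ∣ |L|`: `PSL` in cross characteristic, degree at least `13`

From `H348/HT/Psl.lean` (the row of S3540) with the sieves of `H337/HT/{NumP,TabP}.lean`.
-/

set_option autoImplicit false
set_option maxRecDepth 10000

universe u v

namespace Cfsg.Agent.H337.HT.PslP

open Cfsg Cfsg.Agent.H915.LD Cfsg.Agent.H337.HT Cfsg.Agent.H912.Bd Matrix Cfsg.Agent.H348.HT

/-! ### Inequalities -/

theorem pow7 {k : ℕ} (hk : 53 ≤ k) : 8 * (2 * k + 2) ^ 7 ≤ 2 ^ k := by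
  induction k, hk using Nat.le_induction with
  | base => norm_num
  | succ k hk ih =>
    have h1 : (19 * (2 * (k + 1) + 2)) ^ 7 ≤ (20 * (2 * k + 2)) ^ 7 := Nat.pow_le_pow_left (by omega) 7
    rw [mul_pow, mul_pow] at h1
    have h2 : 2 ^ (k + 1) = 2 * 2 ^ k := by rw [← pow_succ']
    rw [h2]
    have h3 : 19 ^ 7 * (8 * (2 * (k + 1) + 2) ^ 7) ≤ 19 ^ 7 * (2 * 2 ^ k) := by
      calc 19 ^ 7 * (8 * (2 * (k + 1) + 2) ^ 7) = 8 * (19 ^ 7 * (2 * (k + 1) + 2) ^ 7) := by ring
        _ ≤ 8 * (20 ^ 7 * (2 * k + 2) ^ 7) := Nat.mul_le_mul_left _ h1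
        _ = 20 ^ 7 * (8 * (2 * k + 2) ^ 7) := by ring
        _ ≤ 20 ^ 7 * 2 ^ k := Nat.mul_le_mul_left _ ih
        _ ≤ 19 ^ 7 * (2 * 2 ^ k) := by
          generalize 2 ^ k = x
          norm_num only []
          omega
    exact Nat.le_of_mul_le_mul_left h3 (by norm_num)

/-- `PSL₂(s)`, `s ≥ 107` -/
theorem ineq_two {s f n : ℕ} (hs : 107 ≤ s) (hf : f ^ 2 ≤ s) (hn : (s - 1) / 2 ≤ n) :
    2 * (f * (s * (s ^ 2 - 1))) ^ 2 ≤ 2 ^ (n - 2) := by
  have h1 : (f * (s * (s ^ 2 - 1))) ^ 2 ≤ s ^ 7 := by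
    calc (f * (s * (s ^ 2 - 1))) ^ 2 = f ^ 2 * (s * (s ^ 2 - 1)) ^ 2 := by ring
      _ ≤ s * (s * s ^ 2) ^ 2 :=
        Nat.mul_le_mul hf (Nat.pow_le_pow_left (Nat.mul_le_mul_left _ (Nat.sub_le _ _)) 2)
      _ = s ^ 7 := by ring
  have h2 : s ≤ 2 * ((s - 1) / 2) + 2 := by omega
  have h3 : s ^ 7 ≤ (2 * ((s - 1) / 2) + 2) ^ 7 := Nat.pow_le_pow_left h2 7
  have h4 := pow7 (k := (s - 1) / 2) (by omega)
  have h5 : 2 ^ ((s - 1) / 2) ≤ 2 ^ n := Nat.pow_le_pow_right (by norm_num) (by omega)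
  have h6 : 2 ^ n = 4 * 2 ^ (n - 2) := by
    rw [show (4 : ℕ) = 2 ^ 2 by norm_num, ← pow_add]; congr 1; omega
  omega

theorem cube_le {s : ℕ} (hs : 8 ≤ s) : s ^ 3 ≤ 2 ^ (s + 1) := by
  induction s, hs using Nat.le_induction with
  | base => norm_num
  | succ k hk ih =>
    rw [pow_succ 2 (k + 1)]
    nlinarith only [hk, ih, Nat.mul_le_mul hk hk, Nat.mul_le_mul hk (Nat.mul_le_mul hk hk)]

theorem cube_le' {s : ℕ} (hs : 5 ≤ s) : s ^ 3 ≤ 2 ^ (s + 2) := by
  by_cases h : 8 ≤ s
  · exact (cube_le h).trans (Nat.pow_le_pow_right (by norm_num) (by omega))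
  · interval_cases s <;> norm_num

theorem ineq_m3 {s : ℕ} (hs : 8 ≤ s) : 2 * s ^ 20 ≤ 2 ^ (s ^ 2 - 3) := by
  have h1 := cube_le hs
  have h2 : (s ^ 3) ^ 20 ≤ (2 ^ (s + 1)) ^ 20 := Nat.pow_le_pow_left h1 20
  have h3 : (2 * s ^ 20) ^ 3 ≤ (2 ^ (s ^ 2 - 3)) ^ 3 := by
    calc (2 * s ^ 20) ^ 3 = 2 ^ 3 * (s ^ 3) ^ 20 := by ring
      _ ≤ 2 ^ 3 * (2 ^ (s + 1)) ^ 20 := Nat.mul_le_mul_left _ h2
      _ = 2 ^ (3 + (s + 1) * 20) := by rw [← pow_mul, ← pow_add]
      _ ≤ 2 ^ ((s ^ 2 - 3) * 3) := Nat.pow_le_pow_right (by norm_num) (by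
        have : 8 * s ≤ s ^ 2 := by nlinarith only [hs]
        have h4 : s = 8 ∨ 9 ≤ s := by omega
        rcases h4 with rfl | h4
        · norm_num
        · have : 9 * s ≤ s ^ 2 := by nlinarith only [h4]
          omega)
      _ = _ := by rw [pow_mul]
  exact (Nat.pow_le_pow_iff_left (by norm_num)).1 h3

theorem exp4 {s j : ℕ} (hs : 5 ≤ s) : (s + 2) * (2 * (j + 4) ^ 2 + 2) + 12 ≤ 3 * s ^ (j + 3) := by
  induction j with
  | zero =>
    have h1 : 5 * 5 * s ≤ s * s * s := Nat.mul_le_mul_right _ (Nat.mul_le_mul hs hs)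
    have h2 : s ^ (0 + 3) = s * s * s := by ring
    rw [h2]
    omega
  | succ j ih =>
    have h1 : s ^ (j + 1 + 3) = s * s ^ (j + 3) := by ring
    rw [h1]
    have h2 : 5 * s ^ (j + 3) ≤ s * s ^ (j + 3) := Nat.mul_le_mul_right _ hs
    have h3 : (s + 2) * (2 * (j + 1 + 4) ^ 2 + 2) ≤ (s + 2) * (5 * (2 * (j + 4) ^ 2 + 2)) :=
      Nat.mul_le_mul_left _ (by nlinarith only [])
    have h4 : (s + 2) * (5 * (2 * (j + 4) ^ 2 + 2)) = 5 * ((s + 2) * (2 * (j + 4) ^ 2 + 2)) := by ring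
    omega

theorem exp3 {j : ℕ} : 5 * (2 * (j + 6) ^ 2 + 2) + 12 ≤ 3 * 3 ^ (j + 5) := by
  induction j with
  | zero => norm_num
  | succ j ih => rw [pow_succ 3 (j + 5)]; nlinarith

theorem exp44 {j : ℕ} : 4 * (2 * (j + 4) ^ 2 + 2) + 11 ≤ 3 * 4 ^ (j + 3) := by
  induction j with
  | zero => norm_num
  | succ j ih => rw [pow_succ 4 (j + 3)]; nlinarith

theorem exp2 {j : ℕ} : 2 * (2 * (j + 8) ^ 2 + 3) + 9 ≤ 3 * 2 ^ (j + 7) := by
  induction j with
  | zero => norm_num
  | succ j ih => rw [pow_succ 2 (j + 7)]; nlinarith only [ih]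

/-- the exceptional pairs -/
def E : Set (ℕ × ℕ) := {(3, 2), (3, 3), (3, 4), (3, 5), (3, 7), (4, 2), (4, 3), (5, 2), (5, 3), (6, 2), (7, 2)}

theorem pow_ineq {s m : ℕ} (hs : 2 ≤ s) (hm : 3 ≤ m) (h6 : s ≠ 6) (h : (m, s) ∉ E) :
    2 * s ^ (2 * m ^ 2 + 2) ≤ (if s % 2 = 0 ∧ s ≤ 4 then 3 else 2) ^ (s ^ (m - 1) - 3) := by
  simp only [E, Set.mem_insert_iff, Set.mem_singleton_iff, Prod.mk.injEq, not_or] at h
  obtain ⟨a32, a33, a34, a35, a37, a42, a43, a52, a53, a62, a72⟩ := h
  by_cases h8 : 5 ≤ s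
  · clear a32 a33 a34 a42 a43 a52 a53 a62 a72
    rw [if_neg (fun e => absurd (h8.trans e.2) (by decide))]
    by_cases h3 : m = 3
    · have b5 : s ≠ 5 := fun e => a35 ⟨h3, e⟩
      have b7 : s ≠ 7 := fun e => a37 ⟨h3, e⟩
      clear a35 a37
      subst h3
      exact ineq_m3 (by omega)
    · clear a35 a37 h6
      obtain ⟨j, rfl⟩ := Nat.exists_eq_add_of_le' (show 4 ≤ m by omega)
      have h1 := cube_le' h8
      have h2 := exp4 (j := j) h8
      have h3 : (2 * s ^ (2 * (j + 4) ^ 2 + 2)) ^ 3 ≤ (2 ^ (s ^ (j + 4 - 1) - 3)) ^ 3 := by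
        calc (2 * s ^ (2 * (j + 4) ^ 2 + 2)) ^ 3 = 2 ^ 3 * (s ^ 3) ^ (2 * (j + 4) ^ 2 + 2) := by
              rw [mul_pow, ← pow_mul, ← pow_mul, mul_comm 3]
          _ ≤ 2 ^ 3 * (2 ^ (s + 2)) ^ (2 * (j + 4) ^ 2 + 2) :=
              Nat.mul_le_mul_left _ (Nat.pow_le_pow_left h1 _)
          _ = 2 ^ (3 + (s + 2) * (2 * (j + 4) ^ 2 + 2)) := by rw [← pow_mul, ← pow_add]
          _ ≤ 2 ^ ((s ^ (j + 4 - 1) - 3) * 3) := Nat.pow_le_pow_right (by norm_num) (by
            have : j + 4 - 1 = j + 3 := by omega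
            rw [this]; omega)
          _ = _ := by rw [pow_mul]
      exact (Nat.pow_le_pow_iff_left (by norm_num)).1 h3
  · have h4 : s = 2 ∨ s = 3 ∨ s = 4 := by clear * - hs h8; omega
    clear a35 a37 h6 h8 hs
    rcases h4 with rfl | rfl | rfl
    · rw [if_pos (by norm_num)]
      have b3 : m ≠ 3 := fun e => a32 ⟨e, rfl⟩
      have b4 : m ≠ 4 := fun e => a42 ⟨e, rfl⟩
      have b5 : m ≠ 5 := fun e => a52 ⟨e, rfl⟩
      have b6 : m ≠ 6 := fun e => a62 ⟨e, rfl⟩
      have b7 : m ≠ 7 := fun e => a72 ⟨e, rfl⟩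
      clear a32 a33 a34 a42 a43 a52 a53 a62 a72
      have b8 : 8 ≤ m := by omega
      clear b3 b4 b5 b6 b7 hm
      obtain ⟨j, rfl⟩ := Nat.exists_eq_add_of_le' b8
      have h2 := exp2 (j := j)
      have h3 : (2 * 2 ^ (2 * (j + 8) ^ 2 + 2)) ^ 3 ≤ (3 ^ (2 ^ (j + 8 - 1) - 3)) ^ 3 := by
        calc (2 * 2 ^ (2 * (j + 8) ^ 2 + 2)) ^ 3 = (2 ^ 3) ^ (2 * (j + 8) ^ 2 + 3) := by
              rw [← pow_succ', ← pow_mul, ← pow_mul, mul_comm 3]
          _ ≤ (3 ^ 2) ^ (2 * (j + 8) ^ 2 + 3) := Nat.pow_le_pow_left (by norm_num) _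
          _ = 3 ^ (2 * (2 * (j + 8) ^ 2 + 3)) := by rw [← pow_mul]
          _ ≤ 3 ^ ((2 ^ (j + 8 - 1) - 3) * 3) := Nat.pow_le_pow_right (by norm_num) (by
            have : j + 8 - 1 = j + 7 := by omega
            rw [this]; omega)
          _ = _ := by rw [pow_mul]
      exact (Nat.pow_le_pow_iff_left (by norm_num)).1 h3
    · rw [if_neg (by norm_num)]
      have b3 : m ≠ 3 := fun e => a33 ⟨e, rfl⟩
      have b4 : m ≠ 4 := fun e => a43 ⟨e, rfl⟩
      have b5 : m ≠ 5 := fun e => a53 ⟨e, rfl⟩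
      clear a32 a33 a34 a42 a43 a52 a53 a62 a72
      have b6 : 6 ≤ m := by omega
      clear b3 b4 b5 hm
      obtain ⟨j, rfl⟩ := Nat.exists_eq_add_of_le' b6
      have h2 := exp3 (j := j)
      have h3 : (2 * 3 ^ (2 * (j + 6) ^ 2 + 2)) ^ 3 ≤ (2 ^ (3 ^ (j + 6 - 1) - 3)) ^ 3 := by
        calc (2 * 3 ^ (2 * (j + 6) ^ 2 + 2)) ^ 3 = 2 ^ 3 * (3 ^ 3) ^ (2 * (j + 6) ^ 2 + 2) := by
              rw [mul_pow, ← pow_mul, ← pow_mul, mul_comm 3]
          _ ≤ 2 ^ 3 * (2 ^ 5) ^ (2 * (j + 6) ^ 2 + 2) :=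
              Nat.mul_le_mul_left _ (Nat.pow_le_pow_left (by norm_num) _)
          _ = 2 ^ (3 + 5 * (2 * (j + 6) ^ 2 + 2)) := by rw [← pow_mul, ← pow_add]
          _ ≤ 2 ^ ((3 ^ (j + 6 - 1) - 3) * 3) := Nat.pow_le_pow_right (by norm_num) (by
            have : j + 6 - 1 = j + 5 := by omega
            rw [this]; omega)
          _ = _ := by rw [pow_mul]
      exact (Nat.pow_le_pow_iff_left (by norm_num)).1 h3
    · rw [if_pos (by norm_num)]
      have b3 : m ≠ 3 := fun e => a34 ⟨e, rfl⟩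
      clear a32 a33 a34 a42 a43 a52 a53 a62 a72
      have b4 : 4 ≤ m := by omega
      clear b3 hm
      obtain ⟨j, rfl⟩ := Nat.exists_eq_add_of_le' b4
      have h2 := exp44 (j := j)
      have h3 : (2 * 4 ^ (2 * (j + 4) ^ 2 + 2)) ^ 3 ≤ (3 ^ (4 ^ (j + 4 - 1) - 3)) ^ 3 := by
        calc (2 * 4 ^ (2 * (j + 4) ^ 2 + 2)) ^ 3 = 2 ^ 3 * (4 ^ 3) ^ (2 * (j + 4) ^ 2 + 2) := by
              rw [mul_pow, ← pow_mul, ← pow_mul, mul_comm 3]
          _ ≤ 3 ^ 2 * (3 ^ 4) ^ (2 * (j + 4) ^ 2 + 2) :=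
              Nat.mul_le_mul (by norm_num) (Nat.pow_le_pow_left (by norm_num) _)
          _ = 3 ^ (2 + 4 * (2 * (j + 4) ^ 2 + 2)) := by rw [← pow_mul, ← pow_add]
          _ ≤ 3 ^ ((4 ^ (j + 4 - 1) - 3) * 3) := Nat.pow_le_pow_right (by norm_num) (by
            have : j + 4 - 1 = j + 3 := by omega
            rw [this]; omega)
          _ = _ := by rw [pow_mul]
      exact (Nat.pow_le_pow_iff_left (by norm_num)).1 h3

/-! ### Degree two -/

def prs : List ℕ := [2, 3, 5, 7, 11, 13, 17, 19, 23, 29, 31, 37, 41, 43, 47, 53, 59, 61, 67, 71, 73, 79, 83, 89, 97,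
  101, 103, 107, 109, 113, 127]

theorem prs_prime : ∀ p ∈ prs, p.Prime := by
  intro p hp
  simp only [prs, List.mem_cons, List.not_mem_nil, or_false] at hp
  rcases hp with rfl | rfl | rfl | rfl | rfl | rfl | rfl | rfl | rfl | rfl | rfl | rfl | rfl | rfl | rfl | rfl | rfl |
    rfl | rfl | rfl | rfl | rfl | rfl | rfl | rfl | rfl | rfl | rfl | rfl | rfl | rfl <;> norm_num

def psOf (r o : ℕ) : List ℕ := prs.filter (fun p => Nat.beq (o % p) 0 && !(Nat.beq p r))

/-- the search for `PSL₂(s)`, `s = r ^ f` -/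
def chk2 (x : ℕ × ℕ) : Bool :=
  let s := x.1 ^ x.2
  let o := s * (s ^ 2 - 1) / Nat.gcd 2 (s - 1)
  chkP x.1 (psOf x.1 o) o (x.2 * (s * (s ^ 2 - 1))) (max 13 ((s - 1) / Nat.gcd 2 (s - 1)))

def L2 : List (ℕ × ℕ) := [(2, 2), (2, 3), (2, 4), (2, 5), (2, 6), (3, 2), (3, 3), (3, 4), (5, 1), (5, 2), (7, 1), (7, 2),
  (11, 1), (13, 1), (17, 1), (19, 1), (23, 1), (29, 1), (31, 1), (37, 1), (41, 1), (43, 1), (47, 1), (53, 1), (59, 1),
  (61, 1), (67, 1), (71, 1), (73, 1), (79, 1), (83, 1), (89, 1), (97, 1), (101, 1), (103, 1)]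

theorem L2_chk : L2.all chk2 = true := by decide +kernel

def memB (f r : ℕ) : Bool :=
  !(decide (Nat.Prime r) && (Nat.ble 1 f && (Nat.ble 4 (r ^ f) && Nat.blt (r ^ f) 107))) ||
    L2.any (fun x => Nat.beq x.1 r && Nat.beq x.2 f)

theorem memB_all : ((List.range 7).all fun f => (List.range 107).all fun r => memB f r) = true := by decide +kernel

theorem mem_L2 {f r : ℕ} (hf : f < 7) (hr : r < 107) (hrp : r.Prime) (h1 : 1 ≤ f) (h4 : 4 ≤ r ^ f)
    (h107 : r ^ f < 107) : (r, f) ∈ L2 := by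
  have h := memB_all
  rw [List.all_eq_true] at h
  have h2 := h f (List.mem_range.2 hf)
  rw [List.all_eq_true] at h2
  have h3 := h2 r (List.mem_range.2 hr)
  have h5 : Nat.blt (r ^ f) 107 = true := by rw [Nat.blt_eq]; exact h107
  rw [memB, decide_eq_true hrp, Nat.ble_eq_true_of_le h1, Nat.ble_eq_true_of_le h4, h5] at h3
  simp only [Bool.and_self, Bool.not_true, Bool.false_or, List.any_eq_true, Bool.and_eq_true] at h3
  obtain ⟨x, hx, hx1, hx2⟩ := h3
  rw [Nat.beq_eq] at hx1 hx2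
  obtain ⟨a, b⟩ := x
  simp only at hx1 hx2
  subst hx1 hx2
  exact hx

theorem chk2_all {r f : ℕ} (hr : r.Prime) (hf : 1 ≤ f) (h4 : 4 ≤ r ^ f) (h107 : r ^ f < 107) :
    chk2 (r, f) = true := by
  have hf6 : f < 7 := by
    by_contra hcon
    have h1 : 2 ^ 7 ≤ r ^ f := (Nat.pow_le_pow_left hr.two_le 7).trans (Nat.pow_le_pow_right hr.pos (by omega))
    omega
  have hr107 : r < 107 := by
    have h1 : r ^ 1 ≤ r ^ f := Nat.pow_le_pow_right hr.pos hf
    rw [pow_one] at h1
    omega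
  have h1 := L2_chk
  rw [List.all_eq_true] at h1
  exact h1 _ (mem_L2 hf6 hr107 hr hf h4 h107)

section

variable {K : Type} [Field K] [Fintype K]

theorem deadP_two {p r f n : ℕ} (hp : p.Prime) (hr : r.Prime) (hf : 1 ≤ f) (hK : Fintype.card K = r ^ f)
    (h4 : 4 ≤ r ^ f) (hn : 13 ≤ n) (hb : (r ^ f - 1) / Nat.gcd 2 (r ^ f - 1) ≤ n) (hpr : p ≠ r)
    (hd : p ∣ Nat.card (ProjectiveSpecialLinearGroup (Fin 2) K)) :
    DeadP p n (ProjectiveSpecialLinearGroup (Fin 2) K) := by
  have := finite_psl (K := K) 2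
  by_cases h107 : r ^ f < 107
  · have h1 := chk2_all hr hf h4 h107
    refine deadP_sieve r _ (card_two hK) (card_aut_two hr hf hK h4).dvd ?_ h1 hp hd hpr (by simpa only [sup_le_iff] using ⟨hn, hb⟩)
    intro q hq
    rcases List.mem_cons.1 hq with rfl | hq
    · exact hr
    · exact prs_prime q (List.mem_of_mem_filter hq)
  · refine deadP_of_pow (b := 2) (A := f * (r ^ f * ((r ^ f) ^ 2 - 1))) hp (by omega) hp.two_le
      (card_aut_two hr hf hK h4).le Nat.card_pos ?_
    refine ineq_two (by omega) (sq_le_pow hr.two_le (by omega)) ?_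
    refine le_trans ?_ hb
    refine Nat.div_le_div_left (Nat.gcd_le_left _ (by norm_num)) (Nat.gcd_pos_of_pos_left _ (by norm_num))

/-- the small cases -/
theorem deadP_exc {p s r f m n n₀ N A : ℕ} {ps : List ℕ} (hp : p.Prime) (hr : r.Prime) (hf : 1 ≤ f) (hs : s = r ^ f)
    (hs2 : 2 ≤ s) (hK : Fintype.card K = s) (hm : 3 ≤ m)
    (hN : Nat.gcd m (s - 1) * ((s - 1) * N) = ∏ i : Fin m, (s ^ m - s ^ (i : ℕ)))
    (hA : 2 * f * (Nat.gcd m (s - 1) * N) = A)
    (h : chkP r ps N A n₀ = true) (hps : ∀ q ∈ ps, q.Prime) (hn : n₀ ≤ n) (hpr : p ≠ r)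
    (hd : p ∣ Nat.card (ProjectiveSpecialLinearGroup (Fin m) K)) :
    DeadP p n (ProjectiveSpecialLinearGroup (Fin m) K) := by
  have h2 := card_three hK (by omega) hs2 hN
  refine deadP_sieve r ps h2 (A := A) ?_ ?_ h hp hd hpr hn
  · rw [← hA, hs, card_aut_three hr hf (by rw [hK, hs]) hm h2]
  · intro q hq
    rcases List.mem_cons.1 hq with rfl | hq
    · exact hr
    · exact hps q hq

theorem deadP_three {p r f m n : ℕ} (hp : p.Prime) (hr : r.Prime) (hf : 1 ≤ f) (hK : Fintype.card K = r ^ f)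
    (hm : 3 ≤ m) (hn : 13 ≤ n)
    (hb : (m, Fintype.card K) ∉ ({(2, 4), (2, 9), (3, 2), (3, 4), (4, 2)} : Set (ℕ × ℕ)) → (r ^ f) ^ (m - 1) - 1 ≤ n)
    (hpr : p ≠ r) (hd : p ∣ Nat.card (ProjectiveSpecialLinearGroup (Fin m) K)) :
    DeadP p n (ProjectiveSpecialLinearGroup (Fin m) K) := by
  have := finite_psl (K := K) m
  have hs2 : 2 ≤ r ^ f := by rw [← hK]; exact Fintype.one_lt_card
  by_cases hexc : (m, r ^ f) ∈ E
  · simp only [E, Set.mem_insert_iff, Set.mem_singleton_iff, Prod.mk.injEq] at hexc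
    have key : ∀ {q k : ℕ}, q.Prime → k ≠ 0 → r ^ f = q ^ k → r = q ∧ f = k := by
      intro q k hq hk h
      have h1 : q = r := by
        have h2 : q ∣ r ^ f := h ▸ dvd_pow_self q hk
        exact (Nat.prime_dvd_prime_iff_eq hq hr).1 (hq.dvd_of_dvd_pow h2)
      subst h1
      exact ⟨rfl, Nat.pow_right_injective hq.two_le h⟩
    rcases hexc with ⟨rfl, h⟩ | ⟨rfl, h⟩ | ⟨rfl, h⟩ | ⟨rfl, h⟩ | ⟨rfl, h⟩ | ⟨rfl, h⟩ | ⟨rfl, h⟩ | ⟨rfl, h⟩ |
      ⟨rfl, h⟩ | ⟨rfl, h⟩ | ⟨rfl, h⟩
    · obtain ⟨rfl, rfl⟩ := key (q := 2) (k := 1) Nat.prime_two one_ne_zero (by rw [h]; norm_num)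
      exact deadP_exc hp hr hf h.symm le_rfl (by rw [hK, h]) hm (by simp only [Nat.add_one_sub_one, Nat.gcd_one_right,
          one_mul, Nat.reducePow, Fin.prod_univ_succ, Fin.isValue, Fin.coe_ofNat_eq_mod, Nat.zero_mod, pow_zero,
          Fin.val_succ, zero_add, pow_one, Nat.reduceSub, Finset.univ_unique, Fin.default_eq_zero, Fin.val_eq_zero,
          Nat.reduceAdd, Finset.prod_const, Finset.card_singleton, Nat.reduceMul]) (by norm_num)
        TabP.psl3_2 (by simp; norm_num) hn hpr hd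
    · obtain ⟨rfl, rfl⟩ := key (q := 3) (k := 1) Nat.prime_three one_ne_zero (by rw [h]; norm_num)
      exact deadP_exc hp hr hf h.symm (by norm_num) (by rw [hK, h]) hm (by simp only [Nat.add_one_sub_one, Nat.reduceGcd,
          Nat.reduceMul, one_mul, Nat.reducePow, Fin.prod_univ_succ, Fin.isValue, Fin.coe_ofNat_eq_mod, Nat.zero_mod,
          pow_zero, Fin.val_succ, zero_add, pow_one, Nat.reduceSub, Finset.univ_unique, Fin.default_eq_zero,
          Fin.val_eq_zero, Nat.reduceAdd, Finset.prod_const, Finset.card_singleton]) (by norm_num)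
        TabP.psl3_3 (by simp; norm_num) hn hpr hd
    · obtain ⟨rfl, rfl⟩ := key (q := 2) (k := 2) Nat.prime_two two_ne_zero (by rw [h]; norm_num)
      exact deadP_exc hp hr hf h.symm (by norm_num) (by rw [hK, h]) hm (by simp only [Nat.add_one_sub_one, Nat.gcd_self,
          Nat.reduceMul, Nat.reducePow, Fin.prod_univ_succ, Fin.isValue, Fin.coe_ofNat_eq_mod, Nat.zero_mod, pow_zero,
          Fin.val_succ, zero_add, pow_one, Nat.reduceSub, Finset.univ_unique, Fin.default_eq_zero, Fin.val_eq_zero,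
          Nat.reduceAdd, Finset.prod_const, Finset.card_singleton]) (by norm_num)
        TabP.psl3_4 (by simp; norm_num) hn hpr hd
    · obtain ⟨rfl, rfl⟩ := key (q := 5) (k := 1) Nat.prime_five one_ne_zero (by rw [h]; norm_num)
      have hn2 := hb (by rw [hK, h]; simp)
      rw [h] at hn2
      exact deadP_exc hp hr hf h.symm (by norm_num) (by rw [hK, h]) hm (by simp only [Nat.add_one_sub_one, Nat.reduceGcd,
          Nat.reduceMul, one_mul, Nat.reducePow, Fin.prod_univ_succ, Fin.isValue, Fin.coe_ofNat_eq_mod, Nat.zero_mod,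
          pow_zero, Fin.val_succ, zero_add, pow_one, Nat.reduceSub, Finset.univ_unique, Fin.default_eq_zero,
          Fin.val_eq_zero, Nat.reduceAdd, Finset.prod_const, Finset.card_singleton]) (by norm_num)
        TabP.psl3_5 (by simp only [List.mem_cons, List.not_mem_nil, or_false, forall_eq_or_imp, forall_eq]; norm_num) hn2 hpr hd
    · obtain ⟨rfl, rfl⟩ := key (q := 7) (k := 1) (by norm_num) one_ne_zero (by rw [h]; norm_num)
      have hn2 := hb (by rw [hK, h]; simp)
      rw [h] at hn2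
      exact deadP_exc hp hr hf h.symm (by norm_num) (by rw [hK, h]) hm (by simp only [Nat.add_one_sub_one, Nat.reduceGcd,
          Nat.reduceMul, Nat.reducePow, Fin.prod_univ_succ, Fin.isValue, Fin.coe_ofNat_eq_mod, Nat.zero_mod, pow_zero,
          Fin.val_succ, zero_add, pow_one, Nat.reduceSub, Finset.univ_unique, Fin.default_eq_zero, Fin.val_eq_zero,
          Nat.reduceAdd, Finset.prod_const, Finset.card_singleton]) (by norm_num)
        TabP.psl3_7 (by simp; norm_num) hn2 hpr hd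
    · obtain ⟨rfl, rfl⟩ := key (q := 2) (k := 1) Nat.prime_two one_ne_zero (by rw [h]; norm_num)
      exact deadP_exc hp hr hf h.symm (by norm_num) (by rw [hK, h]) hm (by simp only [Nat.add_one_sub_one,
          Nat.gcd_one_right, one_mul, Nat.reducePow, Fin.prod_univ_succ, Fin.isValue, Fin.coe_ofNat_eq_mod, Nat.zero_mod,
          pow_zero, Fin.val_succ, zero_add, pow_one, Nat.reduceSub, Nat.reduceAdd, Finset.univ_unique, Fin.default_eq_zero,
          Fin.val_eq_zero, Finset.prod_const, Finset.card_singleton, Nat.reduceMul]) (by norm_num)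
        TabP.psl4_2 (by simp; norm_num) hn hpr hd
    · obtain ⟨rfl, rfl⟩ := key (q := 3) (k := 1) Nat.prime_three one_ne_zero (by rw [h]; norm_num)
      have hn2 := hb (by rw [hK, h]; simp)
      rw [h] at hn2
      exact deadP_exc hp hr hf h.symm (by norm_num) (by rw [hK, h]) hm (by simp only [Nat.add_one_sub_one, Nat.reduceGcd,
          Nat.reduceMul, Nat.reducePow, Fin.prod_univ_succ, Fin.isValue, Fin.coe_ofNat_eq_mod, Nat.zero_mod, pow_zero,
          Fin.val_succ, zero_add, pow_one, Nat.reduceSub, Nat.reduceAdd, Finset.univ_unique, Fin.default_eq_zero,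
          Fin.val_eq_zero, Finset.prod_const, Finset.card_singleton]) (by norm_num)
        TabP.psl4_3 (by simp; norm_num) hn2 hpr hd
    · obtain ⟨rfl, rfl⟩ := key (q := 2) (k := 1) Nat.prime_two one_ne_zero (by rw [h]; norm_num)
      have hn2 := hb (by rw [hK, h]; simp)
      rw [h] at hn2
      exact deadP_exc hp hr hf h.symm (by norm_num) (by rw [hK, h]) hm (by simp only [Nat.add_one_sub_one,
          Nat.gcd_one_right, one_mul, Nat.reducePow, Fin.prod_univ_succ, Fin.isValue, Fin.coe_ofNat_eq_mod, Nat.zero_mod,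
          pow_zero, Fin.val_succ, zero_add, pow_one, Nat.reduceSub, Nat.reduceAdd, Finset.univ_unique, Fin.default_eq_zero,
          Fin.val_eq_zero, Finset.prod_const, Finset.card_singleton, Nat.reduceMul]) (by norm_num)
        TabP.psl5_2 (by simp; norm_num) hn2 hpr hd
    · obtain ⟨rfl, rfl⟩ := key (q := 3) (k := 1) Nat.prime_three one_ne_zero (by rw [h]; norm_num)
      have hn2 := hb (by rw [hK, h]; simp)
      rw [h] at hn2
      exact deadP_exc hp hr hf h.symm (by norm_num) (by rw [hK, h]) hm (by simp only [Nat.add_one_sub_one, Nat.reduceGcd,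
          Nat.reduceMul, one_mul, Nat.reducePow, Fin.prod_univ_succ, Fin.isValue, Fin.coe_ofNat_eq_mod, Nat.zero_mod,
          pow_zero, Fin.val_succ, zero_add, pow_one, Nat.reduceSub, Nat.reduceAdd, Finset.univ_unique, Fin.default_eq_zero,
          Fin.val_eq_zero, Finset.prod_const, Finset.card_singleton]) (by norm_num)
        TabP.psl5_3 (by simp; norm_num) hn2 hpr hd
    · obtain ⟨rfl, rfl⟩ := key (q := 2) (k := 1) Nat.prime_two one_ne_zero (by rw [h]; norm_num)
      have hn2 := hb (by rw [hK, h]; simp)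
      rw [h] at hn2
      exact deadP_exc hp hr hf h.symm (by norm_num) (by rw [hK, h]) hm (by simp only [Nat.add_one_sub_one,
          Nat.gcd_one_right, one_mul, Nat.reducePow, Fin.prod_univ_succ, Fin.isValue, Fin.coe_ofNat_eq_mod, Nat.zero_mod,
          pow_zero, Fin.val_succ, zero_add, pow_one, Nat.reduceSub, Nat.reduceAdd, Finset.univ_unique, Fin.default_eq_zero,
          Fin.val_eq_zero, Finset.prod_const, Finset.card_singleton, Nat.reduceMul]) (by norm_num)
        TabP.psl6_2 (by simp; norm_num) hn2 hpr hd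
    · obtain ⟨rfl, rfl⟩ := key (q := 2) (k := 1) Nat.prime_two one_ne_zero (by rw [h]; norm_num)
      have hn2 := hb (by rw [hK, h]; simp)
      rw [h] at hn2
      exact deadP_exc hp hr hf h.symm (by norm_num) (by rw [hK, h]) hm (by simp only [Nat.add_one_sub_one,
          Nat.gcd_one_right, one_mul, Nat.reducePow, Fin.prod_univ_succ, Fin.isValue, Fin.coe_ofNat_eq_mod, Nat.zero_mod,
          pow_zero, Fin.val_succ, zero_add, pow_one, Nat.reduceSub, Nat.reduceAdd, Finset.univ_unique, Fin.default_eq_zero,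
          Fin.val_eq_zero, Finset.prod_const, Finset.card_singleton, Nat.reduceMul]) (by norm_num)
        TabP.psl7_2 (by simp only [_root_.List.mem_cons, _root_.List.not_mem_nil, _root_.or_false, _root_.forall_eq_or_imp, _root_.forall_eq]; norm_num) hn2 hpr hd
  · have h6 : r ^ f ≠ 6 := by
      intro h6
      have h2 : 2 ∣ r ^ f := by rw [h6]; norm_num
      have h3 : 3 ∣ r ^ f := by rw [h6]; norm_num
      have e2 := (Nat.prime_dvd_prime_iff_eq Nat.prime_two hr).1 (Nat.prime_two.dvd_of_dvd_pow h2)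
      have e3 := (Nat.prime_dvd_prime_iff_eq Nat.prime_three hr).1 (Nat.prime_three.dvd_of_dvd_pow h3)
      omega
    have h1 := pow_ineq hs2 hm h6 hexc
    have hn2 := hb (by
      rw [hK]
      simp only [E, Set.mem_insert_iff, Set.mem_singleton_iff, Prod.mk.injEq, not_or] at hexc ⊢
      (clear * - hm hexc; solve | lia | omega))
    have hb' : (if r ^ f % 2 = 0 ∧ r ^ f ≤ 4 then 3 else 2) ≤ p := by
      split_ifs with h
      · have h2 : 2 ∣ r ^ f := Nat.dvd_of_mod_eq_zero h.1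
        have e2 := (Nat.prime_dvd_prime_iff_eq Nat.prime_two hr).1 (Nat.prime_two.dvd_of_dvd_pow h2)
        have := hp.two_le
        omega
      · exact hp.two_le
    refine deadP_of_pow (A := (r ^ f) ^ (m ^ 2 + 1)) hp (by omega) hb' ?_ Nat.card_pos ?_
    · have := Fact.mk hr
      have h1 := Cfsg.Agent.S0813.result (F := K) r f hf hK m (by omega) (by omega)
      rw [if_neg (by omega)] at h1
      rw [h1]
      calc 2 * f * Nat.card (ProjGenLinGroup (Fin m) K) ≤ r ^ f * (r ^ f) ^ (m * m) := by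
            refine Nat.mul_le_mul (two_mul_le_pow hr.two_le hf) ?_
            rw [← hK]
            exact card_pgl_le K (by omega)
        _ = (r ^ f) ^ (m ^ 2 + 1) := by rw [← pow_succ']; congr 1; ring
    · calc 2 * ((r ^ f) ^ (m ^ 2 + 1)) ^ 2 = 2 * (r ^ f) ^ (2 * m ^ 2 + 2) := by
            rw [← pow_mul]; congr 2; ring
        _ ≤ _ := h1
        _ ≤ _ := Nat.pow_le_pow_right (by split_ifs <;> norm_num) (by omega)

end

/-! ### The theorem -/

/-- **`PSL`**, degree at least `13` -/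
theorem deadP_psl {F : Type u} [Field F] [Finite F] {n p : ℕ} [Fact p.Prime] [CharP F p]
    {P : Subgroup (Matrix.GeneralLinearGroup (Fin n) F)} (hC : Core P) (hn : 13 ≤ n) (hp : p ∣ Nat.card (Soc P))
    (hL : ¬ Cfsg.IsLieTypeChar p (Soc P)) (hT : Cfsg.IsPSL (Soc P)) : DeadP p n (Soc P) := by
  obtain ⟨K, _, _, m, hm, hm2, ⟨e⟩⟩ := hT
  obtain ⟨r, f, hr, hf, hK, hch⟩ := exists_pf K
  refine DeadP.congr e.symm ?_
  have hcard : Nat.card (Soc P) = Nat.card (ProjectiveSpecialLinearGroup (Fin m) K) := Nat.card_congr e.toEquiv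
  have hpp : p.Prime := Fact.out
  have hpr : p ≠ r := by
    rintro rfl
    exact hL (Or.inl ⟨K, _, _, hch, m, hm, hm2, ⟨e⟩⟩)
  have hrF : (r : F) ≠ 0 := by
    intro h0
    exact hpr ((Nat.prime_dvd_prime_iff_eq (Fact.out : p.Prime) hr).1 ((CharP.cast_eq_zero_iff F p r).1 h0))
  have hPR : (m, Fintype.card K) ∉ ({(2, 4), (2, 9), (3, 2), (3, 4), (4, 2)} : Set (ℕ × ℕ)) → PR F n r (Soc P) := by
    intro hexc
    have hd : r ∣ Fintype.card K := hK ▸ dvd_pow_self r (by omega)
    refine PR.of_noR ((NoR.of_cyclic (S2086.result (F := K) rfl m hm hm2 hexc)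
      (coprime_gcd_sub hr Fintype.card_pos hd)).congr e) P hC.perfect (MulEquiv.refl _)
  by_cases h2 : m = 2
  · subst h2
    refine deadP_two hpp hr hf hK (hK ▸ hm2 rfl) hn ?_ hpr (hcard ▸ hp)
    rw [← hK]
    by_cases hexc : (2, Fintype.card K) ∈ ({(2, 4), (2, 9), (3, 2), (3, 4), (4, 2)} : Set (ℕ × ℕ))
    · have h3 : Fintype.card K = 4 ∨ Fintype.card K = 9 := by
        simpa only [_root_.Set.mem_insert_iff, _root_.Prod.mk.injEq, _root_.true_and, _root_.Nat.reduceEqDiff, _root_.false_and, _root_.Set.mem_singleton_iff, _root_.or_self, _root_.or_false] using hexc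
      rcases h3 with h3 | h3 <;> rw [h3] <;> norm_num <;> omega
    · refine H203.BdSL2.bd_of_sl2 hr rfl hrF (e.symm.toMonoidHom.comp (QuotientGroup.mk' _)) ?_ n (hPR hexc)
      intro x hx
      have h1 : e.symm (QuotientGroup.mk' _ x) = 1 := hx
      rw [MulEquiv.map_eq_one_iff, QuotientGroup.mk'_apply, QuotientGroup.eq_one_iff] at h1
      exact h1
  · refine deadP_three hpp hr hf hK (by omega) hn (fun hexc => ?_) hpr (hcard ▸ hp)
    rw [← hK]
    exact (bd_psl (F := F) hr hrF (by omega) inferInstance).congr e n (hPR hexc)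

end Cfsg.Agent.H337.HT.PslP

private theorem dce_3c7ab8176fef : _root_.True := by
  try have : _root_.True := by simp only [_root_.Cfsg.Agent.H337.HT.PslP.prs.eq_1]
  try have : _root_.True := by simp only [_root_.Cfsg.Agent.H337.HT.PslP.memB.eq_1]
  try have : _root_.True := by simp only [_root_.Cfsg.Agent.H337.HT.PslP.E.eq_1]
  exact _root_.True.intro
end
end
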